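import Cfsg.Agent.S0420
import Cfsg.Agent.SporadicStructure.M11InvPerms
import Cfsg.Prelude.Def_Spor_Mathieu

/-!
A simple group of order 7920 is isomorphic to the explicit Mathieu group of degree 11.
-/

set_option autoImplicit false

open scoped Pointwise
open Cfsg

namespace Cfsg.Agent.TwoGenCore.IsoMEleven

open Cfsg.Agent.SporadicStructure.M11InvPerms

theorem squareDodecad_mem : Spor.squareDodecad ∈ dodecads := by
  have h : Spor.squareDodecad = dd := by
    unfold Spor.squareDodecad dd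
    rw [qrWord_eq]
  rw [h]
  exact dd_mem

theorem zero_mem_squareDodecad : (some 0 : GolayPt) ∈ Spor.squareDodecad := by
  have h : Spor.squareDodecad = dd := by
    unfold Spor.squareDodecad dd
    rw [qrWord_eq]
  rw [h]
  decide +kernel

/-- A simple group of order 7920 is the Mathieu group of degree 11. -/
theorem isoM11 {G : Type*} [Group G] [Finite G] (hG : Cfsg.IsM11 G) : Spor.IsoM11 G := by
  obtain ⟨e⟩ := Cfsg.Agent.S0420.result hG _ squareDodecad_mem _ zero_mem_squareDodecad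
  let f : ↥(MulAction.stabilizer Cfsg.M24 Spor.squareDodecad ⊓
      MulAction.stabilizer Cfsg.M24 (some 0 : GolayPt)) →* Spor.M11 :=
    { toFun := fun x => ⟨((x : Cfsg.M24) : Equiv.Perm GolayPt), by
        have h := Subgroup.mem_inf.1 x.2
        exact Subgroup.mem_inf.2 ⟨Subgroup.mem_inf.2 ⟨x.1.2, h.1⟩, h.2⟩⟩
      map_one' := rfl
      map_mul' := fun _ _ => rfl }
  refine ⟨e.trans (MulEquiv.ofBijective f ⟨?_, ?_⟩)⟩
  · intro x y hxy
    have h : (f x).1 = (f y).1 := congrArg Subtype.val hxy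
    exact Subtype.ext (Subtype.ext h)
  · rintro ⟨g, hg⟩
    have h1 := Subgroup.mem_inf.1 hg
    have h2 := Subgroup.mem_inf.1 h1.1
    exact ⟨⟨⟨g, h2.1⟩, Subgroup.mem_inf.2 ⟨h2.2, h1.2⟩⟩, rfl⟩

end Cfsg.Agent.TwoGenCore.IsoMEleven
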