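import Mathlib
import Cfsg.Prelude.Def_ClassificationK
import Cfsg.Prelude.Def_Involutions
import Cfsg.Agent.Lib.CoprimeHyperplane

/-!
# Proper 2-generated cores: involutions

`Closed H` : `H` contains the normalizer (in `G`) of each of its 2-subgroups of 2-rank at least 2.
For a Sylow 2-subgroup `S` of 2-rank at least 2 the 2-generated core `kGeneratedCore 2 2 S` has this
property.  Everything here is proved from `Closed H` alone:

* `mem_of_sylow_inf` : the Sylow argument (any prime);
* `Closed.mem_of_le` : a 2-subgroup of 2-rank `≥ 2` inside `H ∩ gHg⁻¹` forces `g ∈ H`;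
* `Closed.eq_of_commute` : for an involution `t` and `g ∈ C_G(t) \ H`, the only involution of
  `C(t) ∩ H ∩ gHg⁻¹` is `t`;
* `Closed.isStronglyEmbedded` : if `C_G(t) ≤ H` for all involutions `t ∈ H`, `H` is strongly embedded;
* inheritance to subgroups, to quotients by normal odd order subgroups inside `H`.
-/

set_option autoImplicit false

open scoped Pointwise

namespace Cfsg.Agent.TwoGenCore.Involution

open Cfsg

universe u

variable {G : Type u} [Group G]

/-! ### rank facts -/

theorem pRankLE_of_injective {p k : ℕ} {A B : Type*} [Group A] [Group B] (f : A →* B)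
    (hf : Function.Injective f) (h : PRankLE p k B) : PRankLE p k A := by
  intro E hE hp
  have hEm : IsMulCommutative (E.map f) := by
    refine ⟨⟨?_⟩⟩
    rintro ⟨_, x, hx, rfl⟩ ⟨_, y, hy, rfl⟩
    have := hE.is_comm.comm ⟨x, hx⟩ ⟨y, hy⟩
    have h1 : x * y = y * x := congrArg Subtype.val this
    apply Subtype.ext
    show f x * f y = f y * f x
    rw [← map_mul, h1, map_mul]
  have := h (E.map f) hEm (by
    rintro _ ⟨x, hx, rfl⟩
    rw [← map_pow, hp x hx, map_one])
  rwa [Subgroup.card_map_of_injective hf] at this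

theorem pRankLE_mono {p k : ℕ} {X Y : Subgroup G} (h : X ≤ Y) (hY : PRankLE p k Y) :
    PRankLE p k X :=
  pRankLE_of_injective (Subgroup.inclusion h) (Subgroup.inclusion_injective h) hY

theorem pRankLE_map {p k : ℕ} {X : Subgroup G} {B : Type*} [Group B] (f : G →* B)
    (hf : Function.Injective f) : PRankLE p k (X.map f) ↔ PRankLE p k X := by
  constructor
  · intro h
    exact pRankLE_of_injective ((X.equivMapOfInjective f hf).toMonoidHom)
      (X.equivMapOfInjective f hf).injective h
  · intro h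
    exact pRankLE_of_injective ((X.equivMapOfInjective f hf).symm.toMonoidHom)
      (X.equivMapOfInjective f hf).symm.injective h

/-- Two different commuting involutions in a subgroup make the 2-rank at least 2. -/
theorem not_pRankLE_of_commute [Finite G] {X : Subgroup G} {s t : G} (hs : s ∈ X) (ht : t ∈ X)
    (hs2 : orderOf s = 2) (ht2 : orderOf t = 2) (hst : Commute s t) (hne : s ≠ t) :
    ¬ PRankLE 2 1 X := by
  intro h
  let K : Subgroup X := Subgroup.closure {⟨s, hs⟩, ⟨t, ht⟩}
  have hcomm : ∀ x ∈ ({⟨s, hs⟩, ⟨t, ht⟩} : Set X), ∀ y ∈ ({⟨s, hs⟩, ⟨t, ht⟩} : Set X),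
      x * y = y * x := by
    rintro x (rfl | rfl) y (rfl | rfl)
    · rfl
    · exact Subtype.ext hst.eq
    · exact Subtype.ext hst.eq.symm
    · rfl
  have hKc : IsMulCommutative K := Subgroup.isMulCommutative_closure hcomm
  have hsq : ∀ {a : G}, orderOf a = 2 → a ^ 2 = 1 := fun ha => by rw [← ha]; exact pow_orderOf_eq_one _
  have hK2 : ∀ a ∈ K, a ^ 2 = 1 := by
    intro a ha
    induction ha using Subgroup.closure_induction with
    | mem x hx =>
      rcases hx with rfl | rfl
      · exact Subtype.ext (hsq hs2)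
      · exact Subtype.ext (hsq ht2)
    | one => exact one_pow 2
    | mul x y hx hy hx2 hy2 =>
      have hxy : x * y = y * x := congrArg Subtype.val (hKc.is_comm.comm ⟨x, hx⟩ ⟨y, hy⟩)
      have : Commute x y := hxy
      rw [this.mul_pow, hx2, hy2, one_mul]
    | inv x hx hx2 => rw [inv_pow, hx2, inv_one]
  have hcard := h K hKc hK2
  have h1 : (1 : X) ∈ K := K.one_mem
  have h2 : (⟨s, hs⟩ : X) ∈ K := Subgroup.subset_closure (by simp)
  have h3 : (⟨t, ht⟩ : X) ∈ K := Subgroup.subset_closure (by simp)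
  have hs1 : s ≠ 1 := by rintro rfl; simp at hs2
  have ht1 : t ≠ 1 := by rintro rfl; simp at ht2
  have : 3 ≤ Nat.card K := by
    have hsub : ({1, ⟨s, hs⟩, ⟨t, ht⟩} : Set X) ⊆ (K : Set X) := by
      rintro x (rfl | rfl | rfl)
      · exact h1
      · exact h2
      · exact h3
    have hc3 : ({1, ⟨s, hs⟩, ⟨t, ht⟩} : Set X).ncard = 3 := by
      rw [Set.ncard_eq_three]
      refine ⟨1, ⟨s, hs⟩, ⟨t, ht⟩, ?_, ?_, ?_, rfl⟩
      · intro hh; exact hs1 (congrArg Subtype.val hh).symm
      · intro hh; exact ht1 (congrArg Subtype.val hh).symm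
      · intro hh; exact hne (congrArg Subtype.val hh)
    rw [← hc3]
    exact Set.ncard_le_ncard hsub (Set.toFinite _)
  omega

/-- A nontrivial 2-group of 2-rank at most one has a unique involution (which is central). -/
theorem exists_unique_involution [Finite G] {X : Subgroup G} (hX : IsPGroup 2 X) (hne : X ≠ ⊥)
    (h : PRankLE 2 1 X) :
    ∃ t ∈ X, orderOf t = 2 ∧ (∀ x ∈ X, Commute t x) ∧ ∀ s ∈ X, orderOf s = 2 → s = t := by
  have : Nontrivial X := (Subgroup.nontrivial_iff_ne_bot X).mpr hne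
  have : Nontrivial (Subgroup.center X) := hX.center_nontrivial
  have hcp : IsPGroup 2 (Subgroup.center X) := hX.to_subgroup _
  obtain ⟨n, hn, hcard⟩ := hcp.nontrivial_iff_card.mp this
  have hdvd : 2 ∣ Nat.card (Subgroup.center X) := by
    rw [hcard]; exact dvd_pow_self 2 (by omega)
  obtain ⟨z, hz⟩ := exists_prime_orderOf_dvd_card' 2 hdvd
  have hz2 : orderOf ((z : X) : G) = 2 := by
    rw [Subgroup.orderOf_coe, Subgroup.orderOf_coe]; exact hz
  have hzc : ∀ x ∈ X, Commute ((z : X) : G) x := by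
    intro x hx
    have := Subgroup.mem_center_iff.mp z.2 ⟨x, hx⟩
    exact (congrArg Subtype.val this).symm
  refine ⟨((z : X) : G), (z : X).2, hz2, hzc, ?_⟩
  intro s hs hs2
  by_contra hne'
  exact not_pRankLE_of_commute hs (z : X).2 hs2 hz2 (hzc s hs).symm hne' h

theorem mem_conj_iff {H : Subgroup G} {g x : G} :
    x ∈ H.map (MulAut.conj g).toMonoidHom ↔ g⁻¹ * x * g ∈ H := by
  rw [Subgroup.mem_map]
  constructor
  · rintro ⟨y, hy, rfl⟩
    simpa [MulAut.conj_apply, mul_assoc] using hy
  · intro h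
    exact ⟨_, h, by simp [MulAut.conj_apply, mul_assoc]⟩

theorem normalizer_conj (X : Subgroup G) (g : G) :
    Subgroup.normalizer ((X.map (MulAut.conj g).toMonoidHom : Subgroup G) : Set G) =
      (Subgroup.normalizer (X : Set G)).map (MulAut.conj g).toMonoidHom := by
  ext x
  rw [mem_conj_iff, Subgroup.mem_normalizer_iff, Subgroup.mem_normalizer_iff]
  constructor
  · intro h y
    have := h (g * y * g⁻¹)
    rw [mem_conj_iff, mem_conj_iff] at this
    simpa [mul_assoc] using this
  · intro h y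
    have := h (g⁻¹ * y * g)
    rw [mem_conj_iff, mem_conj_iff]
    simpa [mul_assoc] using this

/-- **Sylow argument.**  Let `T` be a maximal `p`-subgroup of `H ∩ gHg⁻¹` whose normalizer in `G` is
contained in `H ∩ gHg⁻¹`.  Then `g ∈ H`. -/
theorem mem_of_sylow_inf [Finite G] {p : ℕ} [Fact p.Prime] {H T : Subgroup G} {g : G}
    (hT : IsPGroup p T) (hTle : T ≤ H ⊓ H.map (MulAut.conj g).toMonoidHom)
    (hmax : ∀ Q : Subgroup G, IsPGroup p Q → T ≤ Q → Q ≤ H ⊓ H.map (MulAut.conj g).toMonoidHom →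
      Q = T)
    (hN : Subgroup.normalizer (T : Set G) ≤ H ⊓ H.map (MulAut.conj g).toMonoidHom) : g ∈ H := by
  obtain ⟨P, hTP⟩ := hT.exists_le_sylow
  -- `T = P`
  have hTPeq : T = P := by
    by_contra hne
    have hlt : T < (P : Subgroup G) := lt_of_le_of_ne hTP hne
    have hnil : Group.IsNilpotent P := P.2.isNilpotent
    have hsub : T.subgroupOf P < ⊤ := by
      rw [lt_top_iff_ne_top]
      intro h
      rw [Subgroup.subgroupOf_eq_top] at h
      exact absurd (le_antisymm hTP h) hne
    have hnc := Group.normalizerCondition_of_isNilpotent (G := P) (T.subgroupOf P) hsub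
    obtain ⟨x, hxN, hxT⟩ := SetLike.exists_of_lt hnc
    have hxG : (x : G) ∈ Subgroup.normalizer (T : Set G) := by
      rw [Subgroup.mem_normalizer_iff] at hxN ⊢
      intro y
      constructor
      · intro hy
        have := (hxN ⟨y, hTP hy⟩).mp (by rw [Subgroup.mem_subgroupOf]; exact hy)
        rw [Subgroup.mem_subgroupOf] at this
        simpa using this
      · intro hy
        have hyP : y ∈ (P : Subgroup G) := by
          have h1 : (x : G) * y * (x : G)⁻¹ ∈ (P : Subgroup G) := hTP hy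
          have h2 := (P : Subgroup G).mul_mem ((P : Subgroup G).mul_mem
            ((P : Subgroup G).inv_mem x.2) h1) x.2
          simpa [mul_assoc] using h2
        have := (hxN ⟨y, hyP⟩).mpr (by rw [Subgroup.mem_subgroupOf]; simpa using hy)
        rw [Subgroup.mem_subgroupOf] at this
        exact this
    -- the subgroup `⟨T, x⟩`
    have hxnT : (x : G) ∉ T := by
      intro h; exact hxT (by rw [Subgroup.mem_subgroupOf]; exact h)
    have hTN : T ≤ Subgroup.normalizer (T : Set G) := Subgroup.le_normalizer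
    have hQ : (T ⊔ Subgroup.zpowers (x : G)) = T := by
      apply hmax
      · exact P.2.to_le (sup_le hTP (by
          rw [Subgroup.zpowers_le]; exact x.2))
      · exact le_sup_left
      · exact sup_le hTle (by rw [Subgroup.zpowers_le]; exact hN hxG)
    exact hxnT (hQ ▸ (le_sup_right : Subgroup.zpowers (x : G) ≤ _) (Subgroup.mem_zpowers _))
  -- now `T` and `g⁻¹Tg` are Sylow in `H`
  have hTH : T ≤ H := hTle.trans inf_le_left
  have hTg : T ≤ H.map (MulAut.conj g).toMonoidHom := hTle.trans inf_le_right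
  have hT'H : T.map (MulAut.conj g⁻¹).toMonoidHom ≤ H := by
    rintro _ ⟨y, hy, rfl⟩
    have := mem_conj_iff.mp (hTg hy)
    simpa [MulAut.conj_apply, mul_assoc] using this
  let P₁ : Sylow p H := P.subtype (hTPeq ▸ hTH)
  have hP₂le : ((g⁻¹ • P : Sylow p G) : Subgroup G) ≤ H := by
    rw [Sylow.coe_subgroup_smul]
    intro y hy
    rw [Subgroup.mem_pointwise_smul_iff_inv_smul_mem] at hy
    apply hT'H
    rw [mem_conj_iff, hTPeq]
    simpa [MulAut.smul_def, MulAut.conj_apply] using hy
  let P₂ : Sylow p H := (g⁻¹ • P).subtype hP₂le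
  obtain ⟨h, hh⟩ := MulAction.exists_smul_eq H P₁ P₂
  have hhG : ((h : G) • P : Sylow p G) = g⁻¹ • P := by
    apply Sylow.ext
    have h1 : ((h • P₁ : Sylow p H) : Subgroup H).map H.subtype = ((P₂ : Sylow p H) : Subgroup H).map H.subtype := by
      rw [hh]
    have h2 : ((P₂ : Sylow p H) : Subgroup H).map H.subtype = ((g⁻¹ • P : Sylow p G) : Subgroup G) := by
      have h3 : ((P₂ : Sylow p H) : Subgroup H) = ((g⁻¹ • P : Sylow p G) : Subgroup G).subgroupOf H := rfl
      rw [h3, Subgroup.subgroupOf_map_subtype]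
      exact inf_eq_left.mpr hP₂le
    rw [h2] at h1
    rw [← h1]
    ext y
    constructor
    · intro hy
      rw [Sylow.coe_subgroup_smul, Subgroup.mem_pointwise_smul_iff_inv_smul_mem] at hy
      have hy' : (h : G)⁻¹ * y * (h : G) ∈ (P : Subgroup G) := by
        simpa [MulAut.smul_def, MulAut.conj_apply] using hy
      have hyH : y ∈ H := by
        have h3 := H.mul_mem (H.mul_mem h.2 ((hTPeq ▸ hTH : (P : Subgroup G) ≤ H) hy')) (H.inv_mem h.2)
        simpa [mul_assoc] using h3
      refine ⟨⟨y, hyH⟩, ?_, rfl⟩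
      show (⟨y, hyH⟩ : H) ∈ ((h • P₁ : Sylow p H) : Subgroup H)
      rw [Sylow.coe_subgroup_smul, Subgroup.mem_pointwise_smul_iff_inv_smul_mem]
      show _ ∈ (P : Subgroup G).subgroupOf H
      rw [Subgroup.mem_subgroupOf]
      simpa [MulAut.smul_def, MulAut.conj_apply] using hy'
    · rintro ⟨⟨y, hyH⟩, hy, rfl⟩
      have hy2 : (⟨y, hyH⟩ : H) ∈ ((h • P₁ : Sylow p H) : Subgroup H) := hy
      rw [Sylow.coe_subgroup_smul, Subgroup.mem_pointwise_smul_iff_inv_smul_mem] at hy2
      have hy3 : _ ∈ (P : Subgroup G).subgroupOf H := hy2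
      rw [Subgroup.mem_subgroupOf] at hy3
      rw [Sylow.coe_subgroup_smul, Subgroup.mem_pointwise_smul_iff_inv_smul_mem]
      simpa [MulAut.smul_def, MulAut.conj_apply] using hy3
  have hgh : ((g * h : G) • P : Sylow p G) = P := by
    rw [mul_smul, hhG, smul_inv_smul]
  have hmem : (g * h : G) ∈ Subgroup.normalizer ((P : Subgroup G) : Set G) :=
    Sylow.smul_eq_iff_mem_normalizer.mp hgh
  rw [← hTPeq] at hmem
  have h5 : g * (h : G) ∈ H := (hN hmem).1
  have := H.mul_mem h5 (H.inv_mem h.2)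
  simpa [mul_assoc] using this

/-! ### closed subgroups -/

/-- `H` contains the normalizers of all its 2-subgroups of 2-rank at least two. -/
def Closed (H : Subgroup G) : Prop :=
  ∀ X : Subgroup G, X ≤ H → IsPGroup 2 X → ¬ PRankLE 2 1 X → Subgroup.normalizer (X : Set G) ≤ H

theorem Closed.conj {H : Subgroup G} (hH : Closed H) (g : G) :
    Closed (H.map (MulAut.conj g).toMonoidHom) := by
  intro X hX hp hr
  have hXg : X.map (MulAut.conj g⁻¹).toMonoidHom ≤ H := by
    rintro _ ⟨y, hy, rfl⟩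
    have := mem_conj_iff.mp (hX hy)
    simpa [mul_assoc] using this
  have h1 := hH _ hXg (hp.map _) (by
    rwa [pRankLE_map (MulAut.conj g⁻¹).toMonoidHom (MulAut.conj g⁻¹).injective])
  rw [normalizer_conj] at h1
  intro x hx
  rw [mem_conj_iff]
  apply h1
  exact ⟨x, hx, by simp [mul_assoc]⟩

/-- There is a maximal `p`-subgroup of `K` above a given `p`-subgroup. -/
theorem exists_max [Finite G] {p : ℕ} {K X : Subgroup G} (hXK : X ≤ K) (hX : IsPGroup p X) :
    ∃ T : Subgroup G, X ≤ T ∧ T ≤ K ∧ IsPGroup p T ∧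
      ∀ Q : Subgroup G, IsPGroup p Q → T ≤ Q → Q ≤ K → Q = T := by
  obtain ⟨T, hXT, hT⟩ := Finite.exists_le_maximal
    (p := fun T : Subgroup G => T ≤ K ∧ IsPGroup p T) (a := X) ⟨hXK, hX⟩
  refine ⟨T, hXT, hT.prop.1, hT.prop.2, ?_⟩
  intro Q hQ hTQ hQK
  exact le_antisymm (hT.le_of_ge ⟨hQK, hQ⟩ hTQ) hTQ

/-- A 2-subgroup of 2-rank at least two in `H ∩ gHg⁻¹` forces `g ∈ H`. -/
theorem Closed.mem_of_le [Finite G] {H X : Subgroup G} (hH : Closed H) {g : G}
    (hX : X ≤ H) (hXg : X ≤ H.map (MulAut.conj g).toMonoidHom) (hp : IsPGroup 2 X)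
    (hr : ¬ PRankLE 2 1 X) : g ∈ H := by
  obtain ⟨T, hXT, hTK, hT, hmax⟩ := exists_max (le_inf hX hXg) hp
  have hTr : ¬ PRankLE 2 1 T := fun h => hr (pRankLE_mono hXT h)
  exact mem_of_sylow_inf hT hTK hmax
    (le_inf (hH T (hTK.trans inf_le_left) hT hTr)
      ((hH.conj g) T (hTK.trans inf_le_right) hT hTr))

/-- Two commuting different involutions in `H ∩ gHg⁻¹` force `g ∈ H`. -/
theorem Closed.mem_of_commute [Finite G] {H : Subgroup G} (hH : Closed H) {g s t : G}
    (hs : s ∈ H) (ht : t ∈ H) (hsg : g⁻¹ * s * g ∈ H) (htg : g⁻¹ * t * g ∈ H)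
    (hs2 : orderOf s = 2) (ht2 : orderOf t = 2) (hst : Commute s t) (hne : s ≠ t) : g ∈ H := by
  have hsq : ∀ {a : G}, orderOf a = 2 → a ^ 2 = 1 := fun ha => by rw [← ha]; exact pow_orderOf_eq_one _
  let X : Subgroup G := Subgroup.closure {s, t}
  have hsX : s ∈ X := Subgroup.subset_closure (by simp)
  have htX : t ∈ X := Subgroup.subset_closure (by simp)
  have hcomm : ∀ x ∈ ({s, t} : Set G), ∀ y ∈ ({s, t} : Set G), x * y = y * x := by
    rintro x (rfl | rfl) y (rfl | rfl)
    · rfl
    · exact hst.eq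
    · exact hst.eq.symm
    · rfl
  have hXc : IsMulCommutative X := Subgroup.isMulCommutative_closure hcomm
  have hX2 : ∀ a ∈ X, a ^ 2 = 1 := by
    intro a ha
    induction ha using Subgroup.closure_induction with
    | mem x hx =>
      rcases hx with rfl | rfl
      · exact hsq hs2
      · exact hsq ht2
    | one => exact one_pow 2
    | mul x y hx hy hx2 hy2 =>
      have hxy : x * y = y * x := congrArg Subtype.val (hXc.is_comm.comm ⟨x, hx⟩ ⟨y, hy⟩)
      have : Commute x y := hxy
      rw [this.mul_pow, hx2, hy2, one_mul]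
    | inv x hx hx2 => rw [inv_pow, hx2, inv_one]
  refine hH.mem_of_le (X := X) ?_ ?_ ?_ (not_pRankLE_of_commute hsX htX hs2 ht2 hst hne)
  · rw [Subgroup.closure_le]
    rintro x (rfl | rfl)
    · exact hs
    · exact ht
  · rw [Subgroup.closure_le]
    rintro x (rfl | rfl)
    · exact mem_conj_iff.mpr hsg
    · exact mem_conj_iff.mpr htg
  · intro x
    exact ⟨1, by
      apply Subtype.ext
      show (x : G) ^ (2 ^ 1) = 1
      rw [pow_one]
      exact hX2 x x.2⟩

/-- (B3) For an involution `t` and `g ∈ C_G(t)` outside `H`, the only involution of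
`C_G(t) ∩ H ∩ gHg⁻¹` is `t`. -/
theorem Closed.eq_of_mem_centralizer [Finite G] {H : Subgroup G} (hH : Closed H) {g t x : G}
    (ht : t ∈ H) (ht2 : orderOf t = 2) (hg : Commute g t) (hgH : g ∉ H)
    (hx : x ∈ H) (hx2 : orderOf x = 2) (hxt : Commute x t) (hxg : g⁻¹ * x * g ∈ H) : x = t := by
  by_contra hne
  apply hgH
  refine hH.mem_of_commute hx ht hxg ?_ hx2 ht2 hxt hne
  rw [mul_assoc, ← hg.eq, ← mul_assoc, inv_mul_cancel, one_mul]
  exact ht

/-- (B4) If `H` is closed, contains a 2-subgroup of 2-rank at least two, and contains the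
centralizers of its involutions, and `H ≠ G`, then `H` is strongly embedded. -/
theorem Closed.isStronglyEmbedded [Finite G] {H : Subgroup G} (hH : Closed H) (htop : H ≠ ⊤)
    (heven : Even (Nat.card H))
    (hc : ∀ t ∈ H, orderOf t = 2 → Subgroup.centralizer ({t} : Set G) ≤ H) :
    IsStronglyEmbedded H := by
  refine ⟨htop, heven, ?_⟩
  intro g hg
  by_contra hodd
  rw [Nat.not_odd_iff_even, even_iff_two_dvd] at hodd
  apply hg
  obtain ⟨⟨t, htK⟩, ht2⟩ := exists_prime_orderOf_dvd_card' 2 hodd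
  rw [Subgroup.orderOf_mk] at ht2
  have hZ : IsPGroup 2 (Subgroup.zpowers t) := by
    rw [IsPGroup.iff_card]
    exact ⟨1, by rw [Nat.card_zpowers, ht2, pow_one]⟩
  have hZle : Subgroup.zpowers t ≤ H ⊓ H.map (MulAut.conj g).toMonoidHom := by
    rw [Subgroup.zpowers_le]; exact htK
  obtain ⟨T, hZT, hTK, hT, hmax⟩ := exists_max hZle hZ
  have hTne : T ≠ ⊥ := by
    rintro rfl
    have : t ∈ (⊥ : Subgroup G) := hZT (Subgroup.mem_zpowers t)
    rw [Subgroup.mem_bot] at this
    subst this
    simp at ht2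
  have hcg : ∀ s ∈ H.map (MulAut.conj g).toMonoidHom, orderOf s = 2 →
      Subgroup.centralizer ({s} : Set G) ≤ H.map (MulAut.conj g).toMonoidHom := by
    intro s hs hs2 x hx
    rw [mem_conj_iff] at hs ⊢
    have hs2' : orderOf (g⁻¹ * s * g) = 2 := by
      rw [← hs2]
      have := orderOf_injective (MulAut.conj g⁻¹).toMonoidHom (MulAut.conj g⁻¹).injective s
      simpa [MulAut.conj_apply] using this
    apply hc _ hs hs2'
    rw [Subgroup.mem_centralizer_singleton_iff] at hx ⊢
    calc g⁻¹ * x * g * (g⁻¹ * s * g) = g⁻¹ * (x * s) * g := by group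
      _ = g⁻¹ * (s * x) * g := by rw [hx]
      _ = g⁻¹ * s * g * (g⁻¹ * x * g) := by group
  refine mem_of_sylow_inf hT hTK hmax ?_
  by_cases hr : PRankLE 2 1 T
  · obtain ⟨z, hzT, hz2, -, huniq⟩ := exists_unique_involution hT hTne hr
    have hNz : Subgroup.normalizer (T : Set G) ≤ Subgroup.centralizer ({z} : Set G) := by
      intro x hx
      rw [Subgroup.mem_centralizer_singleton_iff]
      have h1 : x * z * x⁻¹ ∈ T := (Subgroup.mem_normalizer_iff.mp hx z).mp hzT
      have h2 : orderOf (x * z * x⁻¹) = 2 := by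
        rw [← hz2]
        have := orderOf_injective (MulAut.conj x).toMonoidHom (MulAut.conj x).injective z
        simpa [MulAut.conj_apply] using this
      have h3 := huniq _ h1 h2
      calc x * z = (x * z * x⁻¹) * x := by group
        _ = z * x := by rw [h3]
    exact hNz.trans (le_inf (hc z (hTK hzT).1 hz2) (hcg z (hTK hzT).2 hz2))
  · exact le_inf (hH T (hTK.trans inf_le_left) hT hr) ((hH.conj g) T (hTK.trans inf_le_right) hT hr)

/-! ### inheritance -/

/-- (B5) A closed subgroup meets every subgroup `L` in a closed subgroup of `L`. -/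
theorem Closed.subgroupOf {H : Subgroup G} (hH : Closed H) (L : Subgroup G) :
    Closed (H.subgroupOf L) := by
  intro X hX hp hr x hx
  rw [Subgroup.mem_subgroupOf]
  have hXle : X.map L.subtype ≤ H := by
    rintro _ ⟨y, hy, rfl⟩
    exact Subgroup.mem_subgroupOf.mp (hX hy)
  have h1 := hH (X.map L.subtype) hXle (hp.map _)
    (by rwa [pRankLE_map L.subtype L.subtype_injective])
  apply h1
  rw [Subgroup.mem_normalizer_iff] at hx ⊢
  intro y
  constructor
  · rintro ⟨z, hz, rfl⟩
    exact ⟨x * z * x⁻¹, (hx z).mp hz, by simp⟩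
  · rintro ⟨z, hz, hzy⟩
    have hyL : y ∈ L := by
      have h2 : y = (x : G)⁻¹ * (z : G) * (x : G) := by
        have h3 : (z : G) = (x : G) * y * (x : G)⁻¹ := hzy
        rw [h3]; group
      rw [h2]
      exact L.mul_mem (L.mul_mem (L.inv_mem x.2) z.2) x.2
    refine ⟨⟨y, hyL⟩, (hx ⟨y, hyL⟩).mpr ?_, rfl⟩
    have : x * ⟨y, hyL⟩ * x⁻¹ = z := by
      apply Subtype.ext
      exact hzy.symm
    rw [this]; exact hz

/-- A proper closed subgroup containing a 2-subgroup of 2-rank at least two contains a Sylow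
2-subgroup `S` of `G`, and the 2-generated core of `S`. -/
theorem Closed.exists_sylow [Finite G] {H X : Subgroup G} (hH : Closed H) (hX : X ≤ H)
    (hp : IsPGroup 2 X) (hr : ¬ PRankLE 2 1 X) :
    ∃ S : Sylow 2 G, X ≤ S ∧ (S : Subgroup G) ≤ H ∧ kGeneratedCore 2 2 (S : Subgroup G) ≤ H := by
  obtain ⟨T, hXT, hTH, hT, hmax⟩ := exists_max hX hp
  have hTr : ¬ PRankLE 2 1 T := fun h => hr (pRankLE_mono hXT h)
  have hN := hH T hTH hT hTr
  have hNT : ∀ Q : Subgroup G, IsPGroup 2 Q → T ≤ Q → Q ≤ Subgroup.normalizer (T : Set G) →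
      Q = T := fun Q hQ hTQ hQN => hmax Q hQ hTQ (hQN.trans hN)
  obtain ⟨P, hTP⟩ := hT.exists_le_sylow
  have hTPeq : T = P := by
    by_contra hne
    have hnil : Group.IsNilpotent P := P.2.isNilpotent
    have hsub : T.subgroupOf P < ⊤ := by
      rw [lt_top_iff_ne_top]
      intro h
      rw [Subgroup.subgroupOf_eq_top] at h
      exact absurd (le_antisymm hTP h) hne
    have hnc := Group.normalizerCondition_of_isNilpotent (G := P) (T.subgroupOf P) hsub
    obtain ⟨x, hxN, hxT⟩ := SetLike.exists_of_lt hnc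
    have hxG : (x : G) ∈ Subgroup.normalizer (T : Set G) := by
      rw [Subgroup.mem_normalizer_iff] at hxN ⊢
      intro y
      constructor
      · intro hy
        have := (hxN ⟨y, hTP hy⟩).mp (by rw [Subgroup.mem_subgroupOf]; exact hy)
        rw [Subgroup.mem_subgroupOf] at this
        simpa using this
      · intro hy
        have hyP : y ∈ (P : Subgroup G) := by
          have h1 : (x : G) * y * (x : G)⁻¹ ∈ (P : Subgroup G) := hTP hy
          have h2 := (P : Subgroup G).mul_mem ((P : Subgroup G).mul_mem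
            ((P : Subgroup G).inv_mem x.2) h1) x.2
          simpa [mul_assoc] using h2
        have := (hxN ⟨y, hyP⟩).mpr (by rw [Subgroup.mem_subgroupOf]; simpa using hy)
        rw [Subgroup.mem_subgroupOf] at this
        exact this
    have hxnT : (x : G) ∉ T := by
      intro h; exact hxT (by rw [Subgroup.mem_subgroupOf]; exact h)
    have hQ : (T ⊔ Subgroup.zpowers (x : G)) = T := by
      apply hNT
      · exact P.2.to_le (sup_le hTP (by
          rw [Subgroup.zpowers_le]; exact x.2))
      · exact le_sup_left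
      · exact sup_le Subgroup.le_normalizer (by rw [Subgroup.zpowers_le]; exact hxG)
    exact hxnT (hQ ▸ (le_sup_right : Subgroup.zpowers (x : G) ≤ _) (Subgroup.mem_zpowers _))
  refine ⟨P, hTPeq ▸ hXT, hTPeq ▸ hTH, ?_⟩
  unfold kGeneratedCore
  refine iSup_le ?_
  rintro ⟨Q, hQP, hQr⟩
  exact hH Q (hQP.trans (hTPeq ▸ hTH)) (P.2.to_le hQP) hQr

/-- A proper closed subgroup containing a 2-subgroup of 2-rank at least two makes the 2-generated
core proper. -/
theorem Closed.hasProperTwoGeneratedCore [Finite G] {H X : Subgroup G} (hH : Closed H)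
    (htop : H ≠ ⊤) (hX : X ≤ H) (hp : IsPGroup 2 X) (hr : ¬ PRankLE 2 1 X) :
    HasProperTwoGeneratedCore G := by
  obtain ⟨S, -, -, hS⟩ := hH.exists_sylow hX hp hr
  refine ⟨?_, S, ?_⟩
  · intro h
    exact hr (pRankLE_of_injective X.subtype X.subtype_injective h)
  · intro h
    exact htop (top_le_iff.mp (h ▸ hS))

/-- (B1) The 2-generated core of a Sylow 2-subgroup of 2-rank at least two contains the Sylow
2-subgroup. -/
theorem sylow_le_kGeneratedCore (S : Sylow 2 G) (hr : ¬ PRankLE 2 1 (S : Subgroup G)) :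
    (S : Subgroup G) ≤ kGeneratedCore 2 2 (S : Subgroup G) := by
  have h1 : Subgroup.normalizer ((S : Subgroup G) : Set G) ≤ kGeneratedCore 2 2 (S : Subgroup G) :=
    le_iSup (fun Q : {Q : Subgroup G // Q ≤ (S : Subgroup G) ∧ ¬ PRankLE 2 (2 - 1) Q} =>
      Subgroup.normalizer ((Q : Subgroup G) : Set G)) ⟨(S : Subgroup G), le_rfl, by simpa using hr⟩
  exact Subgroup.le_normalizer.trans h1

/-- (B1) The 2-generated core of a Sylow 2-subgroup of 2-rank at least two is closed. -/
theorem closed_kGeneratedCore [Finite G] (S : Sylow 2 G) (hr : ¬ PRankLE 2 1 (S : Subgroup G)) :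
    Closed (kGeneratedCore 2 2 (S : Subgroup G)) := by
  set H := kGeneratedCore 2 2 (S : Subgroup G) with hHdef
  intro X hX hp hXr
  have hSH : (S : Subgroup G) ≤ H := sylow_le_kGeneratedCore S hr
  -- conjugate `X` into `S` inside `H`
  have hpH : IsPGroup 2 (X.subgroupOf H) := hp.comap_of_injective H.subtype H.subtype_injective
  obtain ⟨P, hXP⟩ := hpH.exists_le_sylow
  obtain ⟨h, hh⟩ := MulAction.exists_smul_eq H P (S.subtype hSH)
  have hconj : X.map (MulAut.conj (h : G)).toMonoidHom ≤ S := by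
    rintro _ ⟨x, hx, rfl⟩
    have h1 : (⟨x, hX hx⟩ : H) ∈ (P : Subgroup H) :=
      hXP (Subgroup.mem_subgroupOf.mpr hx)
    have h2 : h * ⟨x, hX hx⟩ * h⁻¹ ∈ ((h • P : Sylow 2 H) : Subgroup H) := by
      rw [Sylow.coe_subgroup_smul, Subgroup.mem_pointwise_smul_iff_inv_smul_mem]
      simpa [MulAut.smul_def, MulAut.conj_apply, mul_assoc] using h1
    rw [hh] at h2
    have h3 : h * ⟨x, hX hx⟩ * h⁻¹ ∈ (S : Subgroup G).subgroupOf H := h2
    rw [Subgroup.mem_subgroupOf] at h3
    simpa [MulAut.conj_apply] using h3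
  have hr' : ¬ PRankLE 2 1 (X.map (MulAut.conj (h : G)).toMonoidHom) := by
    rwa [pRankLE_map _ (MulAut.conj (h : G)).injective]
  have h4 : Subgroup.normalizer ((X.map (MulAut.conj (h : G)).toMonoidHom : Subgroup G) : Set G)
      ≤ H :=
    le_iSup (fun Q : {Q : Subgroup G // Q ≤ (S : Subgroup G) ∧ ¬ PRankLE 2 (2 - 1) Q} =>
      Subgroup.normalizer ((Q : Subgroup G) : Set G)) ⟨_, hconj, by simpa using hr'⟩
  rw [normalizer_conj] at h4
  intro x hx
  have h5 : (h : G) * x * (h : G)⁻¹ ∈ H := h4 ⟨x, hx, by simp [MulAut.conj_apply]⟩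
  have h6 := H.mul_mem (H.mul_mem (H.inv_mem h.2) h5) h.2
  simpa [mul_assoc] using h6

/-- Every group with a proper 2-generated core has a proper closed subgroup containing a Sylow
2-subgroup. -/
theorem exists_closed [Finite G] (hG : HasProperTwoGeneratedCore G) :
    ∃ (S : Sylow 2 G) (H : Subgroup G), H = kGeneratedCore 2 2 (S : Subgroup G) ∧ Closed H ∧
      H ≠ ⊤ ∧ (S : Subgroup G) ≤ H ∧ ¬ PRankLE 2 1 (S : Subgroup G) := by
  obtain ⟨hr, S, hS⟩ := hG
  have hSr : ¬ PRankLE 2 1 (S : Subgroup G) := by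
    intro h
    apply hr
    intro A hA hA2
    have hp : IsPGroup 2 A := by
      intro x
      exact ⟨1, by
        apply Subtype.ext
        show (x : G) ^ (2 ^ 1) = 1
        rw [pow_one]
        exact hA2 x x.2⟩
    obtain ⟨P, hAP⟩ := hp.exists_le_sylow
    obtain ⟨g, hg⟩ := MulAction.exists_smul_eq G P S
    have hconj : A.map (MulAut.conj g).toMonoidHom ≤ S := by
      rintro _ ⟨x, hx, rfl⟩
      have h2 : g * x * g⁻¹ ∈ ((g • P : Sylow 2 G) : Subgroup G) := by
        rw [Sylow.coe_subgroup_smul, Subgroup.mem_pointwise_smul_iff_inv_smul_mem]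
        simpa [MulAut.smul_def, MulAut.conj_apply, mul_assoc] using hAP hx
      rw [hg] at h2
      exact h2
    have hr1 : PRankLE 2 1 (A.map (MulAut.conj g).toMonoidHom) := pRankLE_mono hconj h
    rw [pRankLE_map _ (MulAut.conj g).injective] at hr1
    have := hr1 ⊤ ⟨⟨fun a b => Subtype.ext (by
      have := hA.is_comm.comm (a : A) (b : A)
      exact this)⟩⟩ (fun a _ => Subtype.ext (hA2 a a.2))
    rwa [Subgroup.card_top] at this
  exact ⟨S, _, rfl, closed_kGeneratedCore S hSr, hS, sylow_le_kGeneratedCore S hSr, hSr⟩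

/-- An odd order subgroup normalized by an elementary abelian subgroup of order at least 8 of a
closed subgroup `H` is contained in `H`. -/
theorem Closed.le_of_elementaryAbelian [Finite G] {H E Q : Subgroup G} (hH : Closed H)
    (hE : Cfsg.IsElementaryAbelian 2 E) (hE8 : 8 ≤ Nat.card E) (hEH : E ≤ H)
    (hQ : Odd (Nat.card Q)) (hEQ : E ≤ Subgroup.normalizer (Q : Set G)) : Q ≤ H := by
  have hE1 : E ≠ ⊥ := by
    rintro rfl
    rw [Subgroup.card_bot] at hE8
    omega
  have hcop : (Nat.card Q).Coprime 2 := Nat.coprime_two_right.mpr hQ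
  rw [Lib.CoprimeHyperplane.le_iSup_hyperplane E Q hE hE1 hcop hEQ]
  refine iSup_le ?_
  rintro ⟨B, hBE, hB⟩
  have hBp : IsPGroup 2 B := fun x => ⟨1, by
    apply Subtype.ext
    simpa using hE.2 x (hBE x.2)⟩
  have hBr : ¬ PRankLE 2 1 B := by
    intro h
    have h1 := h ⊤ ⟨⟨fun a b => Subtype.ext (Subtype.ext (by
      have := hE.1.is_comm.comm ⟨((a : B) : G), hBE (a : B).2⟩ ⟨((b : B) : G), hBE (b : B).2⟩
      have h2 : ((a : B) : G) * ((b : B) : G) = ((b : B) : G) * ((a : B) : G) :=
        congrArg Subtype.val this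
      exact h2))⟩⟩ (fun a _ => Subtype.ext (by
        simpa using hE.2 a (hBE a.2)))
    rw [Subgroup.card_top] at h1
    have h2 : Nat.card B * B.relIndex E = Nat.card E := by
      rw [Subgroup.relIndex, ← Subgroup.card_mul_index (B.subgroupOf E)]
      congr 1
      exact (Nat.card_congr (Subgroup.subgroupOfEquivOfLe hBE).toEquiv).symm
    rw [hB] at h2
    omega
  have h3 := hH B (hBE.trans hEH) hBp hBr
  intro x hx
  apply h3
  rw [Subgroup.mem_normalizer_iff]
  intro y
  have hcx : ∀ z ∈ B, z * x = x * z := fun z hz => Subgroup.mem_centralizer_iff.mp hx.2 z hz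
  constructor
  · intro hy
    rw [← hcx y hy, mul_assoc, mul_inv_cancel, mul_one]
    exact hy
  · intro hy
    have h4 := hcx _ hy
    have h5 : y = x * y * x⁻¹ := by
      have h6 : x * y = x * (x * y * x⁻¹) := by
        rw [← h4]; group
      exact mul_left_cancel h6
    rw [h5]; exact hy

/-- The image of a closed subgroup modulo a normal odd order subgroup contained in it is closed. -/
theorem Closed.map_mk [Finite G] {H N : Subgroup G} [N.Normal] (hH : Closed H)
    (hodd : Odd (Nat.card N)) (hNH : N ≤ H) : Closed (H.map (QuotientGroup.mk' N)) := by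
  intro X hX hp hr
  set f := QuotientGroup.mk' N with hf
  have hfs : Function.Surjective f := QuotientGroup.mk'_surjective N
  set Y : Subgroup G := X.comap f with hY
  have hYH : Y ≤ H := by
    intro y hy
    obtain ⟨h, hh, hhy⟩ := hX hy
    have h1 : h⁻¹ * y ∈ N := by
      rw [← QuotientGroup.eq]
      exact hhy
    have := H.mul_mem hh (hNH h1)
    simpa using this
  -- a Sylow 2-subgroup of `Y`
  obtain ⟨T⟩ : Nonempty (Sylow 2 Y) := inferInstance
  let T' : Subgroup G := (T : Subgroup Y).map Y.subtype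
  have hT'Y : T' ≤ Y := Subgroup.map_subtype_le _
  have hT'p : IsPGroup 2 T' := T.2.map _
  -- `f` is injective on `T'`
  have hinf : T' ⊓ N = ⊥ := by
    rw [eq_bot_iff]
    rintro x ⟨hx1, hx2⟩
    have ho1 : orderOf x ∣ Nat.card N := by
      have := orderOf_dvd_natCard (⟨x, hx2⟩ : N)
      rwa [Subgroup.orderOf_mk] at this
    obtain ⟨k, hk⟩ := hT'p ⟨x, hx1⟩
    have hk' : x ^ (2 ^ k) = 1 := congrArg Subtype.val hk
    have ho2 := orderOf_dvd_of_pow_eq_one hk'
    have hc : Nat.Coprime (2 ^ k) (Nat.card N) :=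
      Nat.Coprime.pow_left k (Nat.coprime_two_left.mpr hodd)
    have : orderOf x ∣ 1 := by
      rw [← hc.gcd_eq_one]; exact Nat.dvd_gcd ho2 ho1
    rw [Nat.dvd_one, orderOf_eq_one_iff] at this
    exact this
  -- `T'` maps onto `X`
  have hsup : T'.map f = X := by
    have hle : T'.map f ≤ X := by
      rintro _ ⟨x, hx, rfl⟩
      exact hT'Y hx
    -- the index of `T'.map f` in `X` is odd and a power of two
    apply le_antisymm hle
    let g : Y →* X := f.subgroupComap X
    have hg : Function.Surjective g := f.subgroupComap_surjective_of_surjective X hfs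
    let P : Sylow 2 X := T.mapSurjective hg
    have hP : (P : Subgroup X) = ⊤ := by
      have hXp : IsPGroup 2 (⊤ : Subgroup X) := hp.to_subgroup ⊤
      exact (P.3 hXp le_top).symm
    intro x hx
    have h1 : (⟨x, hx⟩ : X) ∈ (P : Subgroup X) := by rw [hP]; trivial
    have h2 : (P : Subgroup X) = (T : Subgroup Y).map g := rfl
    rw [h2] at h1
    obtain ⟨y, hy, hyx⟩ := h1
    refine ⟨y, ⟨y, hy, rfl⟩, ?_⟩
    exact congrArg Subtype.val hyx
  have hT'r : ¬ PRankLE 2 1 T' := by
    intro h
    apply hr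
    rw [← hsup]
    -- the restriction of `f` to `T'` is an isomorphism onto its image
    have hinj : Function.Injective (f.subgroupMap T') := by
      rw [injective_iff_map_eq_one]
      intro a ha
      have h1 : f (a : G) = 1 := congrArg Subtype.val ha
      have h2 : (a : G) ∈ N := by
        rwa [← MonoidHom.mem_ker, QuotientGroup.ker_mk'] at h1
      have h3 : (a : G) ∈ T' ⊓ N := ⟨a.2, h2⟩
      rw [hinf, Subgroup.mem_bot] at h3
      exact Subtype.ext h3
    let e : T' ≃* T'.map f := MulEquiv.ofBijective (f.subgroupMap T')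
      ⟨hinj, f.subgroupMap_surjective T'⟩
    exact pRankLE_of_injective e.symm.toMonoidHom e.symm.injective h
  have hNT := hH T' (hT'Y.trans hYH) hT'p hT'r
  intro x hx
  obtain ⟨g, rfl⟩ := hfs x
  refine ⟨g, ?_, rfl⟩
  -- `g` normalizes `Y`
  have hgY : ∀ y, y ∈ Y ↔ g * y * g⁻¹ ∈ Y := by
    intro y
    have := (Subgroup.mem_normalizer_iff.mp hx) (f y)
    simpa [hY, Subgroup.mem_comap] using this
  have hgnorm : g ∈ Subgroup.normalizer (Y : Set G) := Subgroup.mem_normalizer_iff.mpr hgY
  have hgY' : T'.map (MulAut.conj g).toMonoidHom ≤ Y := by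
    rintro _ ⟨y, hy, rfl⟩
    exact (hgY y).mp (hT'Y hy)
  have hcT : Nat.card T = 2 ^ (Nat.card Y).factorization 2 := T.card_eq_multiplicity
  have hc2 : Nat.card ((T'.map (MulAut.conj g).toMonoidHom).subgroupOf Y) =
      2 ^ (Nat.card Y).factorization 2 := by
    rw [← hcT, Nat.card_congr (Subgroup.subgroupOfEquivOfLe hgY').toEquiv,
      Subgroup.card_map_of_injective (MulAut.conj g).injective]
    exact Subgroup.card_map_of_injective Y.subtype_injective
  let T₂ : Sylow 2 Y := Sylow.ofCard _ hc2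
  obtain ⟨y, hy⟩ := MulAction.exists_smul_eq Y T T₂
  -- `y⁻¹ g` normalizes `T'`
  have hmem : ((y : G)⁻¹ * g) ∈ Subgroup.normalizer (T' : Set G) := by
    have hmap : ∀ x ∈ T', (y : G)⁻¹ * g * x * ((y : G)⁻¹ * g)⁻¹ ∈ T' := by
      intro x hx
      have h1 : (⟨g * x * g⁻¹, hgY' ⟨x, hx, rfl⟩⟩ : Y) ∈ (T₂ : Subgroup Y) := by
        show _ ∈ (T'.map (MulAut.conj g).toMonoidHom).subgroupOf Y
        rw [Subgroup.mem_subgroupOf]
        exact ⟨x, hx, rfl⟩
      rw [← hy, Sylow.coe_subgroup_smul, Subgroup.mem_pointwise_smul_iff_inv_smul_mem] at h1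
      refine ⟨_, h1, ?_⟩
      simp [MulAut.smul_def, mul_assoc]
    have hcard : T'.map (MulAut.conj ((y : G)⁻¹ * g)).toMonoidHom = T' := by
      apply Subgroup.eq_of_le_of_card_ge
      · rintro _ ⟨x, hx, rfl⟩
        exact hmap x hx
      · exact (Nat.card_congr (T'.equivMapOfInjective _
          (MulAut.conj ((y : G)⁻¹ * g)).injective).toEquiv).le
    rw [Subgroup.mem_normalizer_iff]
    intro x
    refine ⟨hmap x, fun hx => ?_⟩
    rw [← hcard] at hx
    obtain ⟨z, hz, hzx⟩ := hx
    have : z = x := (MulAut.conj ((y : G)⁻¹ * g)).injective hzx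
    rwa [← this]
  have h5 := hNT hmem
  have h6 := H.mul_mem (hYH y.2) h5
  simpa using h6

end Cfsg.Agent.TwoGenCore.Involution
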