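import Cfsg.Agent.TwoGenCore.ExistsBadQuot
import Cfsg.Agent.S0215
import Cfsg.Prelude.Def_TwoFusion

/-!
# S1728, section 4: there is an element of `𝒲_-`

`G` simple nonabelian, `S` a Sylow 2-subgroup, `t` an involution of `Z(S)`, `Base D t` for
`Y = C_G(t)`.  If no element `w` of order 4, `w² = t`, with two fixed points on `D`, is inverted by an
involution `≠ t` of `Y`, then all involutions of `S` commute (`commute_of_no_badInv`); they form with
`1` a strongly closed elementary abelian subgroup of `S`, and Goldschmidt's theorem (S1169) gives a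
contradiction: `exists_badInv`.
-/

set_option autoImplicit false

universe u v

namespace Cfsg.Agent.TwoGenCore.ExistsBad

open Cfsg Cfsg.Agent.TwoGenCore.W2Base Cfsg.Agent.TwoGenCore.W2Lem
open Cfsg.Agent.TwoGenCore.ExistsBadQuot Cfsg.Agent.StrongEmb.Split

/-- Goldschmidt's theorem on strongly closed abelian 2-subgroups (S1169). -/
def GoldHolds : Prop :=
  ∀ (G : Type u) [Group G] [Finite G] [IsSimpleGroup G] (S : Sylow 2 G) (A : Subgroup G), A ≠ ⊥ →
    IsMulCommutative A → IsStronglyClosed A (S : Subgroup G) →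
    IsMulCommutative (S : Subgroup G) ∨ ∃ H : Subgroup G, IsStronglyEmbedded H

variable {G : Type u} [Group G] [Finite G]

/-- In a nonabelian simple group an involution `t` of a Sylow 2-subgroup `S` has another conjugate
in `S`. -/
theorem exists_conj_ne [IsSimpleGroup G] (hnc : ∃ a b : G, a * b ≠ b * a) (S : Sylow 2 G) {t : G}
    (htS : t ∈ S) (ht : orderOf t = 2) : ∃ g : G, g * t * g⁻¹ ∈ S ∧ g * t * g⁻¹ ≠ t := by
  by_contra hcon
  push Not at hcon
  obtain ⟨N, hN, hodd, hcomm⟩ := Cfsg.Agent.S0215.result S t ht htS hcon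
  rcases hN.eq_bot_or_eq_top with h1 | h1
  · have hcen : t ∈ Subgroup.center G := by
      rw [Subgroup.mem_center_iff]
      intro g
      have h2 := hcomm g
      rw [h1, Subgroup.mem_bot] at h2
      have h3 : t * g = g * t := by
        calc t * g = (t * g * t⁻¹ * g⁻¹) * (g * t) := by group
          _ = g * t := by rw [h2, one_mul]
      exact h3.symm
    rcases (inferInstance : (Subgroup.center G).Normal).eq_bot_or_eq_top with h2 | h2
    · rw [h2, Subgroup.mem_bot] at hcen
      rw [hcen, orderOf_one] at ht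
      exact absurd ht (by norm_num)
    · obtain ⟨a, b, hab⟩ := hnc
      apply hab
      have h3 : b ∈ Subgroup.center G := by rw [h2]; trivial
      exact Subgroup.mem_center_iff.mp h3 a
  · have h2 : Nat.card N = Nat.card G := by rw [h1, Subgroup.card_top]
    have h3 : 2 ∣ Nat.card G := by rw [← ht]; exact orderOf_dvd_natCard t
    rw [h2] at hodd
    rw [← even_iff_two_dvd, ← Nat.not_odd_iff_even] at h3
    exact h3 hodd

section

variable {S : Sylow 2 G} {t : G}

theorem mem_cent {t x : G} (h : Commute x t) : x ∈ Subgroup.centralizer ({t} : Set G) :=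
  Subgroup.mem_centralizer_singleton_iff.mpr h.eq

/-- the element `t` of its centraliser -/
abbrev tc (t : G) : Subgroup.centralizer ({t} : Set G) := ⟨t, mem_cent (Commute.refl t)⟩

variable {D : Type v} [MulAction (Subgroup.centralizer ({t} : Set G)) D]

theorem inv_mk {x : G} (hx : Commute x t) (hxx : x * x = 1) (hx1 : x ≠ 1) (hxt : x ≠ t) :
    Inv (tc t) ⟨x, mem_cent hx⟩ :=
  ⟨Subtype.ext hxx, fun h => hx1 (congrArg Subtype.val h), fun h => hxt (congrArg Subtype.val h)⟩

/-- `(xy)² ∈ {1, t}` for involutions `x`, `y` of `S`. -/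
theorem sq_mem_S (hAC : GenCrit.CritHolds.{u})
    (hBen : ∀ (K : Type u) [Group K] [Finite K], BenderHolds K)
    (htc : ∀ s ∈ S, Commute s t) (hB : Base D (tc t))
    (hno : ∀ w : Subgroup.centralizer ({t} : Set G), ¬ BadInv D (tc t) w) {x y : G} (hx : x ∈ S)
    (hy : y ∈ S) (hxx : x * x = 1) (hyy : y * y = 1) :
    (x * y) * (x * y) = 1 ∨ (x * y) * (x * y) = t := by
  have hcomm : Commute x y → (x * y) * (x * y) = 1 := by
    intro h
    rw [h.symm.mul_mul_mul_comm, hxx, hyy, one_mul]
  by_cases hx1 : x = 1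
  · left; rw [hx1, one_mul, hyy]
  by_cases hy1 : y = 1
  · left; rw [hy1, mul_one, hxx]
  by_cases hxt : x = t
  · left; exact hcomm (by rw [hxt]; exact (htc y hy).symm)
  by_cases hyt : y = t
  · left; exact hcomm (by rw [hyt]; exact htc x hx)
  have hSY : (S : Subgroup G) ≤ Subgroup.centralizer ({t} : Set G) := fun s hs => mem_cent (htc s hs)
  rcases sq_mem hAC hBen hB hno (S.subtype hSY).isPGroup' (inv_mk (htc x hx) hxx hx1 hxt)
    (inv_mk (htc y hy) hyy hy1 hyt) hx hy with h | h
  · left; exact congrArg Subtype.val h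
  · right; exact congrArg Subtype.val h

/-- If there is no `BadInv` element all involutions of `S` commute. -/
theorem commute_of_no_badInv [IsSimpleGroup G] (hnc : ∃ a b : G, a * b ≠ b * a)
    (hAC : GenCrit.CritHolds.{u}) (hBen : ∀ (K : Type u) [Group K] [Finite K], BenderHolds K)
    (htS : t ∈ S) (ht : orderOf t = 2) (htc : ∀ s ∈ S, Commute s t) (hB : Base D (tc t))
    (hno : ∀ w : Subgroup.centralizer ({t} : Set G), ¬ BadInv D (tc t) w) {x y : G} (hx : x ∈ S)
    (hy : y ∈ S) (hxx : x * x = 1) (hyy : y * y = 1) : x * y = y * x := by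
  have htt : t * t = 1 := by rw [← pow_two, ← ht, pow_orderOf_eq_one]
  have ht1 : t ≠ 1 := by rintro rfl; simp at ht
  have hSY : (S : Subgroup G) ≤ Subgroup.centralizer ({t} : Set G) := fun s hs => mem_cent (htc s hs)
  have hsq := @sq_mem_S G _ _ S t D _ hAC hBen htc hB hno
  -- all involutions of `S` are conjugate to `t`
  obtain ⟨g₀, hg₀S, hg₀t⟩ := exists_conj_ne hnc S htS ht
  have hallc : ∀ j ∈ S, j * j = 1 → j ≠ 1 → j ≠ t → IsConj j t := by
    intro j hj hjj hj1 hjt
    have h1 : (g₀ * t * g₀⁻¹) * (g₀ * t * g₀⁻¹) = 1 := by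
      calc (g₀ * t * g₀⁻¹) * (g₀ * t * g₀⁻¹) = g₀ * (t * t) * g₀⁻¹ := by group
        _ = 1 := by rw [htt]; group
    have h2 : g₀ * t * g₀⁻¹ ≠ 1 := by
      intro h
      apply ht1
      calc t = g₀⁻¹ * (g₀ * t * g₀⁻¹) * g₀ := by group
        _ = 1 := by rw [h]; group
    have h3 := isConj hAC hB hno (inv_mk (htc j hj) hjj hj1 hjt)
      (inv_mk (htc _ hg₀S) h1 h2 hg₀t)
    obtain ⟨c, hc⟩ := isConj_iff.mp h3
    have h4 : (c : G) * j * (c : G)⁻¹ = g₀ * t * g₀⁻¹ := congrArg Subtype.val hc
    exact (isConj_iff.mpr ⟨_, h4⟩ : IsConj j (g₀ * t * g₀⁻¹)).trans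
      (isConj_iff.mpr ⟨g₀, rfl⟩ : IsConj t (g₀ * t * g₀⁻¹)).symm
  -- the involutions of `C_S(j)` commute, `j ≠ t` an involution of `S`
  have hcent : ∀ j ∈ S, j * j = 1 → j ≠ 1 → j ≠ t → ∀ a ∈ S, ∀ b ∈ S, a * a = 1 → b * b = 1 →
      Commute a j → Commute b j → a * b = b * a := by
    intro j hj hjj hj1 hjt a ha b hb haa hbb haj hbj
    obtain ⟨g, hg⟩ := isConj_iff.mp (hallc j hj hjj hj1 hjt)
    set V : Subgroup G := ((S : Subgroup G) ⊓ Subgroup.centralizer ({j} : Set G)).map
      (MulAut.conj g).toMonoidHom with hV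
    have hVp : IsPGroup 2 V := (S.isPGroup'.to_le inf_le_left).map _
    have hVC : V ≤ Subgroup.centralizer ({t} : Set G) := by
      rintro _ ⟨v, ⟨-, hv'⟩, rfl⟩
      have hv : v * j = j * v := Subgroup.mem_centralizer_singleton_iff.mp hv'
      rw [Subgroup.mem_centralizer_singleton_iff, ← hg]
      show g * v * g⁻¹ * (g * j * g⁻¹) = g * j * g⁻¹ * (g * v * g⁻¹)
      calc g * v * g⁻¹ * (g * j * g⁻¹) = g * (v * j) * g⁻¹ := by group
        _ = g * (j * v) * g⁻¹ := by rw [hv]
        _ = _ := by group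
    obtain ⟨c, hc, hcV⟩ := Cfsg.Agent.AschCrit.NonIso.exists_conj_le_sylow S _ V hSY hVC hVp
    rw [Subgroup.mem_centralizer_singleton_iff] at hc
    have hmem : ∀ v ∈ S, Commute v j → (c * g) * v * (c * g)⁻¹ ∈ S := by
      intro v hv hvj
      have h1 := hcV (g * v * g⁻¹) ⟨v, ⟨hv, Subgroup.mem_centralizer_singleton_iff.mpr hvj.eq⟩, rfl⟩
      have h2 : c * (g * v * g⁻¹) * c⁻¹ = (c * g) * v * (c * g)⁻¹ := by group
      rw [h2] at h1
      exact h1
    have hkj : (c * g) * j * (c * g)⁻¹ = t := by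
      calc (c * g) * j * (c * g)⁻¹ = c * (g * j * g⁻¹) * c⁻¹ := by group
        _ = t := by rw [hg, hc]; group
    set k := c * g with hk
    have hsqk : ∀ v : G, v * v = 1 → (k * v * k⁻¹) * (k * v * k⁻¹) = 1 := by
      intro v hv
      calc (k * v * k⁻¹) * (k * v * k⁻¹) = k * (v * v) * k⁻¹ := by group
        _ = 1 := by rw [hv]; group
    by_contra hab
    have habsq : (a * b) * (a * b) = t := by
      rcases hsq ha hb haa hbb with h | h
      · exfalso
        apply hab
        have ha' : a⁻¹ = a := inv_eq_of_mul_eq_one_right haa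
        have hb' : b⁻¹ = b := inv_eq_of_mul_eq_one_right hbb
        have h1 : a * b = (a * b)⁻¹ := eq_inv_of_mul_eq_one_left h
        rw [mul_inv_rev, ha', hb'] at h1
        exact h1
      · exact h
    have hcalc : (k * a * k⁻¹) * (k * b * k⁻¹) * ((k * a * k⁻¹) * (k * b * k⁻¹)) = k * t * k⁻¹ := by
      rw [← habsq]; group
    rcases hsq (hmem a ha haj) (hmem b hb hbj) (hsqk a haa) (hsqk b hbb) with h | h
    · rw [hcalc] at h
      apply ht1
      calc t = k⁻¹ * (k * t * k⁻¹) * k := by group
        _ = 1 := by rw [h]; group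
    · rw [hcalc] at h
      apply hjt
      calc j = k⁻¹ * (k * j * k⁻¹) * k := by group
        _ = k⁻¹ * (k * t * k⁻¹) * k := by rw [hkj, h]
        _ = t := by group
  -- the `E8`
  obtain ⟨e, heS, f, hfS, hee, hff, hef, he1, het, hf1, hft, hfe, hfet⟩ := hB.eight (S.subtype hSY)
  have heS' : (e : G) ∈ S := heS
  have hfS' : (f : G) ∈ S := hfS
  have hee' : (e : G) * e = 1 := congrArg Subtype.val hee
  have hff' : (f : G) * f = 1 := congrArg Subtype.val hff
  have hef' : (e : G) * f = f * e := congrArg Subtype.val hef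
  have he1' : (e : G) ≠ 1 := fun h => he1 (Subtype.ext h)
  have het' : (e : G) ≠ t := fun h => het (Subtype.ext h)
  have hf1' : (f : G) ≠ 1 := fun h => hf1 (Subtype.ext h)
  have hft' : (f : G) ≠ t := fun h => hft (Subtype.ext h)
  have hfe' : (f : G) ≠ e := fun h => hfe (Subtype.ext h)
  have hfet' : (f : G) ≠ e * t := fun h => hfet (Subtype.ext h)
  have hefS : (e : G) * f ∈ S := S.mul_mem heS' hfS'
  have hefef : ((e : G) * f) * (e * f) = 1 := by
    have hc : Commute (e : G) f := hef'
    rw [hc.symm.mul_mul_mul_comm, hee', hff', one_mul]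
  have hef1 : (e : G) * f ≠ 1 := by
    intro h
    apply hfe'
    calc (f : G) = (e * e) * f := by rw [hee', one_mul]
      _ = e * (e * f) := by rw [mul_assoc]
      _ = e := by rw [h, mul_one]
  have heft : (e : G) * f ≠ t := by
    intro h
    apply hfet'
    calc (f : G) = (e * e) * f := by rw [hee', one_mul]
      _ = e * (e * f) := by rw [mul_assoc]
      _ = e * t := by rw [h]
  -- everything commutes with `e`
  have hce : ∀ x ∈ S, x * x = 1 → x * (e : G) = e * x := by
    intro x hx hxx
    by_contra hxe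
    have hxf : ¬ Commute x (f : G) := by
      intro h
      exact hxe (hcent f hfS' hff' hf1' hft' x hx e heS' hxx hee' h hef')
    have h1 : (x * e) * (x * e) = t := by
      rcases hsq hx heS' hxx hee' with h | h
      · exfalso
        apply hxe
        have h1 : x * (e : G) = (x * e)⁻¹ := eq_inv_of_mul_eq_one_left h
        rwa [mul_inv_rev, inv_eq_of_mul_eq_one_right hxx, inv_eq_of_mul_eq_one_right hee'] at h1
      · exact h
    have h2 : (x * f) * (x * f) = t := by
      rcases hsq hx hfS' hxx hff' with h | h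
      · exfalso
        apply hxf
        have h1 : x * (f : G) = (x * f)⁻¹ := eq_inv_of_mul_eq_one_left h
        rwa [mul_inv_rev, inv_eq_of_mul_eq_one_right hxx, inv_eq_of_mul_eq_one_right hff'] at h1
      · exact h
    have h3 : x * e * x = t * e := by
      calc x * e * x = (x * e * (x * e)) * e := by
            rw [mul_assoc (x * e) (x * e) e, mul_assoc x (e : G) e, hee', mul_one]
        _ = t * e := by rw [h1]
    have h4 : x * f * x = t * f := by
      calc x * f * x = (x * f * (x * f)) * f := by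
            rw [mul_assoc (x * f) (x * f) f, mul_assoc x (f : G) f, hff', mul_one]
        _ = t * f := by rw [h2]
    have h5 : x * (e * f) * x = e * f := by
      calc x * (e * f) * x = x * e * (x * x) * f * x := by rw [hxx]; group
        _ = (x * e * x) * (x * f * x) := by group
        _ = (t * e) * (t * f) := by rw [h3, h4]
        _ = t * (e * t) * f := by group
        _ = t * (t * e) * f := by rw [(htc e heS').eq]
        _ = (t * t) * (e * f) := by group
        _ = e * f := by rw [htt, one_mul]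
    have h6 : Commute x ((e : G) * f) := by
      show x * (e * f) = e * f * x
      calc x * (e * f) = x * (e * f) * (x * x) := by rw [hxx, mul_one]
        _ = (x * (e * f) * x) * x := by group
        _ = e * f * x := by rw [h5]
    have h7 : Commute (e : G) (e * f) := (Commute.refl _).mul_right hef'
    exact hxe (hcent _ hefS hefef hef1 heft x hx e heS' hxx hee' h6 h7)
  exact hcent e heS' hee' he1' het' x hx y hy hxx hyy (hce x hx hxx) (hce y hy hyy)

/-- **Section 4.**  There is a `BadInv` element. -/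
theorem exists_badInv [IsSimpleGroup G] (hnc : ∃ a b : G, a * b ≠ b * a)
    (hAC : GenCrit.CritHolds.{u}) (hBen : ∀ (K : Type u) [Group K] [Finite K], BenderHolds K)
    (hGold : GoldHolds.{u}) (hSE : ¬ ∃ H : Subgroup G, IsStronglyEmbedded H)
    (htS : t ∈ S) (ht : orderOf t = 2) (htc : ∀ s ∈ S, Commute s t)
    (hz : ∀ z ∈ S, orderOf z = 2 → (∀ s ∈ S, Commute s z) → z = t) (hB : Base D (tc t)) :
    ∃ w : Subgroup.centralizer ({t} : Set G), BadInv D (tc t) w := by
  by_contra hcon
  push Not at hcon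
  have hcomm := @commute_of_no_badInv G _ _ S t D _ _ hnc hAC hBen htS ht htc hB hcon
  have htt : t * t = 1 := by rw [← pow_two, ← ht, pow_orderOf_eq_one]
  have ht1 : t ≠ 1 := by rintro rfl; simp at ht
  let A : Subgroup G :=
    { carrier := {x | x ∈ S ∧ x * x = 1}
      one_mem' := ⟨S.one_mem, one_mul 1⟩
      mul_mem' := by
        rintro x y ⟨hx, hxx⟩ ⟨hy, hyy⟩
        refine ⟨S.mul_mem hx hy, ?_⟩
        have hc : Commute x y := hcomm hx hy hxx hyy
        rw [hc.symm.mul_mul_mul_comm, hxx, hyy, one_mul]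
      inv_mem' := by
        rintro x ⟨hx, hxx⟩
        refine ⟨S.inv_mem hx, ?_⟩
        rw [← mul_inv_rev, hxx, inv_one] }
  have hA : ∀ x : G, x ∈ A ↔ x ∈ S ∧ x * x = 1 := fun x => Iff.rfl
  have hA1 : A ≠ ⊥ := by
    intro h
    have : t ∈ A := ⟨htS, htt⟩
    rw [h, Subgroup.mem_bot] at this
    exact ht1 this
  have hAc : IsMulCommutative A :=
    ⟨⟨fun a b => Subtype.ext (hcomm a.2.1 b.2.1 a.2.2 b.2.2)⟩⟩
  have hsc : IsStronglyClosed A (S : Subgroup G) := by
    refine ⟨fun x hx => hx.1, ?_⟩
    rintro x ⟨-, hxx⟩ g hg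
    refine ⟨hg, ?_⟩
    calc g * x * g⁻¹ * (g * x * g⁻¹) = g * (x * x) * g⁻¹ := by group
      _ = 1 := by rw [hxx]; group
  rcases hGold G S A hA1 hAc hsc with h | h
  · have hSY : (S : Subgroup G) ≤ Subgroup.centralizer ({t} : Set G) :=
      fun s hs => mem_cent (htc s hs)
    obtain ⟨e, heS, he1, he2, he3, -⟩ := hB.four (S.subtype hSY)
    have heS' : (e : G) ∈ S := heS
    apply he3
    apply Subtype.ext
    refine hz e heS' ?_ ?_
    · exact orderOf_eq_prime (by rw [pow_two]; exact congrArg Subtype.val he1)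
        (fun h => he2 (Subtype.ext h))
    · intro s hs
      exact congrArg Subtype.val (h.is_comm.comm ⟨s, hs⟩ ⟨e, heS'⟩)
  · exact hSE h

end

end Cfsg.Agent.TwoGenCore.ExistsBad
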