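import Mathlib
import Cfsg.Prelude.Def_Involutions
import Cfsg.Agent.AschCrit.NonIso
import Cfsg.Agent.AschCrit.Dichotomy
import Cfsg.Agent.StrongEmb.Basic

/-!
# The general Aschbacher criterion

`CritHolds` is Aschbacher's criterion for simple groups (the statement S1175).  From it (and the
Z*-theorem) we get the criterion for an arbitrary finite group `X` acting faithfully on `Ω` with `O(X) = 1`:
if `AschCrit.Basic.Setup X Ω z` holds, then `L = ⟨z^X⟩` is simple nonabelian, `C_X(L) = 1`, `L` is transitive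
on `Ω`, every involution of `L` is conjugate to `z` and has exactly one fixed point, the stabilisers in `L`
are strongly embedded in `L`, and every involution of `X` with at most one fixed point lies in `L`.
-/

set_option autoImplicit false

universe u v

open Cfsg Subgroup

namespace Cfsg.Agent.TwoGenCore.GenCrit

open Cfsg.Agent.TwoFusion.StronglyEmbeddedBasic Cfsg.Agent.AschCrit.Basic
open Cfsg.Agent.AschCrit.Basic.Setup Cfsg.Agent.AschCrit.Closed Cfsg.Agent.AschCrit.Descent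
open Cfsg.Agent.AschCrit.NonIso Cfsg.Agent.StrongEmb.Basic

/-- Aschbacher's criterion for simple groups, in the universe `u`. -/
def CritHolds : Prop :=
  ∀ (G : Type u) [Group G] [Finite G] [IsSimpleGroup G] (M : Subgroup G), M ≠ ⊤ →
    ∀ z : G, orderOf z = 2 → z ∈ M →
    (∃ S : Sylow 2 G, z ∈ S ∧ ∀ s ∈ S, Commute s z) → (∀ g : G, g * z * g⁻¹ ∈ M → g ∈ M) →
    (∀ g : G, Commute z (g * z * g⁻¹) → g * z * g⁻¹ ≠ z →
      Subgroup.centralizer ({z * (g * z * g⁻¹)} : Set G) ≤ M) →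
    ∃ H : Subgroup G, Cfsg.IsStronglyEmbedded H

variable {X : Type u} {Ω : Type v} [Group X] [Finite X] [MulAction X Ω] {z : X}

omit [Finite X] in
/-- in a faithful transitive action a normal subgroup fixing a point is trivial -/
theorem eq_bot_of_normal (h : Setup X Ω z) (hf : ∀ g : X, (∀ a : Ω, g • a = a) → g = 1)
    {N : Subgroup X} (hN : N.Normal) {a : Ω} (ha : ∀ g ∈ N, g • a = a) : N = ⊥ := by
  rw [Subgroup.eq_bot_iff_forall]
  intro g hg
  apply hf
  intro b
  obtain ⟨k, rfl⟩ := h.trans a b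
  have h1 := ha (k⁻¹ * g * k) (by
    have := hN.conj_mem g hg k⁻¹
    rwa [inv_inv] at this)
  rw [mul_smul, mul_smul] at h1
  exact smul_left_cancel k⁻¹ (by rw [h1, inv_smul_smul])

/-- with `O(X) = 1` the involution `z` is not isolated -/
theorem nonIso (h : Setup X Ω z) (hO : pPrimeCore 2 X = ⊥) : NonIso z := by
  by_contra hn
  have hiso : IsIsolatedInvolution z := by
    refine ⟨h.invol, fun g hg => ?_⟩
    by_contra hne
    exact hn ⟨_, isConj_iff.mpr ⟨g, rfl⟩, hg, hne⟩
  have hc : ∀ g : X, Commute g z := by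
    intro g
    have := Cfsg.Agent.AschCrit.Dichotomy.commutator_mem_oddCore hiso g
    rw [hO, mem_bot, mul_inv_eq_one, mul_inv_eq_iff_eq_mul] at this
    exact this.symm
  obtain ⟨a, ha⟩ := h.exists_fix
  obtain ⟨p, q, hpq⟩ := h.nontriv
  apply hpq
  obtain ⟨g, hg⟩ := h.trans a p
  obtain ⟨k, hk⟩ := h.trans a q
  rw [← hg, ← hk, h.fix_of_commute (IsConj.refl z) (hc g) ha,
    h.fix_of_commute (IsConj.refl z) (hc k) ha]

/-- **The general Aschbacher criterion.** -/
theorem main (hAC : CritHolds.{u}) (h : Setup X Ω z)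
    (hf : ∀ g : X, (∀ a : Ω, g • a = a) → g = 1) (hO : pPrimeCore 2 X = ⊥) :
    ∃ L : Subgroup X, L.Normal ∧ IsSimpleGroup L ∧ (∃ a b : L, a * b ≠ b * a) ∧
      centralizer (L : Set X) = ⊥ ∧
      (∀ i : X, orderOf i = 2 → (∀ a b : Ω, i • a = a → i • b = b → a = b) → i ∈ L) ∧
      (∀ i ∈ L, orderOf i = 2 → IsConj z i) ∧
      (∀ a b : Ω, ∃ g ∈ L, g • a = b) ∧
      UniqueFix L Ω ∧
      ∀ a : Ω, IsStronglyEmbedded ((MulAction.stabilizer X a).subgroupOf L) := by
  have hn := nonIso h hO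
  set L := Subgroup.normalClosure ({z} : Set X) with hL
  have hLn : L.Normal := Subgroup.normalClosure_normal
  have hs : IsSimpleGroup L := isSimpleGroup_closure h hf hn
  have hzL : z ∈ L := Subgroup.subset_normalClosure rfl
  have hDL : ∀ d : X, IsConj z d → d ∈ L := by
    intro d hd
    obtain ⟨g, rfl⟩ := isConj_iff.mp hd
    exact hLn.conj_mem z hzL g
  obtain ⟨a₀, ha₀⟩ := h.exists_fix
  obtain ⟨b₀, hab₀⟩ : ∃ b : Ω, a₀ ≠ b := by
    obtain ⟨p, q, hpq⟩ := h.nontriv
    by_cases hap : a₀ = p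
    · exact ⟨q, by rw [hap]; exact hpq⟩
    · exact ⟨p, hap⟩
  obtain ⟨e, he⟩ := h.nonempty_At b₀
  have heL := hDL e he.1
  have hza : z ∈ At z a₀ := ⟨IsConj.refl z, ha₀⟩
  have hS := setup_pts h hab₀ hza he hzL heL
  have hconj := isConj_subgroup_iff h hab₀ hza he hzL heL
  have hpts : ∀ c : Ω, c ∈ pts Ω z L := by
    intro c
    obtain ⟨d, hd⟩ := h.nonempty_At c
    exact ⟨d, hDL d hd.1, hd⟩
  have htrans : ∀ a b : Ω, ∃ g ∈ L, g • a = b := by
    intro a b
    obtain ⟨g, hg⟩ := hS.trans ⟨a, hpts a⟩ ⟨b, hpts b⟩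
    exact ⟨g, g.2, congrArg Subtype.val hg⟩
  -- noncommutative
  have hnc : ∃ a b : L, a * b ≠ b * a := by
    refine ⟨⟨z, hzL⟩, ⟨e, heL⟩, fun hc => ?_⟩
    have h1 : z * e = e * z := congrArg Subtype.val hc
    have h2 := h.fix_of_commute (IsConj.refl z) (show Commute e z from h1.symm) ha₀
    exact hab₀ (h.uniq he.1 h2 he.2)
  -- trivial centraliser
  have hcent : centralizer (L : Set X) = ⊥ := by
    refine eq_bot_of_normal h hf (a := a₀) inferInstance ?_
    intro g hg
    exact h.fix_of_commute (IsConj.refl z) (show Commute g z from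
      (mem_centralizer_iff.mp hg z hzL).symm) ha₀
  -- strongly embedded subgroup of `L`
  have hse : ∃ H : Subgroup L, IsStronglyEmbedded H := by
    refine hAC L ((MulAction.stabilizer X a₀).subgroupOf L) ?_ ⟨z, hzL⟩ ?_ ?_ ?_ ?_ ?_
    · intro htop
      obtain ⟨g, hg, hgb⟩ := htrans a₀ b₀
      have h1 : (⟨g, hg⟩ : L) ∈ (MulAction.stabilizer X a₀).subgroupOf L := by rw [htop]; trivial
      have h2 : g • a₀ = a₀ := h1
      exact hab₀ (h2.symm.trans hgb)
    · rw [Subgroup.orderOf_mk]; exact h.invol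
    · exact ha₀
    · exact hS.central
    · intro g hg
      have h1 : ((g : X) * z * (g : X)⁻¹) • a₀ = a₀ := hg
      show (g : X) • a₀ = a₀
      have h2 : z • ((g : X)⁻¹ • a₀) = (g : X)⁻¹ • a₀ := by
        rw [mul_smul, mul_smul] at h1
        exact smul_left_cancel (g : X) (by rw [h1, smul_inv_smul])
      have h3 := h.fix_unique _ _ h2 ha₀
      rw [inv_smul_eq_iff] at h3
      exact h3.symm
    · intro g hgc hgne c hc
      have h1 : Commute z ((g : X) * z * (g : X)⁻¹) := congrArg Subtype.val hgc.eq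
      have h2 : (g : X) * z * (g : X)⁻¹ ≠ z := fun hh => hgne (Subtype.ext hh)
      have h3 : Commute (c : X) (z * ((g : X) * z * (g : X)⁻¹)) := by
        rw [mem_centralizer_singleton_iff] at hc
        exact congrArg Subtype.val hc
      exact h.comm g h1 h2 c h3 a₀ ha₀
  obtain ⟨H, hH⟩ := hse
  have hinv : ∀ i ∈ L, orderOf i = 2 → IsConj z i := by
    intro i hi hi2
    have h1 : IsConj (⟨z, hzL⟩ : L) ⟨i, hi⟩ := isConj_of_involutions hH _ _
      (by rw [Subgroup.orderOf_mk]; exact h.invol) (by rw [Subgroup.orderOf_mk]; exact hi2)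
    exact (hconj _).mp h1
  have hU : UniqueFix L Ω := by
    intro i hi
    have h1 : IsConj z (i : X) := hinv i i.2 (by rw [Subgroup.orderOf_coe]; exact hi)
    obtain ⟨a, ha⟩ := h.ex h1
    exact ⟨a, ha, fun b hb => h.uniq h1 hb ha⟩
  refine ⟨L, hLn, hs, hnc, hcent, ?_, hinv, htrans, hU, ?_⟩
  · intro i hi hiu
    exact hDL i (isConj_of_unique_fix h hf hi hiu)
  · intro a
    obtain ⟨d, hd⟩ := h.nonempty_At a
    obtain ⟨b, hb⟩ : ∃ b : Ω, b ≠ a := by
      by_cases hh : a = a₀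
      · exact ⟨b₀, by rw [hh]; exact hab₀.symm⟩
      · exact ⟨a₀, Ne.symm hh⟩
    obtain ⟨g, hg, hgb⟩ := htrans a b
    have h1 := hU.stronglyEmbedded (t := (⟨d, hDL d hd.1⟩ : L)) (x := a) (g := ⟨g, hg⟩)
      (by rw [Subgroup.orderOf_mk]; exact h.orderOf_eq hd.1) hd.2
      (by show g • a ≠ a; rw [hgb]; exact hb)
    rwa [stabilizer_subgroup_eq] at h1

end Cfsg.Agent.TwoGenCore.GenCrit
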