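import Cfsg.Agent.TwoGenCore.CentralFive
import Cfsg.Agent.TwoGenCore.GenCrit

/-!
# Proper 2-generated cores: step (5)

`five` : `Five H S` for a simple group of 2-rank at least 3 with a proper closed subgroup `H ≥ S`, given
Aschbacher's criterion and Bender's theorem.
-/

set_option autoImplicit false

open scoped Pointwise

namespace Cfsg.Agent.TwoGenCore.FiveMain

open Cfsg Cfsg.Agent.TwoGenCore.Involution Cfsg.Agent.TwoGenCore.CentralSetup
open Cfsg.Agent.TwoGenCore.CentralSetup.CSetup Cfsg.Agent.TwoGenCore.CentralFive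
open Cfsg.Agent.StrongEmb.Split Cfsg.Agent.StrongEmb.TwoRank Cfsg.Agent.StrongEmb.Frame

universe u

section Central

variable {C : Type u} [Group C] {M : Subgroup C} {t : C}

/-- Two commuting involutions `e`, `f` with `e, f, ef ≠ t`. -/
structure Pair (t e f : C) : Prop where
  ord₁ : orderOf e = 2
  ord₂ : orderOf f = 2
  ord₃ : orderOf (e * f) = 2
  ne₁ : e ≠ t
  ne₂ : f ≠ t
  ne₃ : e * f ≠ t
  comm : Commute e f

theorem exists_pair [Finite C] {A : Subgroup C} (hA : Dichotomy.Elem.Big A) (t : C) :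
    ∃ e ∈ A, ∃ f ∈ A, Pair t e f := by
  classical
  have h8 : 8 ≤ Nat.card A := hA.2
  have hcard : ∀ s : Finset C, s.card ≤ 4 → ∃ x ∈ A, x ∉ s := by
    intro s hs
    by_contra hcon
    push Not at hcon
    have h1 : (A : Set C) ⊆ (s : Set C) := fun x hx => hcon x hx
    have h2 := Set.ncard_le_ncard h1 (Set.toFinite _)
    rw [Set.ncard_coe_finset] at h2
    have h3 : (A : Set C).ncard = Nat.card A := rfl
    omega
  obtain ⟨e, heA, he⟩ := hcard {1, t} ((Finset.card_le_two).trans (by norm_num))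
  obtain ⟨f, hfA, hf⟩ := hcard {1, t, e, e * t} Finset.card_le_four
  simp only [Finset.mem_insert, Finset.mem_singleton, not_or] at he hf
  have hee := Dichotomy.Elem.elem_sq hA.1 heA
  have hff := Dichotomy.Elem.elem_sq hA.1 hfA
  have hef := Dichotomy.Elem.elem_comm hA.1 e heA f hfA
  refine ⟨e, heA, f, hfA, CentralSetup.orderOf_eq_two hee he.1, CentralSetup.orderOf_eq_two hff hf.1,
    CentralSetup.orderOf_eq_two (Dichotomy.Elem.elem_sq hA.1 (mul_mem heA hfA)) ?_, he.2, hf.2.1, ?_,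
    hef⟩
  · intro h1
    apply hf.2.2.1
    calc f = (e * e) * f := by rw [hee, one_mul]
      _ = e * (e * f) := by group
      _ = e := by rw [h1, mul_one]
  · intro h1
    apply hf.2.2.2
    calc f = (e * e) * f := by rw [hee, one_mul]
      _ = e * (e * f) := by group
      _ = e * t := by rw [h1]

/-- **`O(X) = 1`.** -/
theorem pPrimeCore_eq_bot [Finite C] (h : CSetup M t) {e f : C} (heM : e ∈ M) (hfM : f ∈ M)
    (hp : Pair t e f) : pPrimeCore 2 (C ⧸ M.normalCore) = ⊥ := by
  set N := pPrimeCore 2 (C ⧸ M.normalCore) with hN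
  have hNn : N.Normal := Cfsg.Agent.Lib.Cores.pPrimeCore_normal 2
  have hodd : Odd (Nat.card N) := by
    have := Cfsg.Agent.Lib.Cores.pPrimeCore_coprime (G := C ⧸ M.normalCore) 2
    rwa [Nat.coprime_two_right] at this
  set π := QuotientGroup.mk' M.normalCore with hπ
  have hle : N ≤ Mbar M := by
    refine Cfsg.Agent.Lib.KleinGen.le_of_klein N _ hodd (π e) (π f) ?_ ?_ ?_
      (fun g hg => hNn.conj_mem g hg _) (fun g hg => hNn.conj_mem g hg _) ?_ ?_ ?_
    · rw [← map_mul, CentralSetup.sq_eq_one hp.ord₁, map_one]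
    · rw [← map_mul, CentralSetup.sq_eq_one hp.ord₂, map_one]
    · rw [← map_mul, ← map_mul, hp.comm.eq]
    · rintro g ⟨-, hg⟩
      exact h.mk_mem_of_commute heM hp.ord₁ hp.ne₁ (Subgroup.mem_centralizer_singleton_iff.mp hg)
    · rintro g ⟨-, hg⟩
      exact h.mk_mem_of_commute hfM hp.ord₂ hp.ne₂ (Subgroup.mem_centralizer_singleton_iff.mp hg)
    · rintro g ⟨-, hg⟩
      rw [← map_mul] at hg
      exact h.mk_mem_of_commute (mul_mem heM hfM) hp.ord₃ hp.ne₃
        (Subgroup.mem_centralizer_singleton_iff.mp hg)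
  rw [Subgroup.eq_bot_iff_forall]
  intro g hg
  apply faithful
  intro k
  exact hle (hNn.conj_mem g hg k)

/-- **Steps (2)-(4).** -/
theorem exists_LData [Finite C] (hAC : GenCrit.CritHolds.{u})
    (hBH : ∀ (L : Type u) [Group L] [Finite L], BenderHolds L) (h : CSetup M t) (T : Sylow 2 C)
    (hTM : (T : Subgroup C) ≤ M) {x : C}
    (hxT : x ∈ T) (hx2 : orderOf x = 2) (hxt : x ≠ t)
    (hTx : ∀ s ∈ T, s * x * s⁻¹ = x ∨ s * x * s⁻¹ = x * t)
    (hor : (∀ s ∈ T, Commute s x) ∨ ∃ r ∈ T, r ∈ M.normalCore ∧ r * r = t)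
    {e f : C} (heM : e ∈ M) (hfM : f ∈ M) (hp : Pair t e f) :
    ∃ L : Subgroup (C ⧸ M.normalCore), LData M t L ∧ IsSimpleGroup L ∧
      Subgroup.centralizer (L : Set (C ⧸ M.normalCore)) = ⊥ := by
  have hS := h.setup T hTM hxT hx2 hxt hTx hor
  obtain ⟨L, hLn, hLs, -, hLc, hLi, -, -, -, hLse⟩ := GenCrit.main hAC hS faithful_smul
    (pPrimeCore_eq_bot h heM hfM hp)
  have hinv : ∀ x ∈ M, orderOf x = 2 → x ≠ t → QuotientGroup.mk' M.normalCore x ∈ L := by
    intro y hy hy2 hyt
    refine hLi _ (h.mk_ord hy2 hyt) ?_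
    intro a b ha hb
    rw [(h.fix_iff hy hy2 hyt).mp ha, (h.fix_iff hy hy2 hyt).mp hb]
  have hse : IsStronglyEmbedded ((Mbar M).subgroupOf L) := by
    have h1 := hLse (QuotientGroup.mk 1 : Om M)
    have h2 : MulAction.stabilizer (C ⧸ M.normalCore) (QuotientGroup.mk 1 : Om M) = Mbar M := by
      ext g
      rw [MulAction.mem_stabilizer_iff, smul_mk_eq_iff, inv_one, one_mul, mul_one]
    rwa [h2] at h1
  refine ⟨L, ⟨hLn, hinv, hse, ?_⟩, hLs, hLc⟩
  -- Bender
  set π := QuotientGroup.mk' M.normalCore with hπ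
  have hcp : CommPair L := by
    refine ⟨⟨π e, hinv e heM hp.ord₁ hp.ne₁⟩, ⟨π f, hinv f hfM hp.ord₂ hp.ne₂⟩, ?_, ?_, ?_, ?_⟩
    · rw [Subgroup.orderOf_mk]; exact h.mk_ord hp.ord₁ hp.ne₁
    · rw [Subgroup.orderOf_mk]; exact h.mk_ord hp.ord₂ hp.ne₂
    · intro h1
      have h2 : π e = π f := congrArg Subtype.val h1
      rw [hπ, mk_eq_iff] at h2
      have h3 : e⁻¹ = e := inv_eq_of_mul_eq_one_right (CentralSetup.sq_eq_one hp.ord₁)
      rw [h3] at h2
      exact hp.ne₃ (h.core_invol h2 hp.ord₃)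
    · apply Subtype.ext
      show π e * π f = π f * π e
      rw [← map_mul, ← map_mul, hp.comm.eq]
  have hcore := normalCore_eq_bot_of_simple hse.1
  obtain ⟨Q, hQ, -⟩ := hBH L _ hse hcp hcore
  intro s hsL hsM hs2 y hyL hyM hy2
  have h1 : (⟨y, hyL⟩ : L) ∈ Q := mem_of_two_element hse hQ hyM (by
    obtain ⟨n, hn⟩ := hy2
    exact ⟨n, by rw [Subgroup.orderOf_mk]; exact hn⟩)
  exact congrArg Subtype.val (involution_comm hse hcp hcore hQ (s := (⟨s, hsL⟩ : L)) hsM
    (by rw [Subgroup.orderOf_mk]; exact hs2) h1)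

end Central

section Global

open Cfsg.Agent.TwoGenCore.GoodFusion Cfsg.Agent.TwoGenCore.GoodCentral

variable {G : Type u} [Group G] {H : Subgroup G}

theorem self_mem (t : G) : t ∈ Subgroup.centralizer ({t} : Set G) :=
  GoodFusion.mem_centralizer_singleton.mpr (Commute.refl t)

/-- the set-up in the centraliser of a bad involution -/
theorem csetup [Finite G] (hH : Closed H) {t : G} (htH : t ∈ H) (ht : orderOf t = 2)
    (hbad : Bad H t) :
    CSetup (H.subgroupOf (Subgroup.centralizer ({t} : Set G)))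
      (⟨t, self_mem t⟩ : Subgroup.centralizer ({t} : Set G)) where
  closed := hH.subgroupOf _
  ne_top := by
    intro htop
    obtain ⟨c, hc, hcH⟩ := hbad
    apply hcH
    have h1 : (⟨c, GoodFusion.mem_centralizer_singleton.mpr hc⟩ :
        Subgroup.centralizer ({t} : Set G)) ∈ H.subgroupOf (Subgroup.centralizer ({t} : Set G)) := by
      rw [htop]; trivial
    exact h1
  mem := htH
  ord := by rw [Subgroup.orderOf_mk]; exact ht
  central := by
    intro g
    exact Subtype.ext (GoodFusion.mem_centralizer_singleton.mp g.2).eq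

/-- an extremal involution: `S ∩ C(t)` is a Sylow 2-subgroup of `C(t)` -/
theorem exists_sylow_of_ext [Finite G] {S : Subgroup G} (hS : IsPGroup 2 S) {t : G}
    (hext : Ext S t) : ∃ T : Sylow 2 (Subgroup.centralizer ({t} : Set G)),
      (T : Subgroup (Subgroup.centralizer ({t} : Set G))) =
        S.subgroupOf (Subgroup.centralizer ({t} : Set G)) := by
  have hp : Fact (Nat.Prime 2) := ⟨Nat.prime_two⟩
  set C := Subgroup.centralizer ({t} : Set G) with hC
  have h1 : IsPGroup 2 (S.subgroupOf C) := hS.comap_of_injective C.subtype C.subtype_injective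
  obtain ⟨P, hP⟩ := h1.exists_le_sylow
  have h2 : (P : Subgroup C).map C.subtype ≤ C := by
    rintro _ ⟨x, -, rfl⟩
    exact x.2
  obtain ⟨c, hc, hle⟩ := hext.2 _ h2 (P.2.map _)
  have h3 := Subgroup.card_le_of_le hle
  rw [Subgroup.card_map_of_injective (MulAut.conj c).injective,
    Subgroup.card_map_of_injective C.subtype_injective] at h3
  have h4 : Nat.card (S ⊓ C : Subgroup G) = Nat.card (S.subgroupOf C) := by
    have h5 : Nat.card ((S.subgroupOf C).map C.subtype) = Nat.card (S.subgroupOf C) :=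
      Subgroup.card_map_of_injective C.subtype_injective
    rw [← h5, Subgroup.subgroupOf_map_subtype]
  rw [h4] at h3
  exact ⟨P, (Subgroup.eq_of_le_of_card_ge hP h3).symm⟩

/-- **Step (5).** -/
theorem five [Finite G] [IsSimpleGroup G] (hAC : GenCrit.CritHolds.{u})
    (hBH : ∀ (L : Type u) [Group L] [Finite L], BenderHolds L) (hH : Closed H) (S : Sylow 2 G)
    (hSH : (S : Subgroup G) ≤ H) (hr : ¬ PRankLE 2 2 (S : Subgroup G)) :
    Five H (S : Subgroup G) := by
  intro t htS ht hext hbad hnc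
  have hp : Fact (Nat.Prime 2) := ⟨Nat.prime_two⟩
  have hcard : 4 < Nat.card (S : Subgroup G) := by
    by_contra hle
    apply hr
    intro A _ _
    have h1 : Nat.card A ≤ Nat.card (S : Subgroup G) := Nat.card_le_card_of_injective _
      A.subtype_injective
    norm_num
    omega
  have hO2 : ∀ N : Subgroup G, N.Normal → N.index ≠ 2 := by
    intro N hN hi
    rcases hN.eq_bot_or_eq_top with h1 | h1
    · rw [h1, Subgroup.index_bot] at hi
      have := Subgroup.card_le_card_group (S : Subgroup G)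
      omega
    · rw [h1, Subgroup.index_top] at hi
      omega
  set C := Subgroup.centralizer ({t} : Set G) with hC
  have h := csetup hH (hSH htS) ht hbad
  set M := H.subgroupOf C with hM
  set t' : C := ⟨t, self_mem t⟩ with ht'
  obtain ⟨T, hT⟩ := exists_sylow_of_ext S.2 hext
  have hTmem : ∀ x : C, x ∈ T ↔ (x : G) ∈ S := by
    intro x
    have : x ∈ T ↔ x ∈ (T : Subgroup C) := Iff.rfl
    rw [this, hT]
    exact Subgroup.mem_subgroupOf
  have hTM : (T : Subgroup C) ≤ M := by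
    intro x hx
    exact hSH ((hTmem x).mp hx)
  obtain ⟨A, hA, htA, hAle⟩ := BigCent.exists_big_of_ext hO2 S hr ht hext
  have hA' : Dichotomy.Elem.Big (A.subgroupOf C) := by
    refine ⟨Dichotomy.Elem.isElementaryAbelian_of ?_ ?_, ?_⟩
    · intro a ha b hb
      exact Subtype.ext (Dichotomy.Elem.elem_comm hA.1 a ha b hb)
    · intro a ha
      exact Subtype.ext (Dichotomy.Elem.elem_sq hA.1 ha)
    · rw [Nat.card_congr (Subgroup.subgroupOfEquivOfLe (hAle.trans inf_le_right)).toEquiv]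
      exact hA.2
  have hA'T : A.subgroupOf C ≤ T := by
    intro x hx
    exact (hTmem x).mpr (hAle hx).1
  obtain ⟨e, he, f, hf, hpair⟩ := exists_pair hA' t'
  obtain ⟨x, hxS, hx2, hxt, hxtc, hxc⟩ := hnc
  set x' : C := ⟨x, GoodFusion.mem_centralizer_singleton.mpr hxtc⟩ with hx'
  have hx'T : x' ∈ T := (hTmem x').mpr hxS
  have hx'2 : orderOf x' = 2 := by rw [hx', Subgroup.orderOf_mk]; exact hx2
  have hx't : x' ≠ t' := fun h1 => hxt (congrArg Subtype.val h1)
  have hx'c : ∀ s ∈ T, Commute s x' := by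
    intro s hs
    exact Subtype.ext (hxc s ((hTmem s).mp hs)
      (GoodFusion.mem_centralizer_singleton.mp s.2)).eq
  obtain ⟨L, hL, -, -⟩ := exists_LData hAC hBH h T hTM hx'T hx'2 hx't
    (fun s hs => Or.inl (by rw [(hx'c s hs).eq, mul_inv_cancel_right])) (Or.inl hx'c)
    (hTM (hA'T he)) (hTM (hA'T hf)) hpair
  obtain ⟨E, hET, hE2, htE, hE4, hEall, hEtr⟩ := five_aux h T hTM hL hx'T hx'2 hx't hx'c hA' hA'T
  have hmem : ∀ y : C, (y : G) ∈ E.map C.subtype ↔ y ∈ E := by
    intro y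
    constructor
    · rintro ⟨z, hz, hzy⟩
      have : z = y := Subtype.ext hzy
      rwa [← this]
    · intro hy; exact ⟨y, hy, rfl⟩
  refine ⟨E.map C.subtype, ?_, ?_, ?_, ?_, ?_, ?_, ?_⟩
  · rintro _ ⟨y, hy, rfl⟩
    exact (hTmem y).mp (hET hy)
  · rintro _ ⟨y, hy, rfl⟩
    exact GoodFusion.mem_centralizer_singleton.mp y.2
  · rintro _ ⟨y, hy, rfl⟩
    exact congrArg Subtype.val (hE2 y hy)
  · intro h1
    exact htE ((hmem t').mp h1)
  · rw [Subgroup.card_map_of_injective C.subtype_injective]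
    exact hE4
  · intro y hyS hyt hyy
    rcases hEall ⟨y, GoodFusion.mem_centralizer_singleton.mpr hyt⟩ ((hTmem _).mpr hyS)
      (Subtype.ext hyy) with h1 | h1
    · exact Or.inl ((hmem _).mpr h1)
    · exact Or.inr ((hmem _).mpr h1)
  · rintro _ ⟨y, hy, rfl⟩ _ ⟨z, hz, rfl⟩ hy1 hz1
    obtain ⟨c, hc⟩ := hEtr y hy z hz (fun h1 => hy1 (congrArg Subtype.val h1))
      (fun h1 => hz1 (congrArg Subtype.val h1))
    exact ⟨c, GoodFusion.mem_centralizer_singleton.mp c.2, congrArg Subtype.val hc⟩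

end Global

end Cfsg.Agent.TwoGenCore.FiveMain
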