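import Cfsg.Agent.TwoGenCore.GoodMain
import Cfsg.Agent.OddOrderLocal.Rank
import Cfsg.Prelude.Def_ClassificationK
import Cfsg.Prelude.Def_Sz
import Cfsg.Prelude.Def_Spor_J1
import Cfsg.Prelude.Def_Spor_Mathieu

/-!
# Proper 2-generated cores, 2-rank at least 3: assembly

`of_false` collects the list of statement S1728 from

* the list of Bender's theorem (if there is a strongly embedded subgroup),
* `GoodMain.main` (sections 1-3 of `blueprints/S1728-rank3.md`),
* a proof that the remaining configuration `Conf` (sections 4-6) does not exist.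
-/

set_option autoImplicit false

namespace Cfsg.Agent.TwoGenCore.RankThree

open Cfsg Cfsg.Agent.TwoGenCore.Involution Cfsg.Agent.TwoGenCore.GoodFusion
open Cfsg.Agent.TwoGenCore.GoodCentral Cfsg.Agent.TwoGenCore.GoodBase
open Cfsg.Agent.TwoGenCore.CentralSetup Cfsg.Agent.TwoGenCore.W2Base
open Cfsg.Agent.TwoGenCore.NonCycMain Cfsg.Agent.TwoGenCore.NonCycAlt

universe u

/-- The configuration left by sections 1-3. -/
structure Conf (G : Type u) [Group G] [Finite G] (H : Subgroup G) (S : Sylow 2 G) (t : G) :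
    Prop where
  closed : Closed H
  ne_top : H ≠ ⊤
  le : (S : Subgroup G) ≤ H
  rank : ¬ PRankLE 2 2 (S : Subgroup G)
  noSE : ¬ ∃ M : Subgroup G, IsStronglyEmbedded M
  mem : t ∈ S
  ord : orderOf t = 2
  central : ∀ s ∈ S, Commute s t
  unique : ∀ x ∈ S, orderOf x = 2 → (∀ s ∈ S, Commute s x) → x = t
  base : Base (Subgroup.centralizer ({t} : Set G) ⧸
        H.subgroupOf (Subgroup.centralizer ({t} : Set G)))
        (⟨t, self_mem t⟩ : Subgroup.centralizer ({t} : Set G))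

/-- **Simple groups of 2-rank at least 3 with a proper 2-generated core**, given the list of
Bender's theorem for them and the nonexistence of `Conf`. -/
theorem of_false {G : Type u} [Group G] [Finite G] [IsSimpleGroup G]
    (hc : HasProperTwoGeneratedCore G) (hr : ¬ PRankLE 2 2 G)
    (hSE : (∃ M : Subgroup G, IsStronglyEmbedded M) →
      (∃ (F : Type) (_ : Field F) (_ : Fintype F), (∃ n : ℕ, 2 ≤ n ∧ Fintype.card F = 2 ^ n) ∧
          Nonempty (G ≃* Matrix.ProjectiveSpecialLinearGroup (Fin 2) F)) ∨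
        Cfsg.Lie.IsoSuzuki G ∨
        (∃ (F : Type) (_ : Field F) (_ : Fintype F) (n : ℕ), 2 ≤ n ∧
          Fintype.card F = (2 ^ n) ^ 2 ∧ Nonempty (G ≃* Cfsg.PSU 3 F (2 ^ n))))
    (hcrit : Criterion G)
    (hfive : ∀ (H : Subgroup G) (S : Sylow 2 G), Closed H → H ≠ ⊤ → (S : Subgroup G) ≤ H →
      ¬ PRankLE 2 2 (S : Subgroup G) → (¬ ∃ M : Subgroup G, IsStronglyEmbedded M) →
      Five H (S : Subgroup G))
    (hG : Goldschmidt G) (hA : AbelianSylow G) (hB : BenderThm.{u}) (hJ : JOneThm G)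
    (hfalse : ∀ (H : Subgroup G) (S : Sylow 2 G) (t : G), Conf G H S t → False) :
    (∃ (F : Type) (_ : Field F) (_ : Fintype F), 3 ≤ Fintype.card F ∧
        Nonempty (G ≃* Matrix.ProjectiveSpecialLinearGroup (Fin 2) F)) ∨
      Cfsg.Lie.IsoSuzuki G ∨
      (∃ (F : Type) (_ : Field F) (_ : Fintype F) (n : ℕ), 1 ≤ n ∧
        Fintype.card F = (2 ^ n) ^ 2 ∧ Nonempty (G ≃* Cfsg.PSU 3 F (2 ^ n))) ∨
      Cfsg.Spor.IsoM11 G ∨ Cfsg.Spor.IsoJ1 G := by
  by_cases hM : ∃ M : Subgroup G, IsStronglyEmbedded M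
  · rcases hSE hM with ⟨F, i1, i2, ⟨n, hn, hF⟩, e⟩ | h | ⟨F, i1, i2, n, hn, hF, e⟩
    · refine Or.inl ⟨F, i1, i2, ?_, e⟩
      rw [hF]
      calc 3 ≤ 2 ^ 2 := by norm_num
        _ ≤ 2 ^ n := Nat.pow_le_pow_right (by norm_num) hn
    · exact Or.inr (Or.inl h)
    · exact Or.inr (Or.inr (Or.inl ⟨F, i1, i2, n, by omega, hF, e⟩))
  · obtain ⟨S, H, -, hH, htop, hSH, -⟩ := exists_closed hc
    have hfact : Fact (Nat.Prime 2) := ⟨Nat.prime_two⟩
    have hrS : ¬ PRankLE 2 2 (S : Subgroup G) := fun h =>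
      hr ((Cfsg.Agent.OddOrderLocal.Rank.pRankLE_sylow S).mp h)
    rcases GoodMain.main hH htop S hSH hrS hM hcrit (hfive H S hH htop hSH hrS hM) hG hA hB hJ with
      h | h | ⟨t, htS, ht, htc, hz, hbase⟩
    · exact Or.inl h
    · exact Or.inr (Or.inr (Or.inr (Or.inr h)))
    · exact (hfalse H S t ⟨hH, htop, hSH, hrS, hM, htS, ht, htc, hz, hbase⟩).elim

end Cfsg.Agent.TwoGenCore.RankThree
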