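import Mathlib
import Cfsg.Prelude.Def_Local
import Cfsg.Agent.Lib.Cores
import Cfsg.Agent.Solvable.UniqueOrderP
import Cfsg.Agent.Classification.TransferSign

/-!
# S1728, 5A: groups with a unique involution and a central element of order 4

* `exists_gen` : a finite 2-group with unique involution `t` and a central `w` with `w * w = t` is cyclic
* `exists_core` : a normal subgroup `K` of `R` with unique involution `t` and a central element `w`,
  `w * w = t`, contains a subgroup `O` of odd order, normal in `R`, with `K / O` a 2-group.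
-/

set_option autoImplicit false

open Cfsg Subgroup

namespace Cfsg.Agent.TwoGenCore.W1Cyc

theorem exists_gen {G : Type*} [Group G] [Finite G] (hG : IsPGroup 2 G) {t w : G}
    (hw : ∀ g : G, g * w = w * g) (hwt : w * w = t) (ht1 : t ≠ 1)
    (huniq : ∀ g : G, g * g = 1 → g = 1 ∨ g = t) : ∃ a : G, ∀ g : G, g ∈ zpowers a := by
  have hp : Fact (Nat.Prime 2) := ⟨Nat.prime_two⟩
  have hU : Cfsg.Agent.Solvable.UniqueOrderP.UniqueP 2 G := by
    intro x y hx1 hx hy
    rw [pow_two] at hx hy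
    have hx' : x = t := (huniq x hx).resolve_left hx1
    rcases huniq y hy with h | h
    · rw [h]; exact one_mem _
    · rw [h, hx']; exact mem_zpowers t
  have hnil : Group.IsNilpotent G := hG.isNilpotent
  obtain ⟨A, hAn, hAc, hAC⟩ :=
    Cfsg.Agent.Lib.NormalAbelian.exists_normal_abelian_selfCentralizing (G := G)
  obtain ⟨a, rfl⟩ := Cfsg.Agent.Solvable.UniqueOrderP.exists_eq_zpowers_of_comm 2 hG hU A hAc
  refine ⟨a, fun x => ?_⟩
  by_contra hx
  obtain ⟨-, m, hm, ho, hinv, hsq⟩ :=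
    Cfsg.Agent.Solvable.UniqueOrderP.key_all hG hU hAn hAC.le hx
  have hwa : w ∈ zpowers a := by
    apply hAC.le
    rw [mem_centralizer_iff]
    intro y _
    exact hw y
  obtain ⟨k, hk⟩ := mem_zpowers_iff.mp hwa
  have h1 : x * w * x⁻¹ = w⁻¹ := by
    rw [← hk, ← conj_zpow, hinv, inv_zpow]
  have h2 : x * w * x⁻¹ = w := by rw [hw x]; group
  rw [h2] at h1
  apply ht1
  rw [← hwt]
  calc w * w = w * w⁻¹ := by rw [← h1]
    _ = 1 := mul_inv_cancel w

theorem exists_core {R : Type*} [Group R] [Finite R] {K : Subgroup R} (hK : K.Normal) {t w : R}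
    (hwK : w ∈ K) (hw : ∀ k ∈ K, k * w = w * k) (hwt : w * w = t) (htt : t * t = 1) (ht1 : t ≠ 1)
    (huniq : ∀ g ∈ K, g * g = 1 → g = 1 ∨ g = t) :
    ∃ O : Subgroup R, O.Normal ∧ O ≤ K ∧ Odd (Nat.card O) ∧ ∀ k ∈ K, ∃ n : ℕ, k ^ 2 ^ n ∈ O := by
  have hp : Fact (Nat.Prime 2) := ⟨Nat.prime_two⟩
  have htK : t ∈ K := by rw [← hwt]; exact K.mul_mem hwK hwK
  obtain ⟨Z⟩ : Nonempty (Sylow 2 K) := inferInstance
  -- `w ∈ Z`
  have hwZ : (⟨w, hwK⟩ : K) ∈ (Z : Subgroup K) := by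
    have hn : (zpowers (⟨w, hwK⟩ : K)).Normal := by
      constructor
      rintro n ⟨k, rfl⟩ g
      refine ⟨k, ?_⟩
      have h1 : g * (⟨w, hwK⟩ : K) * g⁻¹ = ⟨w, hwK⟩ := by
        apply Subtype.ext
        show (g : R) * w * (g : R)⁻¹ = w
        rw [hw g g.2]; group
      show (⟨w, hwK⟩ : K) ^ k = g * (⟨w, hwK⟩ : K) ^ k * g⁻¹
      rw [← conj_zpow, h1]
    have hpg : IsPGroup 2 (zpowers (⟨w, hwK⟩ : K)) := by
      rw [IsPGroup.iff_card]
      have h4 : (⟨w, hwK⟩ : K) ^ (2 ^ 2) = 1 := by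
        apply Subtype.ext
        show w ^ (2 ^ 2) = 1
        have : w ^ (2 ^ 2) = (w * w) * (w * w) := by
          rw [show (2 ^ 2 : ℕ) = 4 from rfl]
          simp only [pow_succ, pow_zero, one_mul, mul_assoc]
        rw [this, hwt, htt]
      obtain ⟨n, -, hn⟩ := (Nat.dvd_prime_pow Nat.prime_two).mp (orderOf_dvd_of_pow_eq_one h4)
      exact ⟨n, by rw [Nat.card_zpowers, hn]⟩
    exact hpg.le_sylow_of_normal Z (mem_zpowers _)
  have hcyc : IsCyclic Z := by
    have htZ : (⟨t, htK⟩ : K) ∈ (Z : Subgroup K) := by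
      have := (Z : Subgroup K).mul_mem hwZ hwZ
      have h2 : (⟨w, hwK⟩ : K) * ⟨w, hwK⟩ = ⟨t, htK⟩ := Subtype.ext hwt
      rwa [h2] at this
    obtain ⟨a, ha⟩ := exists_gen (G := Z) Z.isPGroup' (t := ⟨⟨t, htK⟩, htZ⟩)
      (w := ⟨⟨w, hwK⟩, hwZ⟩)
      (fun g => Subtype.ext (Subtype.ext (hw _ g.1.2)))
      (Subtype.ext (Subtype.ext hwt))
      (fun h => ht1 (congrArg (fun x : Z => ((x : K) : R)) h))
      (fun g hg => by
        have h1 : ((g : K) : R) * ((g : K) : R) = 1 := congrArg (fun x : Z => ((x : K) : R)) hg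
        rcases huniq _ g.1.2 h1 with h | h
        · exact Or.inl (Subtype.ext (Subtype.ext h))
        · exact Or.inr (Subtype.ext (Subtype.ext h)))
    exact ⟨⟨a, ha⟩⟩
  obtain ⟨N, hN, hNodd, k, hk⟩ :=
    Cfsg.Agent.Classification.TransferSign.exists_of_oddClosed
      (Cfsg.Agent.Classification.TransferSign.oddClosed_of_isCyclic Z hcyc)
  have hle : N ≤ pPrimeCore 2 K :=
    Cfsg.Agent.Lib.Cores.le_pPrimeCore hN (Nat.coprime_two_right.mpr hNodd)
  refine ⟨(pPrimeCore 2 K).map K.subtype, ?_, Subgroup.map_subtype_le _, ?_, ?_⟩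
  · rw [Cfsg.Agent.Lib.Cores.map_subtype_pPrimeCore 2 hK]
    infer_instance
  · rw [card_map_of_injective K.subtype_injective]
    exact Nat.coprime_two_right.mp (Cfsg.Agent.Lib.Cores.pPrimeCore_coprime 2)
  · intro x hx
    refine ⟨k, (⟨x, hx⟩ : K) ^ 2 ^ k, hle ?_, rfl⟩
    rw [← hk]
    exact Subgroup.pow_index_mem N _

end Cfsg.Agent.TwoGenCore.W1Cyc
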