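import Mathlib

/-!
# S1728, 5A: 2-groups whose involutions are central, with a cover having a unique involution

`π : P →* L` surjective with kernel `{1, t}`, where `t` is the only involution of `P`; `Q ≤ L` is a
2-subgroup all of whose involutions are central in `Q`, with two different involutions.  Then `|Q| = 4`.
-/

set_option autoImplicit false

namespace Cfsg.Agent.TwoGenCore.W1Count

variable {P L : Type*} [Group P] [Group L]

/-- lifts of two different commuting involutions anticommute -/
theorem anticomm {t : P} (ht : ∀ g : P, g * t = t * g) (htt : t * t = 1) (π : P →* L)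
    (hker : ∀ g : P, π g = 1 → g = 1 ∨ g = t) (hπt : π t = 1)
    (huniq : ∀ g : P, g * g = 1 → g = 1 ∨ g = t) {m n : P} (hm : π m * π m = 1) (hm1 : π m ≠ 1)
    (hn : π n * π n = 1) (hn1 : π n ≠ 1) (hne : π m ≠ π n) (hc : π m * π n = π n * π m) :
    m * n = n * m * t := by
  have sq : ∀ g : P, π g * π g = 1 → π g ≠ 1 → g * g = t := by
    intro g hg hg1
    rcases hker (g * g) (by rw [map_mul, hg]) with h | h
    · rcases huniq g h with h' | h'
      · exact absurd (by rw [h', map_one]) hg1
      · exact absurd (by rw [h', hπt]) hg1
    · exact h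
  have h1 := sq m hm hm1
  have h2 := sq n hn hn1
  have h3 : (m * n) * (m * n) = t := by
    apply sq
    · rw [map_mul]
      calc π m * π n * (π m * π n) = π m * (π n * π m) * π n := by group
        _ = (π m * π m) * (π n * π n) := by rw [← hc]; group
        _ = 1 := by rw [hm, hn, one_mul]
    · rw [map_mul]
      intro h
      apply hne
      calc π m = π m * (π n * π n) := by rw [hn, mul_one]
        _ = (π m * π n) * π n := by group
        _ = π n := by rw [h, one_mul]
  -- `m n m n = t`
  have h4 : n * m * (n * m) = t := by
    apply sq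
    · rw [map_mul]
      calc π n * π m * (π n * π m) = π n * (π m * π n) * π m := by group
        _ = (π n * π n) * (π m * π m) := by rw [hc]; group
        _ = 1 := by rw [hm, hn, one_mul]
    · rw [map_mul, ← hc]
      intro h
      apply hne
      calc π m = π m * (π n * π n) := by rw [hn, mul_one]
        _ = (π m * π n) * π n := by group
        _ = π n := by rw [h, one_mul]
  -- `m n (n m)⁻¹ = m n m⁻¹ n⁻¹ = m n (m t) (n t) = t`
  have hmi : m⁻¹ = m * t := by
    rw [inv_eq_iff_mul_eq_one, ← mul_assoc, h1, htt]
  have hni : n⁻¹ = n * t := by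
    rw [inv_eq_iff_mul_eq_one, ← mul_assoc, h2, htt]
  calc m * n = m * n * (m⁻¹ * n⁻¹) * (n * m) := by group
    _ = m * n * ((m * t) * (n * t)) * (n * m) := by rw [hmi, hni]
    _ = m * n * (m * (t * n) * t) * (n * m) := by group
    _ = m * n * (m * (n * t) * t) * (n * m) := by rw [ht n]
    _ = (m * n) * (m * n) * (t * t) * (n * m) := by group
    _ = t * (n * m) := by rw [h3, htt, mul_one]
    _ = n * m * t := by rw [ht]

/-- **Count.** -/
theorem card_eq_four [Finite L] {t : P} (ht : ∀ g : P, g * t = t * g) (htt : t * t = 1)
    (ht1 : t ≠ 1) (π : P →* L) (hsurj : Function.Surjective π)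
    (hker : ∀ g : P, π g = 1 → g = 1 ∨ g = t) (hπt : π t = 1)
    (huniq : ∀ g : P, g * g = 1 → g = 1 ∨ g = t) (Q : Subgroup L)
    (hQ2 : IsPGroup 2 Q) (hQc : ∀ s ∈ Q, s * s = 1 → ∀ q ∈ Q, s * q = q * s) {a b : L}
    (ha : a ∈ Q) (hb : b ∈ Q) (haa : a * a = 1) (hbb : b * b = 1) (ha1 : a ≠ 1) (hb1 : b ≠ 1)
    (hab : a ≠ b) : Nat.card Q = 4 := by
  obtain ⟨m, hm⟩ := hsurj a
  obtain ⟨n, hn⟩ := hsurj b
  have hmn : m * n = n * m * t :=
    anticomm ht htt π hker hπt huniq (by rw [hm, haa]) (by rw [hm]; exact ha1)
      (by rw [hn, hbb]) (by rw [hn]; exact hb1) (by rw [hm, hn]; exact hab)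
      (by rw [hm, hn]; exact hQc a ha haa b hb)
  have hab1 : a * b ≠ 1 := by
    intro h
    apply hab
    calc a = a * (b * b) := by rw [hbb, mul_one]
      _ = (a * b) * b := by group
      _ = b := by rw [h, one_mul]
  -- an element of `Q` with a lift commuting with `m` and `n` is trivial
  have key : ∀ c : P, π c ∈ Q → c * m = m * c → c * n = n * c → π c = 1 := by
    intro c hc hcm hcn
    by_contra hne
    obtain ⟨k, hk⟩ := hQ2 ⟨π c, hc⟩
    have hk' : (π c) ^ 2 ^ k = 1 := congrArg Subtype.val hk
    have hex : ∃ k : ℕ, (π c) ^ 2 ^ k = 1 := ⟨k, hk'⟩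
    classical
    set j := Nat.find hex with hj
    have hj1 : (π c) ^ 2 ^ j = 1 := Nat.find_spec hex
    have hj0 : j ≠ 0 := by
      intro h0
      rw [h0, pow_zero, pow_one] at hj1
      exact hne hj1
    obtain ⟨i, hi⟩ := Nat.exists_eq_succ_of_ne_zero hj0
    have hi1 : (π c) ^ 2 ^ i ≠ 1 := Nat.find_min hex (by rw [← hj, hi]; exact Nat.lt_succ_self i)
    set d := c ^ 2 ^ i with hd
    have hπd : π d = (π c) ^ 2 ^ i := by rw [hd, map_pow]
    have hd1 : π d ≠ 1 := by rw [hπd]; exact hi1
    have hdd : π d * π d = 1 := by
      rw [hπd, ← pow_two, ← pow_mul, ← pow_succ, ← Nat.succ_eq_add_one, ← hi]; exact hj1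
    have hdQ : π d ∈ Q := by rw [hπd]; exact pow_mem hc _
    have hdm : d * m = m * d := ((show Commute c m from hcm).pow_left _).eq
    have hdn : d * n = n * d := ((show Commute c n from hcn).pow_left _).eq
    have e1 : π d = π m := by
      by_contra h
      have h1 := anticomm ht htt π hker hπt huniq hdd hd1 (by rw [hm, haa]) (by rw [hm]; exact ha1)
        h (by rw [hm]; exact hQc _ hdQ hdd a ha)
      rw [hdm] at h1
      exact ht1 (mul_left_cancel (a := m * d) (by rw [mul_one]; exact h1.symm))
    have e2 : π d = π n := by
      by_contra h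
      have h1 := anticomm ht htt π hker hπt huniq hdd hd1 (by rw [hn, hbb]) (by rw [hn]; exact hb1)
        h (by rw [hn]; exact hQc _ hdQ hdd b hb)
      rw [hdn] at h1
      exact ht1 (mul_left_cancel (a := n * d) (by rw [mul_one]; exact h1.symm))
    exact hab (by rw [← hm, ← hn, ← e1, ← e2])
  -- every element is in `{1, a, b, ab}`
  have hall : ∀ q ∈ Q, q = 1 ∨ q = a ∨ q = b ∨ q = a * b := by
    intro q hq
    obtain ⟨c, hc⟩ := hsurj q
    have hcomm : ∀ r : P, π r * π r = 1 → π r ∈ Q → c * r = r * c ∨ c * r = r * c * t := by
      intro r hr hrQ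
      have h1 : π ((r * c)⁻¹ * (c * r)) = 1 := by
        rw [map_mul, map_inv, map_mul, map_mul, hc, ← hQc _ hrQ hr q hq, inv_mul_cancel]
      rcases hker _ h1 with h | h
      · left; exact (inv_mul_eq_one.mp h).symm
      · right; rw [← h]; group
    have hcm := hcomm m (by rw [hm, haa]) (by rw [hm]; exact ha)
    have hcn := hcomm n (by rw [hn, hbb]) (by rw [hn]; exact hb)
    rcases hcm with hcm | hcm <;> rcases hcn with hcn | hcn
    · left
      rw [← hc]; exact key c (by rw [hc]; exact hq) hcm hcn
    · -- commutes with `m`, anticommutes with `n`: multiply by `m`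
      right; left
      have h1 := key (c * m) (by rw [map_mul, hc, hm]; exact Q.mul_mem hq ha)
        (by rw [hcm]; rw [mul_assoc, hcm]) (by
          calc c * m * n = c * (m * n) := by group
            _ = c * (n * m * t) := by rw [hmn]
            _ = (c * n) * m * t := by group
            _ = (n * c * t) * m * t := by rw [hcn]
            _ = n * c * (t * m) * t := by group
            _ = n * (c * m) * (t * t) := by rw [← ht m]; group
            _ = n * (c * m) := by rw [htt, mul_one])
      rw [map_mul, hc, hm] at h1
      calc q = q * (a * a) := by rw [haa, mul_one]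
        _ = (q * a) * a := by group
        _ = a := by rw [h1, one_mul]
    · -- commutes with `n`, anticommutes with `m`: multiply by `n`
      right; right; left
      have h1 := key (c * n) (by rw [map_mul, hc, hn]; exact Q.mul_mem hq hb)
        (by
          calc c * n * m = c * (n * m * t) * t := by
                calc c * n * m = c * n * m * (t * t) := by rw [htt, mul_one]
                  _ = _ := by group
            _ = c * (m * n) * t := by rw [hmn]
            _ = (c * m) * (n * t) := by group
            _ = (m * c * t) * (t * n) := by rw [hcm, ht n]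
            _ = m * c * (t * t) * n := by group
            _ = m * (c * n) := by rw [htt]; group)
        (by rw [hcn]; rw [mul_assoc, hcn])
      rw [map_mul, hc, hn] at h1
      calc q = q * (b * b) := by rw [hbb, mul_one]
        _ = (q * b) * b := by group
        _ = b := by rw [h1, one_mul]
    · right; right; right
      have h1 := key (c * (m * n)) (by
          rw [map_mul, map_mul, hc, hm, hn]; exact Q.mul_mem hq (Q.mul_mem ha hb))
        (by
          calc c * (m * n) * m = c * m * (n * m * t) * t := by
                calc c * (m * n) * m = c * (m * n) * m * (t * t) := by rw [htt, mul_one]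
                  _ = _ := by group
            _ = c * m * (m * n) * t := by rw [hmn]
            _ = (m * c * t) * (m * n) * t := by rw [hcm]
            _ = m * c * (t * (m * n)) * t := by group
            _ = m * c * ((m * n) * t) * t := by rw [ht (m * n)]
            _ = m * (c * (m * n)) * (t * t) := by group
            _ = m * (c * (m * n)) := by rw [htt, mul_one])
        (by
          calc c * (m * n) * n = c * (n * m * t) * n := by rw [hmn]
            _ = (c * n) * m * (t * n) := by group
            _ = (n * c * t) * m * (n * t) := by rw [hcn, ht n]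
            _ = n * c * (t * m) * (n * t) := by group
            _ = n * c * (m * t) * (n * t) := by rw [ht m]
            _ = n * (c * m) * (t * n) * t := by group
            _ = n * (c * m) * (n * t) * t := by rw [ht n]
            _ = n * (c * (m * n)) * (t * t) := by group
            _ = n * (c * (m * n)) := by rw [htt, mul_one])
      rw [map_mul, map_mul, hc, hm, hn] at h1
      have h2 : (a * b) * (a * b) = 1 := by
        calc a * b * (a * b) = a * (b * a) * b := by group
          _ = a * (a * b) * b := by rw [hQc a ha haa b hb]
          _ = (a * a) * (b * b) := by group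
          _ = 1 := by rw [haa, hbb, one_mul]
      calc q = q * ((a * b) * (a * b)) := by rw [h2, mul_one]
        _ = (q * (a * b)) * (a * b) := by group
        _ = a * b := by rw [h1, one_mul]
  -- count
  have hset : (Q : Set L) = {1, a, b, a * b} := by
    ext q
    constructor
    · intro hq
      simpa using hall q hq
    · intro hq
      simp only [Set.mem_insert_iff, Set.mem_singleton_iff] at hq
      rcases hq with rfl | rfl | rfl | rfl
      · exact Q.one_mem
      · exact ha
      · exact hb
      · exact Q.mul_mem ha hb
  have h1 : Nat.card Q = Set.ncard (Q : Set L) := (Nat.card_coe_set_eq (Q : Set L))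
  rw [h1, hset]
  have d1 : a * b ≠ a := by intro h; exact hb1 (mul_eq_left.mp h)
  have d2 : a * b ≠ b := by intro h; exact ha1 (mul_eq_right.mp h)
  rw [Set.ncard_insert_of_notMem, Set.ncard_insert_of_notMem, Set.ncard_insert_of_notMem,
    Set.ncard_singleton]
  · simp only [Set.mem_singleton_iff]; exact fun h => d2 h.symm
  · simp only [Set.mem_insert_iff, Set.mem_singleton_iff, not_or]
    exact ⟨hab, fun h => d1 h.symm⟩
  · simp only [Set.mem_insert_iff, Set.mem_singleton_iff, not_or]
    exact ⟨fun h => ha1 h.symm, fun h => hb1 h.symm, fun h => hab1 h.symm⟩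

end Cfsg.Agent.TwoGenCore.W1Count
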