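import Mathlib
import Cfsg.Prelude.Def_Involutions
import Cfsg.Agent.TwoGenCore.W1Count
import Cfsg.Agent.StrongEmb.Frame

/-!
# S1728, 5A: the case of a cyclic kernel

`R` acts on `Ω` through the surjection `φ : R →* X` onto a faithful group; `w ∈ ker φ` generates a normal
subgroup of order 4, `t = w * w`, and every involution of `R` other than `t` has exactly one fixed point
(`Data`).  `LData L z` collects the output of the general Aschbacher criterion.

`main`: if `ker φ ∩ C(w)` is a cyclic 2-group, some involution inverts `w`, and `C(w)` contains two suitable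
involutions, then `|Ω| = 5`, and an element of the subgroup generated by the involutions (`≠ t`)
of `C(w)` which acts trivially on `Ω` lies in `⟨w⟩`.
-/

set_option autoImplicit false

open Cfsg Subgroup
open scoped commutatorElement

universe u v x

namespace Cfsg.Agent.TwoGenCore.W1Abs

open Cfsg.Agent.TwoFusion.StronglyEmbeddedBasic Cfsg.Agent.StrongEmb.Basic
open Cfsg.Agent.StrongEmb.TwoRank Cfsg.Agent.StrongEmb.Split

structure Data {R : Type u} {X : Type v} (Ω : Type x) [Group R] [Group X] [MulAction X Ω]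
    (φ : R →* X) (w t : R) : Prop where
  surj : Function.Surjective φ
  faithful : ∀ x : X, (∀ a : Ω, x • a = a) → x = 1
  sq : w * w = t
  tt : t * t = 1
  ne : t ≠ 1
  ker : φ w = 1
  norm : ∀ g : R, g * w * g⁻¹ = w ∨ g * w * g⁻¹ = w⁻¹
  one : ∀ i : R, i * i = 1 → i ≠ 1 → i ≠ t → ∃! a : Ω, φ i • a = a
  nontriv : ∃ a b : Ω, a ≠ b

structure LData {X : Type v} (Ω : Type x) [Group X] [MulAction X Ω] (L : Subgroup X) (z : X) :
    Prop where
  normal : L.Normal
  simple : IsSimpleGroup L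
  nonab : ∃ a b : L, a * b ≠ b * a
  mem : ∀ i : X, orderOf i = 2 → (∀ a b : Ω, i • a = a → i • b = b → a = b) → i ∈ L
  conj : ∀ i ∈ L, orderOf i = 2 → IsConj z i
  trans : ∀ a b : Ω, ∃ g ∈ L, g • a = b
  uniq : UniqueFix L Ω
  stab : ∀ a : Ω, IsStronglyEmbedded ((MulAction.stabilizer X a).subgroupOf L)

/-- the involutions other than `t` commuting with `w` -/
def CInv {R : Type u} [Group R] (w t : R) : Set R :=
  {i | i * i = 1 ∧ i ≠ 1 ∧ i ≠ t ∧ i * w = w * i}

section

variable {R : Type u} {X : Type v} {Ω : Type x} [Group R] [Group X] [MulAction X Ω]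
  {φ : R →* X} {w t : R}

namespace Data

theorem sq_inv (h : Data Ω φ w t) : w⁻¹ * w⁻¹ = t := by
  calc w⁻¹ * w⁻¹ = (w * w)⁻¹ := by group
    _ = t⁻¹ := by rw [h.sq]
    _ = t := by rw [inv_eq_iff_mul_eq_one, h.tt]

theorem ker_t (h : Data Ω φ w t) : φ t = 1 := by rw [← h.sq, map_mul, h.ker, one_mul]

theorem central (h : Data Ω φ w t) (g : R) : g * t = t * g := by
  have h1 : g * t * g⁻¹ = t := by
    have h2 : g * t * g⁻¹ = (g * w * g⁻¹) * (g * w * g⁻¹) := by rw [← h.sq]; group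
    rcases h.norm g with h3 | h3
    · rw [h2, h3, h.sq]
    · rw [h2, h3, h.sq_inv]
  calc g * t = g * t * g⁻¹ * g := by group
    _ = t * g := by rw [h1]

theorem w_ne_inv (h : Data Ω φ w t) : w ≠ w⁻¹ := by
  intro h1
  apply h.ne
  rw [← h.sq]
  calc w * w = w * w⁻¹ := by rw [← h1]
    _ = 1 := mul_inv_cancel w

/-- the only involution of the kernel is `t` -/
theorem ker_uniq (h : Data Ω φ w t) {g : R} (hg : φ g = 1) (hgg : g * g = 1) :
    g = 1 ∨ g = t := by
  by_contra hcon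
  push Not at hcon
  obtain ⟨a, b, hab⟩ := h.nontriv
  have := (h.one g hgg hcon.1 hcon.2)
  exact hab (this.unique (by rw [hg, one_smul]) (by rw [hg, one_smul]))

/-- elements of the kernel commuting with `w` and with square `t` -/
theorem ker_sq (h : Data Ω φ w t) {g : R} (hg : φ g = 1) (hgw : g * w = w * g)
    (hgg : g * g = t) : g = w ∨ g = w⁻¹ := by
  have h1 : (g * w) * (g * w) = 1 := by
    calc (g * w) * (g * w) = g * (w * g) * w := by group
      _ = (g * g) * (w * w) := by rw [← hgw]; group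
      _ = 1 := by rw [hgg, h.sq, h.tt]
  rcases h.ker_uniq (g := g * w) (by rw [map_mul, hg, h.ker, one_mul]) h1 with h2 | h2
  · right; exact eq_inv_of_mul_eq_one_left h2
  · left
    have h3 : g = t * w⁻¹ := eq_mul_inv_of_mul_eq h2
    rw [h3, ← h.sq]; group

/-- a 2-element of the kernel commuting with `w` is in `{1, t}` or has a power in `{w, w⁻¹}` -/
theorem ker_pow (h : Data Ω φ w t) {g : R} (hg : φ g = 1) (hgw : g * w = w * g)
    (h2 : ∃ n : ℕ, g ^ 2 ^ n = 1) : (g = 1 ∨ g = t) ∨ ∃ n : ℕ, g ^ n = w ∨ g ^ n = w⁻¹ := by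
  classical
  by_cases hg1 : g = 1 ∨ g = t
  · exact Or.inl hg1
  right
  have hex : ∃ n : ℕ, g ^ 2 ^ n = 1 ∨ g ^ 2 ^ n = t := by
    obtain ⟨n, hn⟩ := h2
    exact ⟨n, Or.inl hn⟩
  set j := Nat.find hex with hj
  have hj1 : g ^ 2 ^ j = 1 ∨ g ^ 2 ^ j = t := Nat.find_spec hex
  have hj0 : j ≠ 0 := by
    intro h0
    rw [h0, pow_zero, pow_one] at hj1
    exact hg1 hj1
  obtain ⟨i, hi⟩ := Nat.exists_eq_succ_of_ne_zero hj0
  have hi1 : ¬ (g ^ 2 ^ i = 1 ∨ g ^ 2 ^ i = t) := Nat.find_min hex (by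
    rw [← hj, hi]; exact Nat.lt_succ_self i)
  have hsq : g ^ 2 ^ i * g ^ 2 ^ i = g ^ 2 ^ j := by
    rw [hi, ← pow_add, Nat.succ_eq_add_one, pow_succ, mul_two]
  have hφ : φ (g ^ 2 ^ i) = 1 := by rw [map_pow, hg, one_pow]
  have hc : g ^ 2 ^ i * w = w * g ^ 2 ^ i := ((show Commute g w from hgw).pow_left _).eq
  refine ⟨2 ^ i, ?_⟩
  rcases hj1 with h1 | h1
  · exact absurd (h.ker_uniq hφ (by rw [hsq, h1])) hi1
  · exact h.ker_sq hφ hc (by rw [hsq, h1])

theorem conj_cinv (h : Data Ω φ w t) {i : R} (hi : i ∈ CInv w t) (g : R) :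
    g * i * g⁻¹ ∈ CInv w t := by
  obtain ⟨h1, h2, h3, h4⟩ := hi
  refine ⟨?_, ?_, ?_, ?_⟩
  · calc g * i * g⁻¹ * (g * i * g⁻¹) = g * (i * i) * g⁻¹ := by group
      _ = 1 := by rw [h1]; group
  · intro h5
    apply h2
    calc i = g⁻¹ * (g * i * g⁻¹) * g := by group
      _ = 1 := by rw [h5]; group
  · intro h5
    apply h3
    calc i = g⁻¹ * (g * i * g⁻¹) * g := by group
      _ = g⁻¹ * (t * g) := by rw [h5]; group
      _ = t := by rw [← h.central]; group
  · have h5 : g⁻¹ * w * g = w ∨ g⁻¹ * w * g = w⁻¹ := by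
      have := h.norm g⁻¹
      rwa [inv_inv] at this
    have h6 : i * (g⁻¹ * w * g) = (g⁻¹ * w * g) * i := by
      rcases h5 with h5 | h5
      · rw [h5, h4]
      · rw [h5]; exact ((show Commute i w from h4).inv_right).eq
    calc g * i * g⁻¹ * w = g * (i * (g⁻¹ * w * g)) * g⁻¹ := by group
      _ = g * ((g⁻¹ * w * g) * i) * g⁻¹ := by rw [h6]
      _ = w * (g * i * g⁻¹) := by group

theorem orderOf_map (h : Data Ω φ w t) {i : R} (h1 : i * i = 1) (h2 : i ≠ 1) (h3 : i ≠ t) :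
    orderOf (φ i) = 2 := by
  refine orderOf_eq_two_of_mul_self (by rw [← map_mul, h1, map_one]) ?_
  intro h4
  rcases h.ker_uniq h4 h1 with h5 | h5
  · exact h2 h5
  · exact h3 h5

theorem uniq_map (h : Data Ω φ w t) {i : R} (h1 : i * i = 1) (h2 : i ≠ 1) (h3 : i ≠ t) (a b : Ω)
    (ha : φ i • a = a) (hb : φ i • b = b) : a = b := (h.one i h1 h2 h3).unique ha hb

/-- the two involutions have different images -/
theorem map_ne (h : Data Ω φ w t) {f f' : R} (hf : f ∈ CInv w t) (hf' : f' ∈ CInv w t)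
    (hc : f * f' * f⁻¹ * f'⁻¹ ∈ zpowers w) (hne : f' ≠ f) (hne' : f' ≠ f * t) : φ f ≠ φ f' := by
  intro heq
  obtain ⟨f1, f2, f3, f4⟩ := hf
  obtain ⟨f1', f2', f3', f4'⟩ := hf'
  have hfi : f⁻¹ = f := inv_eq_of_mul_eq_one_left f1
  have hfi' : f'⁻¹ = f' := inv_eq_of_mul_eq_one_left f1'
  rw [hfi, hfi'] at hc
  set g := f * f' with hg
  have hgg : g * g ∈ zpowers w := by
    have : g * g = g * f * f' := by rw [hg]; group
    rw [this]; exact hc
  have hφ : φ g = 1 := by rw [hg, map_mul, ← heq, ← map_mul, f1, map_one]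
  have hgw : g * w = w * g := by
    rw [hg]
    calc f * f' * w = f * (f' * w) := by group
      _ = (f * w) * f' := by rw [f4']; group
      _ = w * (f * f') := by rw [f4]; group
  have hfg : f * g = g⁻¹ * f := by
    have : g⁻¹ = f' * f := by rw [hg, mul_inv_rev, hfi, hfi']
    rw [this, hg, ← mul_assoc, f1, one_mul, mul_assoc, f1, mul_one]
  have hfgg : f * (g * g) = (g * g)⁻¹ * f := by
    calc f * (g * g) = (f * g) * g := by group
      _ = (g⁻¹ * f) * g := by rw [hfg]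
      _ = g⁻¹ * (f * g) := by group
      _ = g⁻¹ * (g⁻¹ * f) := by rw [hfg]
      _ = (g * g)⁻¹ * f := by group
  have hcomm : f * (g * g) = (g * g) * f := by
    obtain ⟨k, hk⟩ := mem_zpowers_iff.mp hgg
    rw [← hk]
    exact ((show Commute f w from f4).zpow_right k).eq
  have h4 : (g * g) * (g * g) = 1 := by
    have h5 : (g * g)⁻¹ = g * g := mul_right_cancel (hfgg.symm.trans hcomm)
    calc (g * g) * (g * g) = (g * g)⁻¹ * (g * g) := by rw [h5]
      _ = 1 := inv_mul_cancel _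
  have hback : f' = f * g := by rw [hg, ← mul_assoc, f1, one_mul]
  rcases h.ker_uniq (g := g * g) (by rw [map_mul, hφ, one_mul]) h4 with h5 | h5
  · rcases h.ker_uniq hφ h5 with h6 | h6
    · apply hne; rw [hback, h6, mul_one]
    · apply hne'; rw [← h6]; exact hback
  · have h7 : f * g = g * f := by
      rcases h.ker_sq hφ hgw h5 with h6 | h6
      · rw [h6, f4]
      · rw [h6]; exact ((show Commute f w from f4).inv_right).eq
    rw [hfg] at h7
    have h8 : g⁻¹ = g := mul_right_cancel h7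
    apply h.ne
    rw [← h5]
    calc g * g = g⁻¹ * g := by rw [h8]
      _ = 1 := inv_mul_cancel g

end Data

/-- a subgroup normal in `R` whose image is in `L` and not trivial maps onto `L` -/
theorem map_eq {L : Subgroup X} {z : X} (hφ : Function.Surjective φ) (hL : LData Ω L z)
    {N : Subgroup R} (hN : N.Normal) (hNL : ∀ n ∈ N, φ n ∈ L) (hne : ∃ n ∈ N, φ n ≠ 1) :
    ∀ l ∈ L, ∃ n ∈ N, φ n = l := by
  have hs := hL.simple
  have h1 : (N.map φ).Normal := hN.map φ hφ
  have h2 : ((N.map φ).subgroupOf L).Normal := inferInstance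
  rcases h2.eq_bot_or_eq_top with h3 | h3
  · exfalso
    obtain ⟨n, hn, hn1⟩ := hne
    have h4 : (⟨φ n, hNL n hn⟩ : L) ∈ (N.map φ).subgroupOf L := ⟨n, hn, rfl⟩
    rw [h3, mem_bot] at h4
    exact hn1 (congrArg Subtype.val h4)
  · intro l hl
    have h4 : (⟨l, hl⟩ : L) ∈ (N.map φ).subgroupOf L := by rw [h3]; trivial
    obtain ⟨n, hn, hnl⟩ := h4
    exact ⟨n, hn, hnl⟩

/-- the subgroup generated by the involutions of `C(w)` different from `t` -/
def MM (w t : R) : Subgroup R := Subgroup.closure (CInv w t)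

theorem MM_normal (h : Data Ω φ w t) : (MM w t).Normal := by
  constructor
  intro n hn g
  have h1 : (MM w t) ≤ (MM w t).comap (MulAut.conj g).toMonoidHom := by
    rw [MM, Subgroup.closure_le]
    intro i hi
    exact Subgroup.subset_closure (h.conj_cinv hi g)
  exact h1 hn

theorem MM_comm (m : R) (hm : m ∈ MM w t) : m * w = w * m := by
  have h1 : MM w t ≤ centralizer {w} := by
    rw [MM, Subgroup.closure_le]
    intro i hi
    rw [SetLike.mem_coe, mem_centralizer_singleton_iff]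
    exact hi.2.2.2
  have := h1 hm
  rwa [mem_centralizer_singleton_iff] at this

theorem MM_map_mem (h : Data Ω φ w t) {L : Subgroup X} {z : X} (hL : LData Ω L z) (m : R)
    (hm : m ∈ MM w t) : φ m ∈ L := by
  have h1 : MM w t ≤ L.comap φ := by
    rw [MM, Subgroup.closure_le]
    rintro i ⟨h2, h3, h4, -⟩
    exact hL.mem _ (h.orderOf_map h2 h3 h4) (h.uniq_map h2 h3 h4)
  exact h1 hm

/-- if the kernel on `Ω` of `C(w)` is contained in `⟨y⟩ ≤ ker φ ∩ C(w)`, then `M` centralises `y` -/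
theorem MM_comm_y (h : Data Ω φ w t) {L : Subgroup X} {z : X} (hL : LData Ω L z)
    (hf : ∃ f, f ∈ CInv w t) {y : R} (hy : φ y = 1) (hyw : y * w = w * y)
    (hcyc : ∀ k : R, φ k = 1 → k * w = w * k → k ∈ zpowers y) :
    ∀ m ∈ MM w t, m * y = y * m := by
  have hMn := MM_normal h
  -- conjugates of `y`
  have hconj : ∀ g : R, g * y * g⁻¹ ∈ zpowers y := by
    intro g
    apply hcyc
    · rw [map_mul, map_mul, hy, map_inv, mul_one, mul_inv_cancel]
    · have h5 : g⁻¹ * w * g = w ∨ g⁻¹ * w * g = w⁻¹ := by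
        have := h.norm g⁻¹
        rwa [inv_inv] at this
      have h6 : y * (g⁻¹ * w * g) = (g⁻¹ * w * g) * y := by
        rcases h5 with h5 | h5
        · rw [h5, hyw]
        · rw [h5]; exact ((show Commute y w from hyw).inv_right).eq
      calc g * y * g⁻¹ * w = g * (y * (g⁻¹ * w * g)) * g⁻¹ := by group
        _ = g * ((g⁻¹ * w * g) * y) * g⁻¹ := by rw [h6]
        _ = w * (g * y * g⁻¹) := by group
  -- the centraliser of `y` in `M`
  set Z := MM w t ⊓ centralizer {y} with hZ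
  have hmemZ : ∀ m : R, m ∈ Z ↔ m ∈ MM w t ∧ m * y = y * m := by
    intro m
    rw [hZ, mem_inf, mem_centralizer_singleton_iff]
  have hZn : Z.Normal := by
    constructor
    intro n hn g
    rw [hmemZ] at hn ⊢
    refine ⟨hMn.conj_mem n hn.1 g, ?_⟩
    have h1 := hconj g⁻¹
    rw [inv_inv] at h1
    obtain ⟨k, hk⟩ := mem_zpowers_iff.mp h1
    have h2 : n * (g⁻¹ * y * g) = (g⁻¹ * y * g) * n := by
      rw [← hk]
      exact ((show Commute n y from hn.2).zpow_right k).eq
    calc g * n * g⁻¹ * y = g * (n * (g⁻¹ * y * g)) * g⁻¹ := by group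
      _ = g * ((g⁻¹ * y * g) * n) * g⁻¹ := by rw [h2]
      _ = y * (g * n * g⁻¹) := by group
  have hcommZ : ∀ a ∈ MM w t, ∀ b ∈ MM w t, a * b * a⁻¹ * b⁻¹ ∈ Z := by
    intro a ha b hb
    rw [hmemZ]
    refine ⟨mul_mem (mul_mem (mul_mem ha hb) (inv_mem ha)) (inv_mem hb), ?_⟩
    obtain ⟨α, hα⟩ := mem_zpowers_iff.mp (hconj a)
    obtain ⟨β, hβ⟩ := mem_zpowers_iff.mp (hconj b)
    have h1 : (a * b) * y * (a * b)⁻¹ = y ^ (α * β) := by
      calc (a * b) * y * (a * b)⁻¹ = a * (b * y * b⁻¹) * a⁻¹ := by group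
        _ = a * y ^ β * a⁻¹ := by rw [hβ]
        _ = (a * y * a⁻¹) ^ β := by rw [conj_zpow]
        _ = y ^ (α * β) := by rw [← hα, zpow_mul]
    have h2 : (b * a) * y * (b * a)⁻¹ = y ^ (α * β) := by
      calc (b * a) * y * (b * a)⁻¹ = b * (a * y * a⁻¹) * b⁻¹ := by group
        _ = b * y ^ α * b⁻¹ := by rw [hα]
        _ = (b * y * b⁻¹) ^ α := by rw [conj_zpow]
        _ = y ^ (α * β) := by rw [← hβ, ← zpow_mul, mul_comm]
    have h3 : (b * a)⁻¹ * y ^ (α * β) * (b * a) = y := by rw [← h2]; group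
    have h4 : (a * b) * y = y ^ (α * β) * (a * b) := by rw [← h1]; group
    -- conjugation by `a b (b a)⁻¹`
    have h5 : a * b * a⁻¹ * b⁻¹ = (a * b) * (b * a)⁻¹ := by group
    have h6 : (b * a)⁻¹ * y ^ (α * β) = y * (b * a)⁻¹ := by
      calc (b * a)⁻¹ * y ^ (α * β) = ((b * a)⁻¹ * y ^ (α * β) * (b * a)) * (b * a)⁻¹ := by group
        _ = y * (b * a)⁻¹ := by rw [h3]
    -- `(a b) (b a)⁻¹ y^(αβ) = (a b) y (b a)⁻¹ = y^(αβ) (a b) (b a)⁻¹`; so `c` commutes with `y^(αβ)`
    have h7 : (a * b * (b * a)⁻¹) * y ^ (α * β) = y ^ (α * β) * (a * b * (b * a)⁻¹) := by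
      calc (a * b * (b * a)⁻¹) * y ^ (α * β) = (a * b) * ((b * a)⁻¹ * y ^ (α * β)) := by group
        _ = ((a * b) * y) * (b * a)⁻¹ := by rw [h6]; group
        _ = y ^ (α * β) * (a * b * (b * a)⁻¹) := by rw [h4]; group
    -- `y` is a power of `y^(αβ)`
    have h8 : y ∈ zpowers (y ^ (α * β)) := by
      have h9 := hconj (b * a)⁻¹
      rw [inv_inv] at h9
      obtain ⟨γ, hγ⟩ := mem_zpowers_iff.mp h9
      refine mem_zpowers_iff.mpr ⟨γ, ?_⟩
      have h10 : (b * a) * y ^ γ * (b * a)⁻¹ = y := by rw [hγ]; group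
      rw [← conj_zpow, h2] at h10
      exact h10
    obtain ⟨δ, hδ⟩ := mem_zpowers_iff.mp h8
    rw [h5]
    have := ((show Commute (a * b * (b * a)⁻¹) (y ^ (α * β)) from h7).zpow_right δ).eq
    rwa [hδ] at this
  obtain ⟨f, hf⟩ := hf
  have hfM : f ∈ MM w t := Subgroup.subset_closure hf
  have hMcov := map_eq h.surj hL hMn (MM_map_mem h hL) ⟨f, hfM, fun h1 => by
    have h2 := h.orderOf_map hf.1 hf.2.1 hf.2.2.1
    rw [h1, orderOf_one] at h2
    exact absurd h2 (by norm_num)⟩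
  have hZcov := map_eq h.surj hL hZn (fun n hn => MM_map_mem h hL n ((hmemZ n).mp hn).1) (by
    by_contra hcon
    push Not at hcon
    obtain ⟨⟨a, ha⟩, ⟨b, hb⟩, hab⟩ := hL.nonab
    obtain ⟨a', ha', rfl⟩ := hMcov a ha
    obtain ⟨b', hb', rfl⟩ := hMcov b hb
    apply hab
    apply Subtype.ext
    show φ a' * φ b' = φ b' * φ a'
    have h1 := hcon _ (hcommZ a' ha' b' hb')
    rw [map_mul, map_mul, map_mul, map_inv, map_inv] at h1
    calc φ a' * φ b' = (φ a' * φ b' * (φ a')⁻¹ * (φ b')⁻¹) * (φ b' * φ a') := by group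
      _ = φ b' * φ a' := by rw [h1, one_mul])
  intro m hm
  obtain ⟨n, hn, hnm⟩ := hZcov (φ m) (MM_map_mem h hL m hm)
  rw [hmemZ] at hn
  have h1 : n⁻¹ * m ∈ zpowers y := by
    apply hcyc
    · rw [map_mul, map_inv, hnm, inv_mul_cancel]
    · have h2 := MM_comm n hn.1
      have h3 := MM_comm m hm
      exact ((show Commute n w from h2).inv_left.mul_left (show Commute m w from h3)).eq
  obtain ⟨k, hk⟩ := mem_zpowers_iff.mp h1
  have h2 : Commute (n⁻¹ * m) y := by rw [← hk]; exact (Commute.refl y).zpow_left k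
  have h3 : m = n * (n⁻¹ * m) := by group
  rw [h3]
  exact ((show Commute n y from hn.2).mul_left h2).eq

/-- the commutator subgroup of `MM w t` -/
def PP (w t : R) : Subgroup R := ⁅MM w t, MM w t⁆

theorem PP_le (h : Data Ω φ w t) : PP w t ≤ MM w t := by
  have := MM_normal h
  exact commutator_le_left _ _

theorem PP_normal (h : Data Ω φ w t) : (PP w t).Normal := by
  have := MM_normal h
  unfold PP
  infer_instance

theorem PP_map (h : Data Ω φ w t) {L : Subgroup X} {z : X} (hL : LData Ω L z)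
    (hf : ∃ f, f ∈ CInv w t) : ∀ l ∈ L, ∃ n ∈ PP w t, φ n = l := by
  obtain ⟨f, hf⟩ := hf
  have hfM : f ∈ MM w t := Subgroup.subset_closure hf
  have hMcov := map_eq h.surj hL (MM_normal h) (MM_map_mem h hL) ⟨f, hfM, fun h1 => by
    have h2 := h.orderOf_map hf.1 hf.2.1 hf.2.2.1
    rw [h1, orderOf_one] at h2
    exact absurd h2 (by norm_num)⟩
  refine map_eq h.surj hL (PP_normal h) (fun n hn => MM_map_mem h hL n (PP_le h hn)) ?_
  by_contra hcon
  push Not at hcon
  obtain ⟨⟨a, ha⟩, ⟨b, hb⟩, hab⟩ := hL.nonab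
  obtain ⟨a', ha', rfl⟩ := hMcov a ha
  obtain ⟨b', hb', rfl⟩ := hMcov b hb
  apply hab
  apply Subtype.ext
  show φ a' * φ b' = φ b' * φ a'
  have h1 := hcon _ (commutator_mem_commutator ha' hb')
  rw [commutatorElement_def, map_mul, map_mul, map_mul, map_inv, map_inv] at h1
  calc φ a' * φ b' = (φ a' * φ b' * (φ a')⁻¹ * (φ b')⁻¹) * (φ b' * φ a') := by group
    _ = φ b' * φ a' := by rw [h1, one_mul]

/-- elements of the kernel centralise `PP w t` -/
theorem PP_comm (h : Data Ω φ w t) {L : Subgroup X} {z : X} (hL : LData Ω L z)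
    (hf : ∃ f, f ∈ CInv w t) {y : R} (hy : φ y = 1) (hyw : y * w = w * y)
    (hcyc : ∀ k : R, φ k = 1 → k * w = w * k → k ∈ zpowers y) {x : R} (hx : φ x = 1) :
    ∀ p ∈ PP w t, p * x = x * p := by
  have hMy := MM_comm_y h hL hf hy hyw hcyc
  have hMn := MM_normal h
  have hex : ∀ a ∈ MM w t, ∃ u : R, u ∈ MM w t ∧ u ∈ zpowers y ∧ x * a * x⁻¹ = u * a := by
    intro a ha
    have h1 : x * a * x⁻¹ * a⁻¹ ∈ MM w t := mul_mem (hMn.conj_mem a ha x) (inv_mem ha)
    refine ⟨x * a * x⁻¹ * a⁻¹, h1, ?_, by group⟩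
    apply hcyc
    · rw [map_mul, map_mul, map_mul, map_inv, map_inv, hx, inv_one, one_mul, mul_one,
        mul_inv_cancel]
    · exact MM_comm _ h1
  have hc : ∀ a ∈ MM w t, ∀ u ∈ zpowers y, Commute a u := by
    rintro a ha u ⟨k, rfl⟩
    exact (show Commute a y from hMy a ha).zpow_right k
  have hle : PP w t ≤ centralizer {x} := by
    unfold PP
    rw [Subgroup.commutator_le]
    intro a ha b hb
    rw [mem_centralizer_singleton_iff, commutatorElement_def]
    obtain ⟨u, huM, hu, hau⟩ := hex a ha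
    obtain ⟨v, hvM, hv, hbv⟩ := hex b hb
    have c1 : Commute b u := hc b hb u hu
    have c2 : Commute v u := hc v hvM u hu
    have c3 : Commute a v := hc a ha v hv
    have c4 : Commute a u := hc a ha u hu
    have c5 : Commute b v := hc b hb v hv
    have h1 : x * (a * b * a⁻¹ * b⁻¹) * x⁻¹ = a * b * a⁻¹ * b⁻¹ := by
      calc x * (a * b * a⁻¹ * b⁻¹) * x⁻¹
          = (x * a * x⁻¹) * (x * b * x⁻¹) * (x * a * x⁻¹)⁻¹ * (x * b * x⁻¹)⁻¹ := by group
        _ = (u * a) * (v * b) * (u * a)⁻¹ * (v * b)⁻¹ := by rw [hau, hbv]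
        _ = u * (a * (v * b) * a⁻¹) * u⁻¹ * b⁻¹ * v⁻¹ := by group
        _ = (a * (v * b) * a⁻¹) * b⁻¹ * v⁻¹ := by
            have : Commute u (a * (v * b) * a⁻¹) :=
              (c4.symm.mul_right (c2.symm.mul_right c1.symm)).mul_right c4.symm.inv_right
            rw [this.eq]; group
        _ = (a * v) * (b * a⁻¹ * b⁻¹) * v⁻¹ := by group
        _ = v * (a * b * a⁻¹ * b⁻¹) * v⁻¹ := by rw [c3.eq]; group
        _ = a * b * a⁻¹ * b⁻¹ := by
            have : Commute v (a * b * a⁻¹ * b⁻¹) :=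
              ((c3.symm.mul_right c5.symm).mul_right c3.symm.inv_right).mul_right
                c5.symm.inv_right
            rw [this.eq]; group
    calc a * b * a⁻¹ * b⁻¹ * x = (x * (a * b * a⁻¹ * b⁻¹) * x⁻¹) * x := by rw [h1]
      _ = x * (a * b * a⁻¹ * b⁻¹) := by group
  intro p hp
  have := hle hp
  rwa [mem_centralizer_singleton_iff] at this

/-- squares of elements of `MM w t` lie in `PP w t` -/
theorem MM_sq (h : Data Ω φ w t) (m : R) (hm : m ∈ MM w t) : m * m ∈ PP w t := by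
  have hPn := PP_normal h
  unfold MM at hm
  induction hm using Subgroup.closure_induction with
  | mem x hx => rw [hx.1]; exact one_mem _
  | one => rw [mul_one]; exact one_mem _
  | mul a b ha hb iha ihb =>
    have h1 : ⁅b, a⁆ ∈ PP w t := commutator_mem_commutator hb ha
    rw [commutatorElement_def] at h1
    have h2 := hPn.conj_mem _ h1 a
    have h3 : a * b * (a * b) = (a * (b * a * b⁻¹ * a⁻¹) * a⁻¹) * (a * a) * (b * b) := by group
    rw [h3]
    exact mul_mem (mul_mem h2 iha) ihb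
  | inv a ha iha =>
    have h3 : a⁻¹ * a⁻¹ = (a * a)⁻¹ := by group
    rw [h3]
    exact inv_mem iha

end

end Cfsg.Agent.TwoGenCore.W1Abs
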