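import Mathlib
import Cfsg.Agent.TwoGenCore.W1Abs

/-!
# S1728, 5A: the case of a cyclic kernel, conclusion `|Ω| = 5`
-/

set_option autoImplicit false

open Cfsg Subgroup
open scoped commutatorElement

universe u v x

namespace Cfsg.Agent.TwoGenCore.W1Five

open Cfsg.Agent.TwoFusion.StronglyEmbeddedBasic Cfsg.Agent.StrongEmb.Basic
open Cfsg.Agent.StrongEmb.TwoRank Cfsg.Agent.StrongEmb.Split
open Cfsg.Agent.TwoGenCore.W1Abs

/-- `|Ω| = |Q| + 1` for a subgroup `Q` regular on the points different from `a`. -/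
theorem card_points {L : Type*} [Group L] {Ω : Type*} [MulAction L Ω] (a : Ω)
    (htr : ∀ b c : Ω, ∃ g : L, g • b = c) {b : Ω} (hab : b ≠ a) {Q : Subgroup L} [Finite Q]
    (hQ : IsSplit (MulAction.stabilizer L a) Q) : Nat.card Ω = Nat.card Q + 1 := by
  classical
  obtain ⟨g, rfl⟩ := htr a b
  have hg : g ∉ MulAction.stabilizer L a := hab
  have hQa : ∀ u ∈ Q, u • a = a := fun u hu => hQ.le hu
  have e : Option Q ≃ Ω := by
    refine Equiv.ofBijective (fun o => match o with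
      | none => a
      | some u => (u : L) • (g • a)) ⟨?_, ?_⟩
    · rintro (_ | ⟨u, hu⟩) (_ | ⟨v, hv⟩) huv
      · rfl
      · exfalso
        simp only at huv
        apply hab
        have := congrArg (fun c => v⁻¹ • c) huv
        simp only [inv_smul_smul] at this
        rw [← this]
        rw [inv_smul_eq_iff, hQa v hv]
      · exfalso
        simp only at huv
        apply hab
        have := congrArg (fun c => u⁻¹ • c) huv
        simp only [inv_smul_smul] at this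
        rw [this]
        rw [inv_smul_eq_iff, hQa u hu]
      · simp only at huv
        have h1 : v⁻¹ * u = 1 := by
          refine hQ.reg g hg _ (mul_mem (inv_mem hv) hu) ?_
          rw [MulAction.mem_stabilizer_iff, mul_smul, mul_smul, mul_smul, huv, inv_smul_smul,
            inv_smul_smul]
        have h2 : u = v := (inv_mul_eq_one.mp h1).symm
        subst h2
        rfl
    · intro c
      by_cases hc : c = a
      · exact ⟨none, hc.symm⟩
      · obtain ⟨k, rfl⟩ := htr a c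
        obtain ⟨u, hu, huk⟩ := hQ.trans g k hg hc
        refine ⟨some ⟨u, hu⟩, ?_⟩
        rw [MulAction.mem_stabilizer_iff, mul_smul, mul_smul, inv_smul_eq_iff] at huk
        exact huk
  rw [← Nat.card_congr e, Finite.card_option]

section

variable {R : Type u} {X : Type v} {Ω : Type x} [Group R] [Group X] [MulAction X Ω]
  {φ : R →* X} {w t : R}

theorem five [Finite X] (h : Data Ω φ w t) {L : Subgroup X} {z : X} (hL : LData Ω L z)
    (hB : BenderHolds L) {f f' i₀ : R} (hf : f ∈ CInv w t) (hf' : f' ∈ CInv w t)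
    (hc : f * f' * f⁻¹ * f'⁻¹ ∈ zpowers w) (hne : f' ≠ f) (hne' : f' ≠ f * t)
    (hi : i₀ * i₀ = 1) (hi1 : i₀ ≠ 1) (hit : i₀ ≠ t) (hiw : i₀ * w * i₀⁻¹ = w⁻¹)
    {y : R} (hy : φ y = 1) (hyw : y * w = w * y)
    (hcyc : ∀ k : R, φ k = 1 → k * w = w * k → k ∈ zpowers y) (hy2 : ∃ n : ℕ, y ^ 2 ^ n = 1) :
    Nat.card Ω = 5 ∧ (∀ m ∈ MM w t, φ m = 1 → m ∈ zpowers w) ∧
      ∀ a b : Ω, ∃ m ∈ MM w t, φ m • a = b := by
  have h2el : ∀ k : R, φ k = 1 → k * w = w * k → ∃ n : ℕ, k ^ 2 ^ n = 1 := by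
    intro k hk hkw
    obtain ⟨n, hn⟩ := hy2
    obtain ⟨j, rfl⟩ := mem_zpowers_iff.mp (hcyc k hk hkw)
    refine ⟨n, ?_⟩
    rw [← zpow_natCast, ← zpow_mul, mul_comm, zpow_mul, zpow_natCast, hn, one_zpow]
  have hex : ∃ f, f ∈ CInv w t := ⟨f, hf⟩
  have hPle := PP_le h
  have hPn := PP_normal h
  have hPcov := PP_map h hL hex
  have hPcomm : ∀ {x : R}, φ x = 1 → ∀ p ∈ PP w t, p * x = x * p :=
    fun hx => PP_comm h hL hex hy hyw hcyc hx
  have hLmem : ∀ i : R, i * i = 1 → i ≠ 1 → i ≠ t → φ i ∈ L := fun i h1 h2 h3 =>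
    hL.mem _ (h.orderOf_map h1 h2 h3) (h.uniq_map h1 h2 h3)
  -- the element `m₀` of `PP` with the same image as `i₀`
  obtain ⟨m₀, hm₀, hm₀i⟩ := hPcov (φ i₀) (hLmem i₀ hi hi1 hit)
  set x₀ := m₀⁻¹ * i₀ with hx₀
  have hφx : φ x₀ = 1 := by rw [hx₀, map_mul, map_inv, hm₀i, inv_mul_cancel]
  have hm₀w : m₀ * w = w * m₀ := MM_comm m₀ (hPle hm₀)
  have hxw : x₀ * w * x₀⁻¹ = w⁻¹ := by
    calc x₀ * w * x₀⁻¹ = m₀⁻¹ * (i₀ * w * i₀⁻¹) * m₀ := by rw [hx₀]; group
      _ = m₀⁻¹ * w⁻¹ * m₀ := by rw [hiw]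
      _ = (m₀⁻¹ * (w * m₀))⁻¹ := by group
      _ = w⁻¹ := by rw [← hm₀w]; group
  have hm₀x : m₀ * x₀ = x₀ * m₀ := hPcomm hφx m₀ hm₀
  -- `PP ∩ ker φ ≤ {1, t}`
  have hwP : w ∉ PP w t := by
    intro hw
    have h1 := hPcomm hφx w hw
    apply h.w_ne_inv
    rw [← hxw]
    calc w = w * x₀ * x₀⁻¹ := by group
      _ = x₀ * w * x₀⁻¹ := by rw [h1]
  have hPker : ∀ b ∈ PP w t, φ b = 1 → b = 1 ∨ b = t := by
    intro b hb hφb
    have hbw := MM_comm b (hPle hb)
    rcases h.ker_pow hφb hbw (h2el b hφb hbw) with h1 | ⟨n, h1 | h1⟩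
    · exact h1
    · exfalso
      have h2 : b ^ n ∈ PP w t := pow_mem hb n
      rw [h1] at h2
      exact hwP h2
    · exfalso
      have h2 : b ^ n ∈ PP w t := pow_mem hb n
      rw [h1] at h2
      have h3 := inv_mem h2
      rw [inv_inv] at h3
      exact hwP h3
  -- `m₀ * m₀ = t`
  have hprod : (m₀ * m₀) * (x₀ * x₀) = 1 := by
    calc (m₀ * m₀) * (x₀ * x₀) = m₀ * (m₀ * x₀) * x₀ := by group
      _ = m₀ * (x₀ * m₀) * x₀ := by rw [hm₀x]
      _ = (m₀ * x₀) * (m₀ * x₀) := by group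
      _ = i₀ * i₀ := by rw [hx₀]; group
      _ = 1 := hi
  have hmm : m₀ * m₀ = t := by
    have h1 : φ (m₀ * m₀) = 1 := by
      rw [map_mul, hm₀i, ← map_mul, hi, map_one]
    rcases hPker _ (mul_mem hm₀ hm₀) h1 with h2 | h2
    · exfalso
      rw [h2, one_mul] at hprod
      have h3 : x₀ * w = w * x₀ := by
        rcases h.ker_uniq hφx hprod with h4 | h4
        · rw [h4, one_mul, mul_one]
        · rw [h4]; exact (h.central w).symm
      apply h.w_ne_inv
      rw [← hxw, h3]; group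
    · exact h2
  have htP : t ∈ PP w t := by
    have h1 : m₀ * m₀ ∈ PP w t := mul_mem hm₀ hm₀
    rwa [hmm] at h1
  -- `t` is the only involution of `PP`
  have hPuniq : ∀ n ∈ PP w t, n * n = 1 → n = 1 ∨ n = t := by
    intro n hn hnn
    by_contra hcon
    push Not at hcon
    have hnL := hLmem n hnn hcon.1 hcon.2
    have h1 := hL.conj _ hnL (h.orderOf_map hnn hcon.1 hcon.2)
    have h2 := hL.conj _ (hLmem i₀ hi hi1 hit) (h.orderOf_map hi hi1 hit)
    obtain ⟨c, hc⟩ := isConj_iff.mp (h2.symm.trans h1)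
    obtain ⟨g, rfl⟩ := h.surj c
    have h3 : φ (g * m₀ * g⁻¹) = φ n := by
      rw [map_mul, map_mul, map_inv, hm₀i, hc]
    have h4 : g * m₀ * g⁻¹ ∈ PP w t := hPn.conj_mem m₀ hm₀ g
    have h5 : φ ((g * m₀ * g⁻¹)⁻¹ * n) = 1 := by rw [map_mul, map_inv, h3, inv_mul_cancel]
    have h6 : (g * m₀ * g⁻¹) * (g * m₀ * g⁻¹) = t := by
      calc (g * m₀ * g⁻¹) * (g * m₀ * g⁻¹) = g * (m₀ * m₀) * g⁻¹ := by group
        _ = g * t * g⁻¹ := by rw [hmm]
        _ = t := by rw [h.central]; group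
    have h7 : n = (g * m₀ * g⁻¹) * ((g * m₀ * g⁻¹)⁻¹ * n) := by group
    apply h.ne
    rcases hPker _ (mul_mem (inv_mem h4) hn) h5 with h8 | h8
    · rw [h8, mul_one] at h7
      rw [← h6, ← h7, hnn]
    · rw [h8] at h7
      have h9 : n * n = (g * m₀ * g⁻¹) * (g * m₀ * g⁻¹) * (t * t) := by
        rw [h7]
        calc g * m₀ * g⁻¹ * t * (g * m₀ * g⁻¹ * t) = g * m₀ * g⁻¹ * (t * (g * m₀ * g⁻¹)) * t := by
              group
          _ = g * m₀ * g⁻¹ * ((g * m₀ * g⁻¹) * t) * t := by rw [h.central (g * m₀ * g⁻¹)]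
          _ = _ := by group
      rw [hnn, h.tt, mul_one, h6] at h9
      exact h9.symm
  -- the group `L`
  have hLs := hL.simple
  have hφne := h.map_ne hf hf' hc hne hne'
  have hof := h.orderOf_map hf.1 hf.2.1 hf.2.2.1
  have hof' := h.orderOf_map hf'.1 hf'.2.1 hf'.2.2.1
  have hfL := hLmem f hf.1 hf.2.1 hf.2.2.1
  have hfL' := hLmem f' hf'.1 hf'.2.1 hf'.2.2.1
  have hcomm : Commute (φ f) (φ f') := by
    obtain ⟨k, hk⟩ := mem_zpowers_iff.mp hc
    have h1 : φ (f * f' * f⁻¹ * f'⁻¹) = 1 := by rw [← hk, map_zpow, h.ker, one_zpow]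
    rw [map_mul, map_mul, map_mul, map_inv, map_inv] at h1
    show φ f * φ f' = φ f' * φ f
    calc φ f * φ f' = (φ f * φ f' * (φ f)⁻¹ * (φ f')⁻¹) * (φ f' * φ f) := by group
      _ = φ f' * φ f := by rw [h1, one_mul]
  have hcp : CommPair L := commPair_subgroup hfL hfL' hof hof' hφne hcomm
  obtain ⟨a, ha⟩ := (h.one f hf.1 hf.2.1 hf.2.2.1).exists
  have ha' : φ f' • a = a := by
    refine (h.one f hf.1 hf.2.1 hf.2.2.1).unique ?_ ha
    rw [smul_smul, hcomm.eq, mul_smul, ha]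
  have hSE := hL.stab a
  rw [← stabilizer_subgroup_eq] at hSE
  have hcore := normalCore_eq_bot_of_simple hSE.1
  obtain ⟨Q, hQ, hQ2⟩ := hB _ hSE hcp hcore
  have hfS : (⟨φ f, hfL⟩ : L) ∈ MulAction.stabilizer L a := ha
  have hfS' : (⟨φ f', hfL'⟩ : L) ∈ MulAction.stabilizer L a := ha'
  have hofL : orderOf (⟨φ f, hfL⟩ : L) = 2 := by rw [Subgroup.orderOf_mk]; exact hof
  have hofL' : orderOf (⟨φ f', hfL'⟩ : L) = 2 := by rw [Subgroup.orderOf_mk]; exact hof'
  have hfQ := Cfsg.Agent.StrongEmb.Frame.mem_of_two_element hSE hQ hfS ⟨1, by rw [hofL, pow_one]⟩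
  have hfQ' := Cfsg.Agent.StrongEmb.Frame.mem_of_two_element hSE hQ hfS'
    ⟨1, by rw [hofL', pow_one]⟩
  -- the cover
  let π : PP w t →* L := (φ.comp (PP w t).subtype).codRestrict L
    (fun p => MM_map_mem h hL p (hPle p.2))
  have hπ : ∀ p : PP w t, ((π p : L) : X) = φ p := fun p => rfl
  have hcard4 : Nat.card Q = 4 := by
    refine Cfsg.Agent.TwoGenCore.W1Count.card_eq_four (P := PP w t) (L := L) (t := ⟨t, htP⟩)
      (fun g => Subtype.ext (h.central g)) (Subtype.ext h.tt)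
      (fun h1 => h.ne (congrArg Subtype.val h1)) π ?_ ?_ ?_ ?_ Q hQ2 ?_ hfQ hfQ'
      (mul_self_of_orderOf hofL) (mul_self_of_orderOf hofL') ?_ ?_
      (fun h1 => hφne (congrArg Subtype.val h1))
    · rintro ⟨l, hl⟩
      obtain ⟨p, hp, hpl⟩ := hPcov l hl
      exact ⟨⟨p, hp⟩, Subtype.ext hpl⟩
    · rintro ⟨p, hp⟩ h1
      have h2 : φ p = 1 := congrArg Subtype.val h1
      rcases hPker p hp h2 with h3 | h3
      · exact Or.inl (Subtype.ext h3)
      · exact Or.inr (Subtype.ext h3)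
    · exact Subtype.ext h.ker_t
    · rintro ⟨p, hp⟩ h1
      rcases hPuniq p hp (congrArg Subtype.val h1) with h3 | h3
      · exact Or.inl (Subtype.ext h3)
      · exact Or.inr (Subtype.ext h3)
    · intro s hs hss q hq
      by_cases hs1 : s = 1
      · rw [hs1, one_mul, mul_one]
      · exact Cfsg.Agent.StrongEmb.Frame.involution_comm hSE hcp hcore hQ (hQ.le hs)
          (orderOf_eq_two_of_mul_self hss hs1) hq
    · intro h1; rw [h1, orderOf_one] at hofL; exact absurd hofL (by norm_num)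
    · intro h1; rw [h1, orderOf_one] at hofL'; exact absurd hofL' (by norm_num)
  have htrL : ∀ b c : Ω, ∃ g : L, g • b = c := by
    intro b c
    obtain ⟨g, hg, hgb⟩ := hL.trans b c
    exact ⟨⟨g, hg⟩, hgb⟩
  refine ⟨?_, ?_, ?_⟩
  · obtain ⟨b, hb⟩ : ∃ b : Ω, b ≠ a := by
      obtain ⟨p, q, hpq⟩ := h.nontriv
      by_cases hap : p = a
      · exact ⟨q, fun hq => hpq (by rw [hap, hq])⟩
      · exact ⟨p, hap⟩
    rw [card_points a htrL hb hQ, hcard4]
  · intro m hm hφm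
    have hmw := MM_comm m hm
    have h1 := MM_sq h m hm
    rcases hPker _ h1 (by rw [map_mul, hφm, one_mul]) with h2 | h2
    · rcases h.ker_uniq hφm h2 with h3 | h3
      · rw [h3]; exact one_mem _
      · rw [h3, ← h.sq]; exact mul_mem (mem_zpowers w) (mem_zpowers w)
    · rcases h.ker_sq hφm hmw h2 with h3 | h3
      · rw [h3]; exact mem_zpowers w
      · rw [h3]; exact inv_mem (mem_zpowers w)
  · intro b c
    obtain ⟨l, hl, hlb⟩ := hL.trans b c
    obtain ⟨p, hp, hpl⟩ := hPcov l hl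
    exact ⟨p, hPle hp, by rw [hpl, hlb]⟩

end

end Cfsg.Agent.TwoGenCore.W1Five
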