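import Mathlib
import Cfsg.Agent.TwoGenCore.W1Five
import Cfsg.Agent.TwoGenCore.W1Cyc

/-!
# S1728, 5A: reduction to the case of a cyclic kernel
-/

set_option autoImplicit false

open Cfsg Subgroup

universe u v x

namespace Cfsg.Agent.TwoGenCore.W1Red

open Cfsg.Agent.TwoFusion.StronglyEmbeddedBasic Cfsg.Agent.StrongEmb.Basic
open Cfsg.Agent.StrongEmb.TwoRank Cfsg.Agent.StrongEmb.Split
open Cfsg.Agent.TwoGenCore.W1Abs

/-- an element of order at most 2 in a subgroup of odd order is trivial -/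
theorem eq_one_of_mem {R : Type*} [Group R] {O : Subgroup R} (hO : Odd (Nat.card O)) {g : R}
    (hg : g ∈ O) (hgg : g * g = 1) : g = 1 := by
  have h1 : orderOf g ∣ Nat.card O := O.orderOf_dvd_natCard hg
  have h2 : orderOf g ∣ 2 := orderOf_dvd_of_pow_eq_one (by rw [pow_two]; exact hgg)
  have h3 : Nat.Coprime 2 (Nat.card O) := Nat.coprime_two_left.mpr hO
  exact orderOf_eq_one_iff.mp (Nat.eq_one_of_dvd_coprimes h3 h2 h1)

variable {R : Type u} {X : Type v} {Ω : Type x} [Group R] [Group X] [MulAction X Ω]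
  {φ : R →* X} {w t : R}

/-- the induced map on `R ⧸ O` -/
def qmap (φ : R →* X) (O : Subgroup R) [O.Normal] (hO : O ≤ φ.ker) : R ⧸ O →* X :=
  QuotientGroup.lift O φ (fun o ho => hO ho)

theorem qmap_mk (φ : R →* X) (O : Subgroup R) [O.Normal] (hO : O ≤ φ.ker) (g : R) :
    qmap φ O hO (QuotientGroup.mk' O g) = φ g := rfl

theorem data_quot [Finite R] (h : Data Ω φ w t) {O : Subgroup R} [O.Normal] (hO : O ≤ φ.ker)
    (hodd : Odd (Nat.card O)) :
    Data Ω (qmap φ O hO) (QuotientGroup.mk' O w) (QuotientGroup.mk' O t) where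
  surj := fun x => by
    obtain ⟨g, rfl⟩ := h.surj x
    exact ⟨QuotientGroup.mk' O g, rfl⟩
  faithful := h.faithful
  sq := by rw [← map_mul, h.sq]
  tt := by rw [← map_mul, h.tt, map_one]
  ne := by
    intro h1
    have h2 : t ∈ O := (QuotientGroup.eq_one_iff t).mp h1
    exact h.ne (eq_one_of_mem hodd h2 h.tt)
  ker := by rw [qmap_mk, h.ker]
  norm := fun g => by
    obtain ⟨g, rfl⟩ := QuotientGroup.mk'_surjective O g
    rcases h.norm g with h1 | h1
    · left; rw [← map_inv, ← map_mul, ← map_mul, h1]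
    · right; rw [← map_inv, ← map_mul, ← map_mul, h1, map_inv]
  one := fun i h1 h2 h3 => by
    obtain ⟨g, rfl⟩ := QuotientGroup.mk'_surjective O i
    have h4 : g * g ∈ O := by
      rw [← map_mul] at h1
      exact (QuotientGroup.eq_one_iff (g * g)).mp h1
    set m := Nat.card O with hm
    have h5 : (g * g) ^ m = 1 := by
      have := Subgroup.orderOf_dvd_natCard O h4
      exact orderOf_dvd_iff_pow_eq_one.mp this
    have h6 : g ^ m * g ^ m = 1 := by
      rw [← (Commute.refl g).mul_pow, h5]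
    have h7 : QuotientGroup.mk' O (g ^ m) = QuotientGroup.mk' O g := by
      obtain ⟨k, hk⟩ := hodd
      rw [map_pow, hk, pow_succ, pow_mul, pow_two, h1, one_pow, one_mul]
    rw [qmap_mk]
    rw [← h7] at h2 h3
    have h8 : φ (g ^ m) = φ g := by
      rw [← qmap_mk φ O hO, h7, qmap_mk]
    rw [← h8]
    refine h.one _ h6 ?_ ?_
    · intro h9; exact h2 (by rw [h9, map_one])
    · intro h9; exact h3 (by rw [h9])
  nontriv := h.nontriv

theorem cinv_quot [Finite R] (h : Data Ω φ w t) {O : Subgroup R} [O.Normal]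
    (hodd : Odd (Nat.card O)) {i : R} (h1 : i * i = 1) (h2 : i ≠ 1) (h3 : i ≠ t) :
    QuotientGroup.mk' O i * QuotientGroup.mk' O i = 1 ∧ QuotientGroup.mk' O i ≠ 1 ∧
      QuotientGroup.mk' O i ≠ QuotientGroup.mk' O t := by
  refine ⟨by rw [← map_mul, h1, map_one], ?_, ?_⟩
  · intro h4
    exact h2 (eq_one_of_mem hodd ((QuotientGroup.eq_one_iff i).mp h4) h1)
  · intro h4
    have h5 : i⁻¹ * t ∈ O := QuotientGroup.eq.mp h4
    have h6 : i⁻¹ = i := inv_eq_of_mul_eq_one_left h1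
    rw [h6] at h5
    have h7 : (i * t) * (i * t) = 1 := by
      calc i * t * (i * t) = i * (t * i) * t := by group
        _ = (i * i) * (t * t) := by rw [← h.central]; group
        _ = 1 := by rw [h1, h.tt, one_mul]
    have h8 := eq_one_of_mem hodd h5 h7
    apply h3
    calc i = i * t * t := by rw [mul_assoc, h.tt, mul_one]
      _ = t := by rw [h8, one_mul]

/-- **5A, abstract form.** -/
theorem main [Finite R] [Finite X] (h : Data Ω φ w t) {L : Subgroup X} {z : X}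
    (hL : LData Ω L z) (hB : BenderHolds L) {f f' i₀ : R} (hf : f ∈ CInv w t)
    (hf' : f' ∈ CInv w t) (hc : f * f' * f⁻¹ * f'⁻¹ ∈ zpowers w) (hne : f' ≠ f)
    (hne' : f' ≠ f * t) (hi : i₀ * i₀ = 1) (hi1 : i₀ ≠ 1) (hit : i₀ ≠ t)
    (hiw : i₀ * w * i₀⁻¹ = w⁻¹) :
    Nat.card Ω = 5 ∧ (∀ a b : Ω, ∃ m ∈ MM w t, φ m • a = b) ∧
      ∃ O : Subgroup R, O.Normal ∧ Odd (Nat.card O) ∧ (∀ o ∈ O, φ o = 1) ∧
        (∀ o ∈ O, o * w = w * o) ∧
        ∀ m ∈ MM w t, φ m = 1 → ∃ o ∈ O, ∃ k : ℤ, m = o * w ^ k := by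
  -- the kernel of `C(w)`
  set K : Subgroup R := φ.ker ⊓ centralizer {w} with hK
  have hmemK : ∀ g : R, g ∈ K ↔ φ g = 1 ∧ g * w = w * g := by
    intro g
    rw [hK, mem_inf, mem_centralizer_singleton_iff, MonoidHom.mem_ker]
  have hKn : K.Normal := by
    constructor
    intro k hk g
    rw [hmemK] at hk ⊢
    refine ⟨by rw [map_mul, map_mul, hk.1, map_inv, mul_one, mul_inv_cancel], ?_⟩
    have h5 : g⁻¹ * w * g = w ∨ g⁻¹ * w * g = w⁻¹ := by
      have := h.norm g⁻¹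
      rwa [inv_inv] at this
    have h6 : k * (g⁻¹ * w * g) = (g⁻¹ * w * g) * k := by
      rcases h5 with h5 | h5
      · rw [h5, hk.2]
      · rw [h5]; exact ((show Commute k w from hk.2).inv_right).eq
    calc g * k * g⁻¹ * w = g * (k * (g⁻¹ * w * g)) * g⁻¹ := by group
      _ = g * ((g⁻¹ * w * g) * k) * g⁻¹ := by rw [h6]
      _ = w * (g * k * g⁻¹) := by group
  obtain ⟨O, hOn, hOK, hodd, hO2⟩ := Cfsg.Agent.TwoGenCore.W1Cyc.exists_core hKn
    (t := t) (w := w) ((hmemK w).mpr ⟨h.ker, rfl⟩) (fun k hk => ((hmemK k).mp hk).2) h.sq h.tt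
    h.ne (fun g hg hgg => h.ker_uniq ((hmemK g).mp hg).1 hgg)
  have hOker : O ≤ φ.ker := fun o ho => ((hmemK o).mp (hOK ho)).1
  have hOw : ∀ o ∈ O, o * w = w * o := fun o ho => ((hmemK o).mp (hOK ho)).2
  set π := QuotientGroup.mk' O with hπ
  have hD := data_quot h hOker hodd
  have hφne := h.map_ne hf hf' hc hne hne'
  have hcinv : ∀ i ∈ CInv w t, π i ∈ CInv (π w) (π t) := by
    intro i hi
    obtain ⟨a1, a2, a3⟩ := cinv_quot h hodd hi.1 hi.2.1 hi.2.2.1
    exact ⟨a1, a2, a3, by rw [← map_mul, ← map_mul, hi.2.2.2]⟩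
  obtain ⟨b1, b2, b3⟩ := cinv_quot h hodd hi hi1 hit
  have hcq : π f * π f' * (π f)⁻¹ * (π f')⁻¹ ∈ zpowers (π w) := by
    obtain ⟨k, hk⟩ := mem_zpowers_iff.mp hc
    exact mem_zpowers_iff.mpr ⟨k, by
      rw [← map_zpow, hk, map_mul, map_mul, map_mul, map_inv, map_inv]⟩
  have hneq : π f' ≠ π f := by
    intro h1
    apply hφne
    rw [← qmap_mk φ O hOker, ← qmap_mk φ O hOker, ← hπ, h1]
  have hneq' : π f' ≠ π f * π t := by
    intro h1
    apply hφne
    have h2 : qmap φ O hOker (π f') = qmap φ O hOker (π f * π t) := by rw [h1]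
    rw [map_mul, hπ, qmap_mk, qmap_mk, qmap_mk, h.ker_t, mul_one] at h2
    exact h2.symm
  have hiwq : π i₀ * π w * (π i₀)⁻¹ = (π w)⁻¹ := by
    rw [← map_mul, ← map_inv, ← map_mul, hiw, map_inv]
  -- the cyclic kernel
  set K' : Subgroup (R ⧸ O) := (qmap φ O hOker).ker ⊓ centralizer {π w} with hK'
  have hmemK' : ∀ g : R ⧸ O, g ∈ K' ↔ qmap φ O hOker g = 1 ∧ g * π w = π w * g := by
    intro g
    rw [hK', mem_inf, mem_centralizer_singleton_iff, MonoidHom.mem_ker]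
  have hlift : ∀ g : R, π g ∈ K' → g ∈ K := by
    intro g hg
    rw [hmemK'] at hg
    rw [hmemK]
    refine ⟨hg.1, ?_⟩
    rcases h.norm g with h1 | h1
    · calc g * w = g * w * g⁻¹ * g := by group
        _ = w * g := by rw [h1]
    · exfalso
      apply hD.w_ne_inv
      have h2 : π g * π w * (π g)⁻¹ = (π w)⁻¹ := by
        rw [← map_mul, ← map_inv, ← map_mul, h1, map_inv]
      rw [← h2, hg.2]
      exact (mul_inv_cancel_right _ _).symm
  have hK'2 : IsPGroup 2 K' := by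
    rintro ⟨g, hg⟩
    obtain ⟨k, rfl⟩ := QuotientGroup.mk'_surjective O g
    obtain ⟨n, hn⟩ := hO2 k (hlift k hg)
    refine ⟨n, Subtype.ext ?_⟩
    show (π k) ^ 2 ^ n = 1
    rw [← map_pow]
    exact (QuotientGroup.eq_one_iff _).mpr hn
  have hwK' : π w ∈ K' := (hmemK' _).mpr ⟨hD.ker, rfl⟩
  have htK' : π t ∈ K' := (hmemK' _).mpr ⟨hD.ker_t, hD.central (π w) |>.symm⟩
  obtain ⟨⟨y, hy⟩, hgen⟩ := Cfsg.Agent.TwoGenCore.W1Cyc.exists_gen hK'2 (t := ⟨π t, htK'⟩)
    (w := ⟨π w, hwK'⟩) (fun g => Subtype.ext ((hmemK' _).mp g.2).2) (Subtype.ext hD.sq)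
    (fun h1 => hD.ne (congrArg Subtype.val h1)) (fun g hg => by
      rcases hD.ker_uniq ((hmemK' _).mp g.2).1 (congrArg Subtype.val hg) with h1 | h1
      · exact Or.inl (Subtype.ext h1)
      · exact Or.inr (Subtype.ext h1))
  have hy' := (hmemK' y).mp hy
  have hcyc : ∀ k : R ⧸ O, qmap φ O hOker k = 1 → k * π w = π w * k → k ∈ zpowers y := by
    intro k h1 h2
    obtain ⟨j, hj⟩ := mem_zpowers_iff.mp (hgen ⟨k, (hmemK' k).mpr ⟨h1, h2⟩⟩)
    exact mem_zpowers_iff.mpr ⟨j, congrArg Subtype.val hj⟩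
  have hy2 : ∃ n : ℕ, y ^ 2 ^ n = 1 := by
    obtain ⟨n, hn⟩ := hK'2 ⟨y, hy⟩
    exact ⟨n, congrArg Subtype.val hn⟩
  obtain ⟨c1, c2, -⟩ := Cfsg.Agent.TwoGenCore.W1Five.five hD hL hB (hcinv f hf) (hcinv f' hf')
    hcq hneq hneq' b1 b2 b3 hiwq hy'.1 hy'.2 hcyc hy2
  refine ⟨c1, ?_, O, hOn, hodd, fun o ho => hOker ho, hOw, ?_⟩
  · intro a b
    obtain ⟨l, hl, hlb⟩ := hL.trans a b
    have hfM : f ∈ MM w t := Subgroup.subset_closure hf
    obtain ⟨m, hm, hml⟩ := map_eq h.surj hL (MM_normal h) (MM_map_mem h hL) ⟨f, hfM, fun h1 => by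
      have h2 := h.orderOf_map hf.1 hf.2.1 hf.2.2.1
      rw [h1, orderOf_one] at h2
      exact absurd h2 (by norm_num)⟩ l hl
    exact ⟨m, hm, by rw [hml, hlb]⟩
  · intro m hm hφm
    have h1 : MM w t ≤ (MM (π w) (π t)).comap π := by
      rw [MM, Subgroup.closure_le]
      intro i hi
      exact Subgroup.subset_closure (hcinv i hi)
    obtain ⟨k, hk⟩ := mem_zpowers_iff.mp (c2 (π m) (h1 hm) hφm)
    rw [← map_zpow] at hk
    have h2 : (w ^ k)⁻¹ * m ∈ O := QuotientGroup.eq.mp hk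
    have h3 : m * (w ^ k)⁻¹ ∈ O := by
      have := hOn.conj_mem _ h2 (w ^ k)
      have e : w ^ k * ((w ^ k)⁻¹ * m) * (w ^ k)⁻¹ = m * (w ^ k)⁻¹ := by group
      rwa [e] at this
    exact ⟨m * (w ^ k)⁻¹, h3, k, by group⟩

end Cfsg.Agent.TwoGenCore.W1Red
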