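import Mathlib
import Cfsg.Agent.TwoGenCore.W1Abs
import Cfsg.Agent.TwoGenCore.GenCrit

/-!
# S1728, 5A: the hypotheses of the Aschbacher criterion for the normaliser of `⟨w⟩`

In the situation of `W1Abs.Data`, let `u` be an involution (`≠ t`) of a Sylow 2-subgroup `T` of `R` with
`s u s⁻¹ ∈ {u, u t}` for `s ∈ T`.  Then `AschCrit.Basic.Setup X Ω (φ u)` holds (`setup`), and
`O(X) = 1` if `C(w)` contains two suitable involutions (`core_eq_bot`).
-/

set_option autoImplicit false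

open Cfsg Subgroup

universe u v x

namespace Cfsg.Agent.TwoGenCore.W1Setup

open Cfsg.Agent.TwoFusion.StronglyEmbeddedBasic Cfsg.Agent.StrongEmb.Basic
open Cfsg.Agent.TwoGenCore.W1Abs

variable {R : Type u} {X : Type v} {Ω : Type x} [Group R] [Group X] [MulAction X Ω]
  {φ : R →* X} {w t : R}

/-- an involution commuting with a 2-central element `z` can be conjugated by `C(z)` into the Sylow
subgroup centralising `z` -/
theorem exists_conj_commute [Finite X] {z d : X} (S : Sylow 2 X) (hS : ∀ s ∈ S, Commute s z)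
    (hd : d * d = 1) (hdz : Commute z d) : ∃ c : X, Commute c z ∧ c * d * c⁻¹ ∈ S := by
  have hp : Fact (Nat.Prime 2) := ⟨Nat.prime_two⟩
  have h1 : (S : Subgroup X) ≤ centralizer {z} := by
    intro s hs
    rw [mem_centralizer_singleton_iff]
    exact (hS s hs).eq
  have h2 : zpowers d ≤ centralizer {z} := by
    rw [zpowers_le, mem_centralizer_singleton_iff]
    exact hdz.eq.symm
  obtain ⟨c, hc, hcd⟩ := Cfsg.Agent.AschCrit.NonIso.exists_conj_le_sylow S (centralizer {z})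
    (zpowers d) h1 h2 (Cfsg.Agent.AschCrit.Closed.isPGroup_zpowers hd)
  rw [mem_centralizer_singleton_iff] at hc
  exact ⟨c, hc, hcd d (mem_zpowers d)⟩

/-- an involution `≠ t` of `R` whose image is the product of `φ u` and a commuting conjugate `d` -/
theorem exists_lift [Finite R] [Finite X] (h : Data Ω φ w t) {u : R} (T : Sylow 2 R) (huT : u ∈ T)
    (hu : u * u = 1) (hconj : ∀ s ∈ T, s * u * s⁻¹ = u ∨ s * u * s⁻¹ = u * t)
    {d : X} (hd : IsConj (φ u) d) (hc : Commute (φ u) d) (hne : d ≠ φ u) :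
    ∃ j : R, j * j = 1 ∧ j ≠ 1 ∧ j ≠ t ∧ φ j = φ u * d := by
  have hp : Fact (Nat.Prime 2) := ⟨Nat.prime_two⟩
  set S : Sylow 2 X := T.mapSurjective h.surj with hS
  have hmemS : ∀ s : X, s ∈ S → ∃ r ∈ T, φ r = s := by
    intro s hs
    have h1 : s ∈ (S : Subgroup X) := hs
    rw [hS, Sylow.coe_mapSurjective] at h1
    obtain ⟨r, hr, rfl⟩ := h1
    exact ⟨r, hr, rfl⟩
  have hSc : ∀ s ∈ S, Commute s (φ u) := by
    intro s hs
    obtain ⟨r, hr, rfl⟩ := hmemS s hs
    show φ r * φ u = φ u * φ r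
    have h1 : φ (r * u * r⁻¹) = φ u := by
      rcases hconj r hr with h2 | h2
      · rw [h2]
      · rw [h2, map_mul, h.ker_t, mul_one]
    calc φ r * φ u = φ (r * u * r⁻¹) * φ r := by
          rw [map_mul, map_mul, map_inv, inv_mul_cancel_right]
      _ = φ u * φ r := by rw [h1]
  have huu : φ u * φ u = 1 := by rw [← map_mul, hu, map_one]
  have hdd : d * d = 1 := by
    obtain ⟨g, rfl⟩ := isConj_iff.mp hd
    calc g * φ u * g⁻¹ * (g * φ u * g⁻¹) = g * (φ u * φ u) * g⁻¹ := by group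
      _ = 1 := by rw [huu]; group
  obtain ⟨c, hcu, hcS⟩ := exists_conj_commute S hSc hdd hc
  obtain ⟨c', rfl⟩ := h.surj c
  -- the conjugate `d₁ ∈ S`
  set d₁ := φ c' * d * (φ c')⁻¹ with hd₁
  obtain ⟨g₁, hg₁⟩ := isConj_iff.mp hd
  obtain ⟨g, rfl⟩ := h.surj g₁
  obtain ⟨r, hr, hrd⟩ := hmemS d₁ hcS
  set u' := (c' * g) * u * (c' * g)⁻¹ with hu'
  have hφu' : φ u' = d₁ := by
    rw [hu', hd₁, ← hg₁]
    simp only [map_mul, map_inv, mul_inv_rev]
    group
  have hmem : u' ∈ (T : Subgroup R) ⊔ φ.ker := by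
    have h1 : r⁻¹ * u' ∈ φ.ker := by
      rw [MonoidHom.mem_ker, map_mul, map_inv, hrd, hφu', inv_mul_cancel]
    have h2 := mul_mem_sup hr h1
    rwa [mul_inv_cancel_left] at h2
  have hu'u' : u' * u' = 1 := by
    rw [hu']
    calc (c' * g) * u * (c' * g)⁻¹ * ((c' * g) * u * (c' * g)⁻¹)
        = (c' * g) * (u * u) * (c' * g)⁻¹ := by group
      _ = 1 := by rw [hu]; group
  obtain ⟨n, hn, hnT⟩ := Cfsg.Agent.TwoFusion.IsolatedCenter.exists_conj_mem T φ.ker u'
    ⟨1, by rw [pow_one, pow_two, hu'u']⟩ hmem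
  set u₂ := n * u' * n⁻¹ with hu₂
  have hφn : φ n = 1 := hn
  have hφu₂ : φ u₂ = d₁ := by
    rw [hu₂, map_mul, map_mul, map_inv, hφn, hφu']; simp
  have hu₂u₂ : u₂ * u₂ = 1 := by
    rw [hu₂]
    calc n * u' * n⁻¹ * (n * u' * n⁻¹) = n * (u' * u') * n⁻¹ := by group
      _ = 1 := by rw [hu'u']; group
  -- `v = u u₂`
  set v := u * u₂ with hv
  have hvv : v * v = 1 ∨ v * v = t := by
    have h1 : v * v = u * (u₂ * u * u₂⁻¹) * (u₂ * u₂) := by rw [hv]; group
    rw [h1, hu₂u₂, mul_one]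
    rcases hconj u₂ hnT with h2 | h2
    · left; rw [h2, hu]
    · right; rw [h2, ← mul_assoc, hu, one_mul]
  have hvw : v * w = w * v := by
    -- `u₂` acts on `w` as `u` does
    set k := n * (c' * g) with hk
    have hk₂ : u₂ = k * u * k⁻¹ := by rw [hu₂, hu', hk]; group
    have h1 : u * w * u⁻¹ = w ∨ u * w * u⁻¹ = w⁻¹ := h.norm u
    have h2 : k⁻¹ * w * k = w ∨ k⁻¹ * w * k = w⁻¹ := by
      have := h.norm k⁻¹
      rwa [inv_inv] at this
    have h3 : u₂ * w * u₂⁻¹ = u * w * u⁻¹ := by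
      have h4 : u₂ * w * u₂⁻¹ = k * (u * (k⁻¹ * w * k) * u⁻¹) * k⁻¹ := by rw [hk₂]; group
      have hkw : k * w * k⁻¹ = w ∨ k * w * k⁻¹ = w⁻¹ := h.norm k
      rcases h2 with h2 | h2
      · have h5 : k * w * k⁻¹ = w := by
          calc k * w * k⁻¹ = k * (k⁻¹ * w * k) * k⁻¹ := by rw [h2]
            _ = w := by group
        rw [h4, h2]
        rcases h1 with h1 | h1
        · rw [h1, h5]
        · rw [h1]
          calc k * w⁻¹ * k⁻¹ = (k * w * k⁻¹)⁻¹ := by group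
            _ = w⁻¹ := by rw [h5]
      · have h5 : k * w⁻¹ * k⁻¹ = w := by
          calc k * w⁻¹ * k⁻¹ = k * (k⁻¹ * w * k) * k⁻¹ := by rw [h2]
            _ = w := by group
        rw [h4, h2]
        have h6 : u * w⁻¹ * u⁻¹ = (u * w * u⁻¹)⁻¹ := by group
        rw [h6]
        rcases h1 with h1 | h1
        · rw [h1, h5]
        · rw [h1, inv_inv]
          calc k * w * k⁻¹ = (k * w⁻¹ * k⁻¹)⁻¹ := by group
            _ = w⁻¹ := by rw [h5]
    have h4 : v * w * v⁻¹ = w := by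
      have h5 : v * w * v⁻¹ = u * (u₂ * w * u₂⁻¹) * u⁻¹ := by rw [hv]; group
      rw [h5, h3]
      rcases h1 with h1 | h1
      · rw [h1, h1]
      · rw [h1]
        calc u * w⁻¹ * u⁻¹ = (u * w * u⁻¹)⁻¹ := by group
          _ = w := by rw [h1, inv_inv]
    calc v * w = v * w * v⁻¹ * v := by group
      _ = w * v := by rw [h4]
  have hφv : φ v = φ u * d₁ := by rw [hv, map_mul, hφu₂]
  have hd₁ne : φ u * d₁ ≠ 1 := by
    intro h1
    apply hne
    have h2 : d₁ = φ u := by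
      calc d₁ = (φ u * φ u) * d₁ := by rw [huu, one_mul]
        _ = φ u * (φ u * d₁) := by group
        _ = φ u := by rw [h1, mul_one]
    have h3 : d = (φ c')⁻¹ * d₁ * φ c' := by rw [hd₁]; group
    rw [h3, h2]
    calc (φ c')⁻¹ * φ u * φ c' = (φ c')⁻¹ * (φ c' * φ u) := by rw [hcu.eq]; group
      _ = φ u := by group
  -- the involution `j₁`
  obtain ⟨j₁, hj₁, hφj₁⟩ : ∃ j₁ : R, j₁ * j₁ = 1 ∧ φ j₁ = φ u * d₁ := by
    rcases hvv with h1 | h1
    · exact ⟨v, h1, hφv⟩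
    · refine ⟨v * w, ?_, by rw [map_mul, h.ker, mul_one, hφv]⟩
      calc v * w * (v * w) = v * (w * v) * w := by group
        _ = (v * v) * (w * w) := by rw [← hvw]; group
        _ = 1 := by rw [h1, h.sq, h.tt]
  refine ⟨c'⁻¹ * j₁ * c', ?_, ?_, ?_, ?_⟩
  · calc c'⁻¹ * j₁ * c' * (c'⁻¹ * j₁ * c') = c'⁻¹ * (j₁ * j₁) * c' := by group
      _ = 1 := by rw [hj₁]; group
  · intro h1
    apply hd₁ne
    rw [← hφj₁]
    have : j₁ = c' * (c'⁻¹ * j₁ * c') * c'⁻¹ := by group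
    rw [this, h1, mul_one, mul_inv_cancel, map_one]
  · intro h1
    apply hd₁ne
    rw [← hφj₁]
    have : j₁ = c' * (c'⁻¹ * j₁ * c') * c'⁻¹ := by group
    rw [this, h1, map_mul, map_mul, h.ker_t, mul_one, ← map_mul, mul_inv_cancel, map_one]
  · rw [map_mul, map_mul, hφj₁, map_inv, hd₁]
    calc (φ c')⁻¹ * (φ u * (φ c' * d * (φ c')⁻¹)) * φ c'
        = (φ c')⁻¹ * (φ u * φ c') * d := by group
      _ = (φ c')⁻¹ * (φ c' * φ u) * d := by rw [hcu.eq]
      _ = φ u * d := by group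

/-- **The hypotheses of the Aschbacher criterion.** -/
theorem setup [Finite R] [Finite X] (h : Data Ω φ w t) (htr : ∀ a b : Ω, ∃ g : R, φ g • a = b)
    {u : R} (T : Sylow 2 R) (huT : u ∈ T) (hu : u * u = 1) (hu1 : u ≠ 1) (hut : u ≠ t)
    (hconj : ∀ s ∈ T, s * u * s⁻¹ = u ∨ s * u * s⁻¹ = u * t) :
    Cfsg.Agent.AschCrit.Basic.Setup X Ω (φ u) where
  invol := h.orderOf_map hu hu1 hut
  central := by
    have hp : Fact (Nat.Prime 2) := ⟨Nat.prime_two⟩
    refine ⟨T.mapSurjective h.surj, ?_, ?_⟩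
    · show φ u ∈ ((T.mapSurjective h.surj : Sylow 2 X) : Subgroup X)
      rw [Sylow.coe_mapSurjective]
      exact ⟨u, huT, rfl⟩
    · intro s hs
      have h1 : s ∈ ((T.mapSurjective h.surj : Sylow 2 X) : Subgroup X) := hs
      rw [Sylow.coe_mapSurjective] at h1
      obtain ⟨r, hr, rfl⟩ := h1
      show φ r * φ u = φ u * φ r
      have h1 : φ (r * u * r⁻¹) = φ u := by
        rcases hconj r hr with h2 | h2
        · rw [h2]
        · rw [h2, map_mul, h.ker_t, mul_one]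
      calc φ r * φ u = φ (r * u * r⁻¹) * φ r := by
            rw [map_mul, map_mul, map_inv, inv_mul_cancel_right]
        _ = φ u * φ r := by rw [h1]
  nontriv := h.nontriv
  trans := fun a b => by
    obtain ⟨g, hg⟩ := htr a b
    exact ⟨φ g, hg⟩
  exists_fix := (h.one u hu hu1 hut).exists
  fix_unique := h.uniq_map hu hu1 hut
  comm := by
    intro g hgc hgne c hc a ha
    obtain ⟨j, hj, hj1, hjt, hφj⟩ := exists_lift h T huT hu hconj
      (isConj_iff.mpr ⟨g, rfl⟩) hgc hgne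
    rw [← hφj] at hc
    have h1 : Commute (φ j) (φ u) := by
      rw [hφj]
      exact (Commute.refl _).mul_left hgc.symm
    have h2 : φ j • a = a := by
      refine h.uniq_map hu hu1 hut _ _ ?_ ha
      rw [smul_smul, ← h1.eq, mul_smul, ha]
    refine h.uniq_map hj hj1 hjt _ _ ?_ h2
    rw [smul_smul, ← hc.eq, mul_smul, h2]

/-- `O(X) = 1` -/
theorem core_eq_bot [Finite X] (h : Data Ω φ w t) {z : X}
    (hS : Cfsg.Agent.AschCrit.Basic.Setup X Ω z) {f f' : R} (hf : f ∈ CInv w t)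
    (hf' : f' ∈ CInv w t) (hc : f * f' * f⁻¹ * f'⁻¹ ∈ zpowers w) (hne : f' ≠ f)
    (hne' : f' ≠ f * t) : pPrimeCore 2 X = ⊥ := by
  have hφne := h.map_ne hf hf' hc hne hne'
  have hcomm : Commute (φ f) (φ f') := by
    obtain ⟨k, hk⟩ := mem_zpowers_iff.mp hc
    have h1 : φ (f * f' * f⁻¹ * f'⁻¹) = 1 := by rw [← hk, map_zpow, h.ker, one_zpow]
    rw [map_mul, map_mul, map_mul, map_inv, map_inv] at h1
    show φ f * φ f' = φ f' * φ f
    calc φ f * φ f' = (φ f * φ f' * (φ f)⁻¹ * (φ f')⁻¹) * (φ f' * φ f) := by group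
      _ = φ f' * φ f := by rw [h1, one_mul]
  obtain ⟨f1, f2, f3, f4⟩ := hf
  obtain ⟨f1', f2', f3', f4'⟩ := hf'
  have hfi : f⁻¹ = f := inv_eq_of_mul_eq_one_left f1
  have hfi' : f'⁻¹ = f' := inv_eq_of_mul_eq_one_left f1'
  obtain ⟨a, ha⟩ := (h.one f f1 f2 f3).exists
  have hfix : ∀ {i : R}, i * i = 1 → i ≠ 1 → i ≠ t → φ i • a = a → ∀ c : X, Commute c (φ i) →
      c • a = a := by
    intro i h1 h2 h3 hi c hc
    refine h.uniq_map h1 h2 h3 _ _ ?_ hi
    rw [smul_smul, ← hc.eq, mul_smul, hi]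
  have ha' : φ f' • a = a := hfix f1 f2 f3 ha _ hcomm.symm
  -- the involution `j` with image `φ f * φ f'`
  have hprod1 : φ f * φ f' ≠ 1 := by
    intro h1
    apply hφne
    have : φ f' = φ f * (φ f * φ f') := by
      rw [← mul_assoc, ← map_mul, f1, map_one, one_mul]
    rw [this, h1, mul_one]
  have hvw : f * f' * w = w * (f * f') := by
    calc f * f' * w = f * (f' * w) := by group
      _ = (f * w) * f' := by rw [f4']; group
      _ = w * (f * f') := by rw [f4]; group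
  have hvv : (f * f') * (f * f') = 1 ∨ (f * f') * (f * f') = t := by
    set v := f * f' with hv
    have hfv : f * v = v⁻¹ * f := by
      have : v⁻¹ = f' * f := by rw [hv, mul_inv_rev, hfi, hfi']
      rw [this, hv, ← mul_assoc, f1, one_mul, mul_assoc, f1, mul_one]
    have hvvz : v * v ∈ zpowers w := by
      have : v * v = f * f' * f⁻¹ * f'⁻¹ := by rw [hfi, hfi', hv]; group
      rw [this]; exact hc
    have hfvv : f * (v * v) = (v * v)⁻¹ * f := by
      calc f * (v * v) = (f * v) * v := by group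
        _ = (v⁻¹ * f) * v := by rw [hfv]
        _ = v⁻¹ * (f * v) := by group
        _ = v⁻¹ * (v⁻¹ * f) := by rw [hfv]
        _ = (v * v)⁻¹ * f := by group
    have hcm : f * (v * v) = (v * v) * f := by
      obtain ⟨k, hk⟩ := mem_zpowers_iff.mp hvvz
      rw [← hk]
      exact ((show Commute f w from f4).zpow_right k).eq
    have h4 : (v * v) * (v * v) = 1 := by
      have h5 : (v * v)⁻¹ = v * v := mul_right_cancel (hfvv.symm.trans hcm)
      calc (v * v) * (v * v) = (v * v)⁻¹ * (v * v) := by rw [h5]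
        _ = 1 := inv_mul_cancel _
    refine h.ker_uniq ?_ h4
    obtain ⟨k, hk⟩ := mem_zpowers_iff.mp hvvz
    rw [← hk, map_zpow, h.ker, one_zpow]
  obtain ⟨j, hj, hφj⟩ : ∃ j : R, j * j = 1 ∧ φ j = φ f * φ f' := by
    rcases hvv with h1 | h1
    · exact ⟨f * f', h1, map_mul _ _ _⟩
    · refine ⟨f * f' * w, ?_, by rw [map_mul, h.ker, mul_one, map_mul]⟩
      calc f * f' * w * (f * f' * w) = f * f' * (w * (f * f')) * w := by group
        _ = (f * f') * (f * f') * (w * w) := by rw [← hvw]; group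
        _ = 1 := by rw [h1, h.sq, h.tt]
  have hj1 : j ≠ 1 := by rintro rfl; exact hprod1 (by rw [← hφj, map_one])
  have hjt : j ≠ t := by
    intro h1
    apply hprod1
    rw [← hφj, h1, h.ker_t]
  have haj : φ j • a = a := by rw [hφj, mul_smul, ha', ha]
  have hodd : Odd (Nat.card (pPrimeCore 2 X)) :=
    Nat.coprime_two_right.mp (Cfsg.Agent.Lib.Cores.pPrimeCore_coprime 2)
  have hn : (pPrimeCore 2 X).Normal := Cfsg.Agent.Lib.Cores.pPrimeCore_normal 2
  have hle : pPrimeCore 2 X ≤ MulAction.stabilizer X a := by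
    refine Cfsg.Agent.Lib.KleinGen.le_of_klein _ _ hodd (φ f) (φ f')
      (by rw [← map_mul, f1, map_one]) (by rw [← map_mul, f1', map_one]) hcomm.eq
      (fun g hg => hn.conj_mem g hg _) (fun g hg => hn.conj_mem g hg _) ?_ ?_ ?_
    · rintro g ⟨-, hg⟩
      exact hfix f1 f2 f3 ha g (mem_centralizer_singleton_iff.mp hg)
    · rintro g ⟨-, hg⟩
      exact hfix f1' f2' f3' ha' g (mem_centralizer_singleton_iff.mp hg)
    · rintro g ⟨-, hg⟩
      rw [← hφj] at hg
      exact hfix hj hj1 hjt haj g (mem_centralizer_singleton_iff.mp hg)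
  exact Cfsg.Agent.TwoGenCore.GenCrit.eq_bot_of_normal hS h.faithful hn (a := a)
    (fun g hg => hle hg)

/-- the output of the criterion -/
theorem exists_ldata {X : Type v} [Group X] [MulAction X Ω] [Finite R] [Finite X] {φ : R →* X}
    (hAC : Cfsg.Agent.TwoGenCore.GenCrit.CritHolds.{v})
    (h : Data Ω φ w t) (htr : ∀ a b : Ω, ∃ g : R, φ g • a = b)
    {u : R} (T : Sylow 2 R) (huT : u ∈ T) (hu : u * u = 1) (hu1 : u ≠ 1) (hut : u ≠ t)
    (hconj : ∀ s ∈ T, s * u * s⁻¹ = u ∨ s * u * s⁻¹ = u * t) {f f' : R} (hf : f ∈ CInv w t)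
    (hf' : f' ∈ CInv w t) (hc : f * f' * f⁻¹ * f'⁻¹ ∈ zpowers w) (hne : f' ≠ f)
    (hne' : f' ≠ f * t) : ∃ L : Subgroup X, LData Ω L (φ u) := by
  have hS := setup h htr T huT hu hu1 hut hconj
  obtain ⟨L, h1, h2, h3, -, h5, h6, h7, h8, h9⟩ :=
    Cfsg.Agent.TwoGenCore.GenCrit.main hAC hS h.faithful (core_eq_bot h hS hf hf' hc hne hne')
  exact ⟨L, ⟨h1, h2, h3, h5, h6, h7, h8, h9⟩⟩

end Cfsg.Agent.TwoGenCore.W1Setup
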