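import Cfsg.Agent.TwoGenCore.W2Base
import Cfsg.Agent.S0112
import Cfsg.Agent.S0113

/-!
# S1728, section 5: elementary lemmas about `Base D t`

* `conj_of_odd`, `exists_syl`, `exists_pow` : general facts;
* `fix_of_conj`, `fix_unique`, `exists_fix`, `exists_sylow_fix` : fixed points of 2-subgroups;
* `exists_commuting_inv` : an element of square `t` of a Sylow 2-subgroup commutes with an involution
  other than `t` of it;
* `trans_of_inv`, `trans_centralizer` : transitivity on fixed points.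
-/

set_option autoImplicit false

namespace Cfsg.Agent.TwoGenCore.W2Lem

open Cfsg.Agent.TwoGenCore.W2Base
open scoped Pointwise

section General

variable {G : Type*} [Group G]

/-- Two involutions with product of odd order are conjugate by a power of the product. -/
theorem conj_of_odd {a b : G} (ha : a * a = 1) (hb : b * b = 1) (h : Odd (orderOf (a * b))) :
    ∃ g ∈ Subgroup.zpowers (a * b), g * b * g⁻¹ = a := by
  obtain ⟨k, hk⟩ := h
  refine ⟨(a * b) ^ (k + 1), Subgroup.pow_mem _ (Subgroup.mem_zpowers _) _, ?_⟩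
  have hb' : b⁻¹ = b := by rw [inv_eq_iff_mul_eq_one]; exact hb
  have ha' : a⁻¹ = a := by rw [inv_eq_iff_mul_eq_one]; exact ha
  have h1 : b * (a * b) * b⁻¹ = (a * b)⁻¹ := by
    rw [mul_inv_rev, ha', hb', mul_assoc, mul_assoc, hb, mul_one]
  have h2 : ∀ n : ℕ, b * ((a * b) ^ n)⁻¹ = (a * b) ^ n * b := by
    intro n
    have h3 : b * (a * b) ^ n * b⁻¹ = ((a * b) ^ n)⁻¹ := by
      rw [← conj_pow, h1, inv_pow]
    rw [← h3, hb']
    have : b * (b * (a * b) ^ n * b) = (b * b) * (a * b) ^ n * b := by group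
    rw [this, hb, one_mul]
  rw [mul_assoc, h2, ← mul_assoc, ← pow_add]
  have h4 : k + 1 + (k + 1) = orderOf (a * b) + 1 := by omega
  rw [h4, pow_succ, pow_orderOf_eq_one, one_mul, mul_assoc, hb, mul_one]

/-- Sylow's theorem relative to a subgroup `H`. -/
theorem exists_syl [Finite G] (H T0 : Subgroup G) (h0 : T0 ≤ H) (hp : IsPGroup 2 T0) :
    ∃ T : Subgroup G, T0 ≤ T ∧ T ≤ H ∧ IsPGroup 2 T ∧
      ∀ Q : Subgroup G, Q ≤ H → IsPGroup 2 Q → ∃ h ∈ H, ∀ q ∈ Q, h * q * h⁻¹ ∈ T := by
  have hp' : IsPGroup 2 (T0.subgroupOf H) :=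
    hp.of_injective ((Subgroup.subgroupOfEquivOfLe h0).toMonoidHom)
      (Subgroup.subgroupOfEquivOfLe h0).injective
  obtain ⟨P, hP⟩ := hp'.exists_le_sylow
  refine ⟨(P : Subgroup H).map H.subtype, ?_, Subgroup.map_subtype_le _, P.isPGroup'.map _, ?_⟩
  · intro x hx
    exact ⟨⟨x, h0 hx⟩, hP (Subgroup.mem_subgroupOf.mpr hx), rfl⟩
  · intro Q hQ hQp
    have hQ' : IsPGroup 2 (Q.subgroupOf H) :=
      hQp.of_injective ((Subgroup.subgroupOfEquivOfLe hQ).toMonoidHom)
        (Subgroup.subgroupOfEquivOfLe hQ).injective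
    obtain ⟨P', hP'⟩ := hQ'.exists_le_sylow
    obtain ⟨h, hh⟩ := MulAction.exists_smul_eq H P' P
    refine ⟨h, h.2, fun q hq => ?_⟩
    refine ⟨h * ⟨q, hQ hq⟩ * h⁻¹, ?_, rfl⟩
    have h1 : (⟨q, hQ hq⟩ : H) ∈ (P' : Subgroup H) := hP' (Subgroup.mem_subgroupOf.mpr hq)
    have h2 : h * ⟨q, hQ hq⟩ * h⁻¹ ∈ (h • P' : Sylow 2 H) := by
      exact Subgroup.smul_mem_pointwise_smul _ (MulAut.conj h) _ h1
    rw [hh] at h2
    exact h2

/-- Power of `x` just outside of the set defined by `P`. -/
theorem exists_pow (P : G → Prop) (n : ℕ) : ∀ x : G, P (x ^ (2 ^ n)) → ¬ P x →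
    ∃ k : ℕ, ¬ P (x ^ k) ∧ P (x ^ k * x ^ k) := by
  induction n with
  | zero =>
    intro x h hx
    exact absurd (by simpa using h) hx
  | succ n ih =>
    intro x h hx
    by_cases h1 : P (x * x)
    · exact ⟨1, by simpa using hx, by simpa using h1⟩
    · have h2 : P ((x * x) ^ (2 ^ n)) := by
        rw [← pow_two, ← pow_mul, ← pow_succ']; exact h
      obtain ⟨k, hk1, hk2⟩ := ih (x * x) h2 h1
      refine ⟨2 * k, ?_, ?_⟩
      · rw [pow_mul, pow_two]; exact hk1
      · rw [pow_mul, pow_two]; exact hk2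

theorem isPGroup_zpowers {x : G} (n : ℕ) (h : x ^ (2 ^ n) = 1) : IsPGroup 2 (Subgroup.zpowers x) := by
  rintro ⟨_, k, rfl⟩
  refine ⟨n, Subtype.ext ?_⟩
  change (x ^ k) ^ (2 ^ n) = 1
  rw [← zpow_natCast, ← zpow_mul, mul_comm, zpow_mul, zpow_natCast, h, one_zpow]

theorem mem_smul_sylow_iff [Finite G] (S : Sylow 2 G) (g x : G) :
    x ∈ (g • S : Sylow 2 G) ↔ g⁻¹ * x * g ∈ S := by
  constructor
  · intro hx
    have h1 : x ∈ MulAut.conj g • (S : Subgroup G) := hx
    rw [Subgroup.mem_pointwise_smul_iff_inv_smul_mem] at h1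
    have h2 : (MulAut.conj g)⁻¹ • x = g⁻¹ * x * g := by
      rw [← map_inv, MulAut.smul_def, MulAut.conj_apply, inv_inv]
    rw [h2] at h1
    exact h1
  · intro hx
    change x ∈ MulAut.conj g • (S : Subgroup G)
    rw [Subgroup.mem_pointwise_smul_iff_inv_smul_mem]
    have h2 : (MulAut.conj g)⁻¹ • x = g⁻¹ * x * g := by
      rw [← map_inv, MulAut.smul_def, MulAut.conj_apply, inv_inv]
    rw [h2]
    exact hx

theorem exists_pow_eq_one {T : Subgroup G} (hT : IsPGroup 2 T) {x : G} (hx : x ∈ T) :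
    ∃ n : ℕ, x ^ (2 ^ n) = 1 := by
  obtain ⟨n, hn⟩ := hT ⟨x, hx⟩
  exact ⟨n, congrArg Subtype.val hn⟩

end General

variable {Y : Type*} [Group Y] {D : Type*} [MulAction Y D] {t : Y}

theorem smul_mul_t (hB : Base D t) (g : Y) (a : D) : (g * t) • a = g • a := by
  rw [mul_smul, hB.triv]

theorem t_inv (hB : Base D t) : t⁻¹ = t := by
  rw [inv_eq_iff_mul_eq_one]; exact hB.sq

/-- `w⁻¹ = w t` for `w² = t`. -/
theorem inv_of_sq (hB : Base D t) {w : Y} (hw : w * w = t) : w⁻¹ = w * t := by
  rw [inv_eq_iff_mul_eq_one, ← mul_assoc, hw, hB.sq]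

theorem pow_four (hB : Base D t) {w : Y} (hw : w * w = t) : w ^ 4 = 1 := by
  have : w ^ 4 = (w * w) * (w * w) := by
    rw [show (4 : ℕ) = 2 + 2 from rfl, pow_add, pow_two]
  rw [this, hw, hB.sq]

theorem mem_zpowers_of_sq {w : Y} (hw : w * w = t) : t ∈ Subgroup.zpowers w := by
  rw [← hw]
  exact Subgroup.mul_mem _ (Subgroup.mem_zpowers w) (Subgroup.mem_zpowers w)

theorem mem_zpowers_iff_of_sq (hB : Base D t) {w x : Y} (hw : w * w = t) :
    x ∈ Subgroup.zpowers w ↔ x = 1 ∨ x = t ∨ x = w ∨ x = w * t := by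
  constructor
  · rintro ⟨k, rfl⟩
    have h4 : w ^ (4 : ℤ) = 1 := by exact_mod_cast pow_four hB hw
    have hk : w ^ k = w ^ (k % 4) := by
      conv_lhs => rw [← Int.emod_add_mul_ediv k 4]
      rw [zpow_add, zpow_mul, h4, one_zpow, mul_one]
    simp only
    rw [hk]
    have h0 : 0 ≤ k % 4 := Int.emod_nonneg _ (by norm_num)
    have h1 : k % 4 < 4 := Int.emod_lt_of_pos _ (by norm_num)
    interval_cases hm : k % 4
    · left; exact zpow_zero w
    · right; right; left; exact zpow_one w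
    · right; left
      rw [← hw]; exact_mod_cast pow_two w
    · right; right; right
      rw [← hw]
      exact_mod_cast pow_succ' w 2 |>.trans (by rw [pow_two])
  · have ht := mem_zpowers_of_sq hw
    rintro (rfl | rfl | rfl | rfl)
    · exact Subgroup.one_mem _
    · exact ht
    · exact Subgroup.mem_zpowers _
    · exact Subgroup.mul_mem _ (Subgroup.mem_zpowers _) ht

theorem fix_of_conj (hB : Base D t) {i g : Y} (hi : Inv t i)
    (h : g * i * g⁻¹ = i ∨ g * i * g⁻¹ = i * t) {a : D} (ha : i • a = a) : g • a = a := by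
  have h1 : (g * i * g⁻¹) • (g • a) = g • a := by
    rw [← mul_smul, inv_mul_cancel_right, mul_smul, ha]
  have h2 : i • (g • a) = g • a := by
    rcases h with h | h
    · rwa [h] at h1
    · rwa [h, smul_mul_t hB] at h1
  exact (hB.one i hi.1 hi.2.1 hi.2.2).unique h2 ha

theorem fix_unique (hB : Base D t) {i : Y} (hi : Inv t i) {a b : D} (ha : i • a = a)
    (hb : i • b = b) : a = b :=
  (hB.one i hi.1 hi.2.1 hi.2.2).unique ha hb

theorem exists_fix_inv (hB : Base D t) {i : Y} (hi : Inv t i) : ∃ a : D, i • a = a :=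
  (hB.one i hi.1 hi.2.1 hi.2.2).exists

/-- A 2-subgroup has a fixed point. -/
theorem exists_fix [Finite Y] (hB : Base D t) {T : Subgroup Y} (hT : IsPGroup 2 T) :
    ∃ a : D, ∀ s ∈ T, s • a = a := by
  obtain ⟨S, hS⟩ := hT.exists_le_sylow
  obtain ⟨e, -, he1, he2, he3, he⟩ := hB.four S
  have hi : Inv t e := ⟨he1, he2, he3⟩
  obtain ⟨a, ha⟩ := exists_fix_inv hB hi
  exact ⟨a, fun s hs => fix_of_conj hB hi (he s (hS hs)) ha⟩

/-- A 2-subgroup of `Y_a` lies in a Sylow 2-subgroup of `Y` contained in `Y_a`. -/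
theorem exists_sylow_fix [Finite Y] (hB : Base D t) {T : Subgroup Y} (hT : IsPGroup 2 T) {a : D}
    (ha : ∀ s ∈ T, s • a = a) : ∃ S : Sylow 2 Y, T ≤ S ∧ ∀ s ∈ S, s • a = a := by
  let S0 : Sylow 2 Y := default
  obtain ⟨b, hb⟩ := exists_fix hB S0.isPGroup'
  obtain ⟨g, hg⟩ := hB.trans b a
  have hS1 : ∀ s ∈ (g • S0 : Sylow 2 Y), s • a = a := by
    intro s hs
    have hs' : g⁻¹ * s * g ∈ S0 := by
      have h0 := (mem_smul_sylow_iff S0 g s).mp hs
      exact h0
    have := hb _ hs'
    have h2 : s • g • b = g • (g⁻¹ * s * g) • b := by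
      rw [← mul_smul, ← mul_smul]; congr 1; group
    rw [this] at h2
    rwa [hg] at h2
  obtain ⟨T1, h1, h2, h3, h4⟩ := exists_syl (MulAction.stabilizer Y a) ((g • S0 : Sylow 2 Y) : Subgroup Y)
    (fun s hs => MulAction.mem_stabilizer_iff.mpr (hS1 s hs)) (g • S0).isPGroup'
  have h5 : T1 = ((g • S0 : Sylow 2 Y) : Subgroup Y) := (g • S0).is_maximal' h3 h1
  obtain ⟨h, hh, hq⟩ := h4 T (fun s hs => MulAction.mem_stabilizer_iff.mpr (ha s hs)) hT
  refine ⟨h⁻¹ • (g • S0), ?_, ?_⟩
  · intro x hx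
    have h6 : h * x * h⁻¹ ∈ ((g • S0 : Sylow 2 Y) : Subgroup Y) := h5 ▸ hq x hx
    have h7 := Subgroup.smul_mem_pointwise_smul _ (MulAut.conj h⁻¹) _ h6
    have h8 : MulAut.conj h⁻¹ • (h * x * h⁻¹) = x := by
      rw [MulAut.smul_def, MulAut.conj_apply]; group
    rw [h8] at h7
    exact h7
  · intro s hs
    have hs' : h * s * h⁻¹ ∈ (g • S0 : Sylow 2 Y) := by
      have h0 := (mem_smul_sylow_iff (g • S0) h⁻¹ s).mp hs
      rwa [inv_inv] at h0
    have h9 := hS1 _ hs'
    have hh' : h • a = a := MulAction.mem_stabilizer_iff.mp hh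
    have h10 : h • s • a = h • a := by
      have : h • s • a = (h * s * h⁻¹) • h • a := by
        rw [← mul_smul, ← mul_smul]; congr 1; group
      rw [this, hh', h9]
    exact smul_left_cancel h h10

/-- `f₁ ∈ H` fixes `a`, `f₂ ∈ H` fixes `b`: then `a`, `b` are in the same `H`-orbit. -/
theorem trans_of_inv [Finite Y] (hB : Base D t) (H : Subgroup Y) {f₁ f₂ : Y} (h₁ : f₁ ∈ H)
    (h₂ : f₂ ∈ H) (i₁ : Inv t f₁) (i₂ : Inv t f₂) {a b : D} (ha : f₁ • a = a) (hb : f₂ • b = b) :
    ∃ g ∈ H, g • a = b := by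
  have e₁ : f₁ ^ (2 ^ 1) = 1 := by rw [pow_one, pow_two]; exact i₁.1
  have e₂ : f₂ ^ (2 ^ 1) = 1 := by rw [pow_one, pow_two]; exact i₂.1
  obtain ⟨T, hT1, hT2, hT3, hT4⟩ := exists_syl H (Subgroup.zpowers f₁)
    (by rw [Subgroup.zpowers_le]; exact h₁) (isPGroup_zpowers 1 e₁)
  obtain ⟨h, hh, hq⟩ := hT4 (Subgroup.zpowers f₂) (by rw [Subgroup.zpowers_le]; exact h₂)
    (isPGroup_zpowers 1 e₂)
  obtain ⟨c, hc⟩ := exists_fix hB hT3
  have hca : c = a := fix_unique hB i₁ (hc _ (hT1 (Subgroup.mem_zpowers _))) ha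
  subst hca
  have h3 : (h * f₂ * h⁻¹) • c = c := hc _ (hq _ (Subgroup.mem_zpowers _))
  refine ⟨h⁻¹, H.inv_mem hh, ?_⟩
  apply fix_unique hB i₂ _ hb
  have h4 : f₂ • h⁻¹ • c = h⁻¹ • (h * f₂ * h⁻¹) • c := by
    rw [← mul_smul, ← mul_smul]; congr 1; group
  rw [h4, h3]

/-- A 2-group `P` with three independent commuting involutions has no self-centralizing subgroup
of order 4. -/
theorem not_self_centralizing {P : Type*} [Group P] [Finite P] (hP : IsPGroup 2 P) {e f t : P}
    (he : e * e = 1) (hf : f * f = 1) (ht : t * t = 1) (hef : e * f = f * e) (het : e * t = t * e)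
    (hft : f * t = t * f) (he1 : e ≠ 1) (hf1 : f ≠ 1) (ht1 : t ≠ 1) (h1 : e ≠ t) (h2 : f ≠ t)
    (h3 : f ≠ e) (h4 : f ≠ e * t) (A : Subgroup P) (hA : Nat.card A = 2 ^ 2)
    (hC : Subgroup.centralizer (A : Set P) = A) : False := by
  obtain ⟨n, hn⟩ := IsPGroup.iff_card.mp hP
  have hcl := Cfsg.Agent.S0112.result n hn A hA hC
  have hn3 : 3 ≤ n := by
    by_contra hlt
    have hle : Nat.card P ≤ 4 := by
      rw [hn]
      calc 2 ^ n ≤ 2 ^ 2 := Nat.pow_le_pow_right (by norm_num) (by omega)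
        _ = 4 := by norm_num
    have h5 : ({1, e, f, t, e * t} : Set P).ncard = 5 := by
      rw [Set.ncard_insert_of_notMem, Set.ncard_insert_of_notMem, Set.ncard_insert_of_notMem,
        Set.ncard_pair]
      · intro h; apply he1
        calc e = e * t * t⁻¹ := by group
          _ = 1 := by rw [← h]; group
      · simp only [Set.mem_insert_iff, Set.mem_singleton_iff, not_or]
        exact ⟨h2, h4⟩
      · simp only [Set.mem_insert_iff, Set.mem_singleton_iff, not_or]
        refine ⟨Ne.symm h3, h1, ?_⟩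
        intro h; apply ht1
        calc t = e⁻¹ * (e * t) := by group
          _ = 1 := by rw [← h]; group
      · simp only [Set.mem_insert_iff, Set.mem_singleton_iff, not_or]
        refine ⟨Ne.symm he1, Ne.symm hf1, Ne.symm ht1, ?_⟩
        intro h; apply h1
        calc e = (e * t) * t⁻¹ := by group
          _ = t⁻¹ := by rw [← h, one_mul]
          _ = t := by rw [inv_eq_iff_mul_eq_one]; exact ht
    have h6 : ({1, e, f, t, e * t} : Set P).ncard ≤ Nat.card P := Set.ncard_le_card _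
    omega
  obtain ⟨C, hCc, hCi⟩ := Cfsg.Agent.S0113.result n hn3 hn hcl
  have huniq : ∀ x ∈ C, ∀ y ∈ C, x * x = 1 → y * y = 1 → x ≠ 1 → y ≠ 1 → x = y := by
    intro x hx y hy hxx hyy hx1 hy1
    by_contra hxy
    classical
    have : Fintype C := Fintype.ofFinite C
    have h7 := IsCyclic.card_pow_eq_one_le (α := C) (n := 2) (by norm_num)
    have h8 : ({1, ⟨x, hx⟩, ⟨y, hy⟩} : Finset C) ⊆
        Finset.univ.filter (fun a : C => a ^ 2 = 1) := by
      intro z hz
      simp only [Finset.mem_insert, Finset.mem_singleton] at hz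
      simp only [Finset.mem_filter, Finset.mem_univ, true_and]
      rcases hz with rfl | rfl | rfl
      · exact one_pow 2
      · exact Subtype.ext (by simpa [pow_two] using hxx)
      · exact Subtype.ext (by simpa [pow_two] using hyy)
    have h9 := Finset.card_le_card h8
    have h10 : ({1, ⟨x, hx⟩, ⟨y, hy⟩} : Finset C).card = 3 := by
      rw [Finset.card_eq_three]
      exact ⟨1, ⟨x, hx⟩, ⟨y, hy⟩, fun h => hx1 (congrArg Subtype.val h).symm,
        fun h => hy1 (congrArg Subtype.val h).symm, fun h => hxy (congrArg Subtype.val h), rfl⟩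
    omega
  have hmul : ∀ x y : P, x ∉ C → y ∉ C → x * y ∈ C := by
    intro x y hx hy
    rw [Subgroup.mul_mem_iff_of_index_two hCi]
    exact ⟨fun h => absurd h hx, fun h => absurd h hy⟩
  by_cases htC : t ∈ C
  · by_cases heC : e ∈ C
    · exact h1 (huniq e heC t htC he ht he1 ht1)
    · by_cases hfC : f ∈ C
      · exact h2 (huniq f hfC t htC hf ht hf1 ht1)
      · have hefC := hmul e f heC hfC
        have hne : e * f ≠ 1 := by
          intro h; apply h3
          calc f = e⁻¹ * (e * f) := by group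
            _ = e⁻¹ := by rw [h, mul_one]
            _ = e := by rw [inv_eq_iff_mul_eq_one]; exact he
        have hsq : e * f * (e * f) = 1 := by
          calc e * f * (e * f) = e * (f * e) * f := by group
            _ = (e * e) * (f * f) := by rw [← hef]; group
            _ = 1 := by rw [he, hf, one_mul]
        have := huniq _ hefC t htC hsq ht hne ht1
        apply h4
        calc f = (e * e) * f := by rw [he, one_mul]
          _ = e * (e * f) := by group
          _ = e * t := by rw [this]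
  · have key : ∀ x : P, x * x = 1 → x * t = t * x → x ≠ 1 → x ≠ t →
        ∃ y ∈ C, (y = x ∨ y = x * t) ∧ y * y = 1 ∧ y ≠ 1 := by
      intro x hx hxt hx1 hxt1
      by_cases hxC : x ∈ C
      · exact ⟨x, hxC, Or.inl rfl, hx, hx1⟩
      · refine ⟨x * t, hmul x t hxC htC, Or.inr rfl, ?_, ?_⟩
        · calc x * t * (x * t) = x * (t * x) * t := by group
            _ = (x * x) * (t * t) := by rw [← hxt]; group
            _ = 1 := by rw [hx, ht, one_mul]
        · intro h; apply hxt1
          calc x = (x * t) * t⁻¹ := by group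
            _ = t⁻¹ := by rw [h, one_mul]
            _ = t := by rw [inv_eq_iff_mul_eq_one]; exact ht
    obtain ⟨a, haC, ha, haa, ha1⟩ := key e he het he1 h1
    obtain ⟨b, hbC, hb, hbb, hb1⟩ := key f hf hft hf1 h2
    have hab := huniq a haC b hbC haa hbb ha1 hb1
    have htt : ∀ x : P, x * t * t = x := fun x => by rw [mul_assoc, ht, mul_one]
    rcases ha with rfl | rfl <;> rcases hb with rfl | rfl
    · exact h3 hab.symm
    · apply h4; rw [hab, htt]
    · exact h4 hab.symm
    · exact h3 (mul_right_cancel hab).symm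

/-- (5.2'): an element `w` of square `t` in a Sylow 2-subgroup `S` commutes with an involution of
`S` other than `t`. -/
theorem exists_commuting_inv [Finite Y] (hB : Base D t) (S : Sylow 2 Y) {w : Y} (hwS : w ∈ S)
    (hww : w * w = t) : ∃ f ∈ S, Inv t f ∧ f * w = w * f := by
  obtain ⟨e, heS, he1, he2, he3, he⟩ := hB.four S
  have hei : e⁻¹ = e := by rw [inv_eq_iff_mul_eq_one]; exact he1
  rcases he w hwS with h | h
  · refine ⟨e, heS, ⟨he1, he2, he3⟩, ?_⟩
    rw [mul_inv_eq_iff_eq_mul] at h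
    exact h.symm
  by_contra hno
  push Not at hno
  have htS : t ∈ S := by rw [← hww]; exact (S : Subgroup Y).mul_mem hwS hwS
  have hw1 : w ≠ 1 := by rintro rfl; exact hB.ne (by rw [← hww, one_mul])
  have hwt : w ≠ t := by
    intro h0; rw [h0] at hww
    exact hB.ne (by rw [hB.sq] at hww; exact hww.symm)
  have hew : e * w ≠ w * e := by
    intro h0
    rw [← h0, mul_inv_cancel_right] at h
    apply hB.ne
    calc t = e⁻¹ * (e * t) := by group
      _ = 1 := by rw [← h]; group
  -- centralizer of `w` in `S`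
  have key : ∀ g ∈ S, g * w = w * g → g * e = e * g → g = 1 ∨ g = t := by
    intro g hg hgw hge
    by_contra hcon
    obtain ⟨n, hn⟩ := exists_pow_eq_one S.isPGroup' hg
    obtain ⟨k, hk1, hk2⟩ := exists_pow (fun x => x = 1 ∨ x = t) n g (Or.inl hn) hcon
    set s := g ^ k with hs
    have hsS : s ∈ S := (S : Subgroup Y).pow_mem hg k
    have hsw : s * w = w * s := (Commute.pow_left (show Commute g w from hgw) k).eq
    have hse : s * e = e * s := (Commute.pow_left (show Commute g e from hge) k).eq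
    rcases hk2 with h2 | h2
    · exact hno s hsS ⟨h2, fun h => hk1 (Or.inl h), fun h => hk1 (Or.inr h)⟩ hsw
    · have h3 : s * w * (s * w) = 1 := by
        calc s * w * (s * w) = s * (w * s) * w := by group
          _ = (s * s) * (w * w) := by rw [← hsw]; group
          _ = 1 := by rw [h2, hww, hB.sq]
      have h4 : s * w * w = w * (s * w) := by rw [hsw, mul_assoc, hsw]
      by_cases h5 : s * w = 1
      · apply hew
        have : w = s⁻¹ := by rw [eq_inv_iff_mul_eq_one, ← hsw]; exact h5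
        rw [this]
        exact ((show Commute s e from hse).inv_left).eq.symm
      by_cases h6 : s * w = t
      · apply hew
        have : w = s⁻¹ * t := by rw [← h6]; group
        rw [this]
        have h7 : s⁻¹ * e = e * s⁻¹ := ((show Commute s e from hse).inv_left).eq
        rw [mul_assoc, ← hB.central e, ← mul_assoc, ← mul_assoc, h7]
      · exact hno (s * w) ((S : Subgroup Y).mul_mem hsS hwS) ⟨h3, h5, h6⟩ h4
  have hcent : ∀ g ∈ S, g * w = w * g → g ∈ Subgroup.zpowers w := by
    intro g hg hgw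
    have htw := mem_zpowers_of_sq hww
    rcases he g hg with h1 | h1
    · rw [mul_inv_eq_iff_eq_mul] at h1
      rcases key g hg hgw h1 with h2 | h2
      · rw [h2]; exact Subgroup.one_mem _
      · rw [h2]; exact htw
    · have h2 : g * w * e = e * (g * w) := by
        rw [mul_inv_eq_iff_eq_mul] at h h1
        calc g * w * e = g * (w * e) := by group
          _ = (g * e) * t * w := by rw [h]; group
          _ = e * (t * g) * t * w := by rw [h1]; group
          _ = e * g * (t * t) * w := by rw [← hB.central g]; group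
          _ = e * (g * w) := by rw [hB.sq]; group
      have h3 : g * w * w = w * (g * w) := by rw [hgw, mul_assoc, hgw]
      have h4 := key (g * w) ((S : Subgroup Y).mul_mem hg hwS) h3 h2
      have h5 : g * w ∈ Subgroup.zpowers w := by
        rcases h4 with h4 | h4
        · rw [h4]; exact Subgroup.one_mem _
        · rw [h4]; exact htw
      exact (Subgroup.mul_mem_cancel_right _ (Subgroup.mem_zpowers w)).mp h5
  obtain ⟨a, haS, b, hbS, haa, hbb, hab, ha1, hat, hb1, hbt, hba, hbat⟩ := hB.eight S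
  have how : orderOf w = 2 ^ 2 := by
    apply orderOf_eq_prime_pow
    · rw [pow_one, pow_two, hww]; exact hB.ne
    · exact pow_four hB hww
  refine not_self_centralizing (P := (S : Subgroup Y)) S.isPGroup' (e := ⟨a, haS⟩) (f := ⟨b, hbS⟩)
    (t := ⟨t, htS⟩) (Subtype.ext haa) (Subtype.ext hbb) (Subtype.ext hB.sq) (Subtype.ext hab)
    (Subtype.ext (hB.central a)) (Subtype.ext (hB.central b))
    (fun h => ha1 (congrArg Subtype.val h)) (fun h => hb1 (congrArg Subtype.val h))
    (fun h => hB.ne (congrArg Subtype.val h)) (fun h => hat (congrArg Subtype.val h))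
    (fun h => hbt (congrArg Subtype.val h)) (fun h => hba (congrArg Subtype.val h))
    (fun h => hbat (congrArg Subtype.val h)) (Subgroup.zpowers (⟨w, hwS⟩ : (S : Subgroup Y))) ?_ ?_
  · rw [Nat.card_zpowers, ← Subgroup.orderOf_coe]; exact how
  · apply le_antisymm
    · intro x hx
      rw [Subgroup.mem_centralizer_iff] at hx
      have h1 := hx _ (Subgroup.mem_zpowers _)
      have h2 : (x : Y) * w = w * x := (congrArg Subtype.val h1).symm
      obtain ⟨k, hk⟩ := hcent x x.2 h2
      exact ⟨k, Subtype.ext (by simpa using hk)⟩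
    · intro x hx
      rw [Subgroup.mem_centralizer_iff]
      rintro _ ⟨m, rfl⟩
      obtain ⟨k, rfl⟩ := hx
      exact (Commute.zpow_zpow (Commute.refl _) m k).eq

/-- (5.1): for `w² = t`, `C(w)` is transitive on the fixed points of `w`. -/
theorem trans_centralizer [Finite Y] (hB : Base D t) {w : Y} (hww : w * w = t) {a b : D}
    (ha : w • a = a) (hb : w • b = b) : ∃ g, g * w = w * g ∧ g • a = b := by
  have hw4 : w ^ (2 ^ 2) = 1 := by simpa using pow_four hB hww
  have key : ∀ c : D, w • c = c → ∃ f, Inv t f ∧ f * w = w * f ∧ f • c = c := by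
    intro c hc
    obtain ⟨S, hS1, hS2⟩ := exists_sylow_fix hB (isPGroup_zpowers 2 hw4) (a := c) (by
      rintro _ ⟨k, rfl⟩
      exact (MulAction.stabilizer Y c).zpow_mem (MulAction.mem_stabilizer_iff.mpr hc) k)
    obtain ⟨f, hfS, hf, hfw⟩ := exists_commuting_inv hB S (hS1 (Subgroup.mem_zpowers _)) hww
    exact ⟨f, hf, hfw, hS2 f hfS⟩
  obtain ⟨f₁, i₁, c₁, ha⟩ := key a ha
  obtain ⟨f₂, i₂, c₂, hb⟩ := key b hb
  obtain ⟨g, hg, hgab⟩ := trans_of_inv hB (Subgroup.centralizer {w})
    (Subgroup.mem_centralizer_singleton_iff.mpr c₁) (Subgroup.mem_centralizer_singleton_iff.mpr c₂)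
    i₁ i₂ ha hb
  exact ⟨g, Subgroup.mem_centralizer_singleton_iff.mp hg, hgab⟩

end Cfsg.Agent.TwoGenCore.W2Lem
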