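import Mathlib
import Cfsg.Prelude.Def_Involutions

/-!
# S1728, section 5: the common hypotheses for the centre `t` of `Y` acting on `D`

`Y` is the group `C_G(t)`, or its quotient by its odd core; `D` is the set of points of one orbit fixed by `t`.
`Base D t` collects what is used in 5A, 5B and (5.4)-(5.8); `Bad D t w` says that `w` is an element
of order 4 with square `t` having two fixed points, `BadInv D t w` that moreover some involution
other than `t` inverts `w`, `NonIso t w` that `C(w)` contains a pair of involutions which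
obstructs the Z*-theorem in `C(w)/⟨w⟩`.
-/

set_option autoImplicit false

namespace Cfsg.Agent.TwoGenCore.W2Base

/-- `i` is an involution other than `t`. -/
def Inv {Y : Type*} [Group Y] (t i : Y) : Prop := i * i = 1 ∧ i ≠ 1 ∧ i ≠ t

structure Base {Y : Type*} [Group Y] (D : Type*) [MulAction Y D] (t : Y) : Prop where
  central : ∀ g : Y, g * t = t * g
  ne : t ≠ 1
  sq : t * t = 1
  triv : ∀ a : D, t • a = a
  one : ∀ i : Y, i * i = 1 → i ≠ 1 → i ≠ t → ∃! a : D, i • a = a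
  trans : ∀ a b : D, ∃ g : Y, g • a = b
  nontriv : ∃ a b : D, a ≠ b
  conj : ∀ i : Y, i * i = 1 → i ≠ 1 → i ≠ t → IsConj i (i * t)
  eight : ∀ S : Sylow 2 Y, ∃ e ∈ S, ∃ f ∈ S, e * e = 1 ∧ f * f = 1 ∧ e * f = f * e ∧
    e ≠ 1 ∧ e ≠ t ∧ f ≠ 1 ∧ f ≠ t ∧ f ≠ e ∧ f ≠ e * t
  four : ∀ S : Sylow 2 Y, ∃ e ∈ S, e * e = 1 ∧ e ≠ 1 ∧ e ≠ t ∧
    ∀ s ∈ S, s * e * s⁻¹ = e ∨ s * e * s⁻¹ = e * t

def Bad {Y : Type*} [Group Y] (D : Type*) [MulAction Y D] (t w : Y) : Prop :=
  w * w = t ∧ ∃ a b : D, a ≠ b ∧ w • a = a ∧ w • b = b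

def BadInv {Y : Type*} [Group Y] (D : Type*) [MulAction Y D] (t w : Y) : Prop :=
  Bad D t w ∧ ∃ i : Y, Inv t i ∧ i * w * i⁻¹ = w⁻¹

def NonIso {Y : Type*} [Group Y] (t w : Y) : Prop :=
  ∃ f f' : Y, Inv t f ∧ Inv t f' ∧ f * w = w * f ∧ f' * w = w * f' ∧
    f * f' * f⁻¹ * f'⁻¹ ∈ Subgroup.zpowers w ∧ f' ≠ f ∧ f' ≠ f * t

variable {Y : Type*} [Group Y] {D : Type*} [MulAction Y D] {t : Y}

theorem Inv.inv_eq {i : Y} (h : Inv t i) : i⁻¹ = i := by
  rw [inv_eq_iff_mul_eq_one]; exact h.1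

theorem Inv.orderOf {i : Y} (h : Inv t i) : orderOf i = 2 :=
  orderOf_eq_prime (by rw [pow_two]; exact h.1) h.2.1

theorem Inv.conj {i : Y} (h : Inv t i) (ht : ∀ g : Y, g * t = t * g) (g : Y) :
    Inv t (g * i * g⁻¹) := by
  refine ⟨?_, ?_, ?_⟩
  · have h1 := h.1
    calc g * i * g⁻¹ * (g * i * g⁻¹) = g * (i * i) * g⁻¹ := by group
      _ = 1 := by rw [h1]; group
  · intro h1
    apply h.2.1
    have : i = g⁻¹ * (g * i * g⁻¹) * g := by group
    rw [this, h1]; group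
  · intro h1
    apply h.2.2
    have : i = g⁻¹ * (g * i * g⁻¹) * g := by group
    rw [this, h1, mul_assoc, ← ht g]; group

theorem Inv.mul_t {i : Y} (h : Inv t i) (hB : Base D t) : Inv t (i * t) := by
  refine ⟨?_, ?_, ?_⟩
  · calc i * t * (i * t) = i * (t * i) * t := by group
      _ = (i * i) * (t * t) := by rw [← hB.central i]; group
      _ = 1 := by rw [h.1, hB.sq, one_mul]
  · intro h1
    apply h.2.2
    calc i = (i * t) * t := by rw [mul_assoc, hB.sq, mul_one]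
      _ = t := by rw [h1, one_mul]
  · intro h1
    apply h.2.1
    calc i = (i * t) * t := by rw [mul_assoc, hB.sq, mul_one]
      _ = t * t := by rw [h1]
      _ = 1 := hB.sq

end Cfsg.Agent.TwoGenCore.W2Base
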