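import Mathlib
import Cfsg.Agent.TwoGenCore.W2Lem
import Cfsg.Agent.TwoGenCore.W1Red
import Cfsg.Agent.TwoGenCore.W1Setup
import Cfsg.Agent.TwoGenNine.RawFive

/-!
# S1728, 5A: `BadInv` and `NonIso` give `RawFive`
-/

set_option autoImplicit false

open Subgroup

universe u v

namespace Cfsg.Agent.TwoGenCore.W1

open Cfsg.Agent.TwoGenCore.W2Base (Inv Base Bad BadInv NonIso)
open Cfsg.Agent.TwoGenCore.W1Abs
open Cfsg.Agent.TwoGenNine.RawFive

section Act

variable {Y : Type u} [Group Y]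

/-- the elements centralising or inverting `w` -/
def NW (w : Y) : Subgroup Y where
  carrier := {g | g * w * g⁻¹ = w ∨ g * w * g⁻¹ = w⁻¹}
  one_mem' := by left; group
  mul_mem' := by
    intro a b ha hb
    have h1 : a * b * w * (a * b)⁻¹ = a * (b * w * b⁻¹) * a⁻¹ := by group
    have h2 : a * w⁻¹ * a⁻¹ = (a * w * a⁻¹)⁻¹ := by group
    show a * b * w * (a * b)⁻¹ = w ∨ a * b * w * (a * b)⁻¹ = w⁻¹
    rw [h1]
    rcases hb with hb | hb
    · rw [hb]; exact ha
    · rw [hb, h2]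
      rcases ha with ha | ha
      · right; rw [ha]
      · left; rw [ha, inv_inv]
  inv_mem' := by
    intro a ha
    show a⁻¹ * w * a⁻¹⁻¹ = w ∨ a⁻¹ * w * a⁻¹⁻¹ = w⁻¹
    rcases ha with ha | ha
    · left
      calc a⁻¹ * w * a⁻¹⁻¹ = a⁻¹ * (a * w * a⁻¹) * a := by rw [ha]; group
        _ = w := by group
    · right
      calc a⁻¹ * w * a⁻¹⁻¹ = (a⁻¹ * w⁻¹ * a)⁻¹ := by group
        _ = (a⁻¹ * (a * w * a⁻¹) * a)⁻¹ := by rw [ha]
        _ = w⁻¹ := by group

theorem mem_NW {w g : Y} : g ∈ NW w ↔ g * w * g⁻¹ = w ∨ g * w * g⁻¹ = w⁻¹ := Iff.rfl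

variable {D : Type v} [MulAction Y D]

/-- the fixed points of `w` -/
abbrev Om (D : Type v) [MulAction Y D] (w : Y) : Type v := {a : D // w • a = a}

theorem smul_mem {w g : Y} (hg : g ∈ NW w) {a : D} (ha : w • a = a) : w • (g • a) = g • a := by
  have h1 := (NW w).inv_mem hg
  rw [mem_NW, inv_inv] at h1
  have h2 : w • (g • a) = g • ((g⁻¹ * w * g) • a) := by
    rw [smul_smul, smul_smul]; congr 1; group
  rw [h2]
  rcases h1 with h1 | h1
  · rw [h1, ha]
  · rw [h1]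
    congr 1
    rw [inv_smul_eq_iff, ha]

def act (D : Type v) [MulAction Y D] (w : Y) : MulAction (NW w) (Om D w) where
  smul g a := ⟨(g : Y) • (a : D), smul_mem g.2 a.2⟩
  one_smul a := Subtype.ext (one_smul Y (a : D))
  mul_smul g k a := Subtype.ext (mul_smul (g : Y) (k : Y) (a : D))

/-- the permutation representation -/
def rep (D : Type v) [MulAction Y D] (w : Y) : NW w →* Equiv.Perm (Om D w) :=
  letI := act D w
  MulAction.toPermHom (NW w) (Om D w)

theorem rep_apply (w : Y) (g : NW w) (a : Om D w) : (rep D w g a : D) = (g : Y) • (a : D) := rfl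

/-- the faithful quotient -/
abbrev XX (D : Type v) [MulAction Y D] (w : Y) : Type u := (NW w) ⧸ (rep D w).ker

def XXact (D : Type v) [MulAction Y D] (w : Y) : MulAction (XX D w) (Om D w) :=
  MulAction.compHom (Om D w) (QuotientGroup.kerLift (rep D w))

end Act

section main

variable {Y : Type u} [Group Y] [Finite Y] {D : Type v} [MulAction Y D] {t w : Y}

/-- **5A.** -/
theorem rawFive (hAC : Cfsg.Agent.TwoGenCore.GenCrit.CritHolds.{u})
    (hBen : ∀ (K : Type u) [Group K] [Finite K], Cfsg.Agent.StrongEmb.Split.BenderHolds K)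
    (hB : Base D t) (hw : BadInv D t w) (hni : NonIso t w) : RawFive D t w := by
  have hp : Fact (Nat.Prime 2) := ⟨Nat.prime_two⟩
  obtain ⟨⟨hww, a₀, b₀, hab₀, ha₀, hb₀⟩, i₀, hi₀, hi₀w⟩ := id hw
  obtain ⟨f, f', hf, hf', hfw, hfw', hcomm, hne, hne'⟩ := id hni
  letI := XXact D w
  let φ : NW w →* XX D w := QuotientGroup.mk' (rep D w).ker
  have hφ : ∀ (g : NW w) (a : Om D w), ((φ g • a : Om D w) : D) = (g : Y) • (a : D) :=
    fun g a => rfl
  have hwi : w⁻¹ = w * t := Cfsg.Agent.TwoGenCore.W2Lem.inv_of_sq hB hww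
  -- elements of `NW`
  have hwN : w ∈ NW w := Or.inl (by group)
  have htN : t ∈ NW w := Or.inl (by rw [← hB.central]; group)
  have hfN : f ∈ NW w := Or.inl (by rw [hfw]; group)
  have hfN' : f' ∈ NW w := Or.inl (by rw [hfw']; group)
  have hiN : i₀ ∈ NW w := Or.inr hi₀w
  set w' : NW w := ⟨w, hwN⟩ with hw'
  set t' : NW w := ⟨t, htN⟩ with ht'
  have hnorm : ∀ g : NW w, g * w' * g⁻¹ = w' ∨ g * w' * g⁻¹ = w'⁻¹ := by
    intro g
    rcases g.2 with h1 | h1
    · exact Or.inl (Subtype.ext h1)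
    · exact Or.inr (Subtype.ext h1)
  -- an involution of `NW` normalises: `w i w⁻¹ ∈ {i, i t}`
  have hcj : ∀ i : Y, i * i = 1 → i ∈ NW w → w * i * w⁻¹ = i ∨ w * i * w⁻¹ = i * t := by
    intro i hii hi
    have hinv : i⁻¹ = i := inv_eq_of_mul_eq_one_left hii
    rcases hi with h1 | h1
    · left
      calc w * i * w⁻¹ = (i * w * i⁻¹) * i * w⁻¹ := by rw [h1]
        _ = i := by group
    · right
      have h2 : w = i * w⁻¹ * i := by
        calc w = (w⁻¹)⁻¹ := by group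
          _ = (i * w * i⁻¹)⁻¹ := by rw [h1]
          _ = i * w⁻¹ * i⁻¹ := by group
          _ = i * w⁻¹ * i := by rw [hinv]
      calc w * i * w⁻¹ = i * w⁻¹ * i * i * w⁻¹ := by rw [← h2]
        _ = i * w⁻¹ * (i * i) * w⁻¹ := by group
        _ = i * (w⁻¹ * w⁻¹) := by rw [hii]; group
        _ = i * t := by
          congr 1
          calc w⁻¹ * w⁻¹ = (w * w)⁻¹ := by group
            _ = t⁻¹ := by rw [hww]
            _ = t := Cfsg.Agent.TwoGenCore.W2Lem.t_inv hB
  have hD : Data (Om D w) φ w' t' :=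
    { surj := QuotientGroup.mk'_surjective _
      faithful := by
        intro x hx
        have h1 : QuotientGroup.kerLift (rep D w) x = 1 := Equiv.ext fun a => hx a
        exact QuotientGroup.kerLift_injective (rep D w) (by rw [h1, map_one])
      sq := Subtype.ext hww
      tt := Subtype.ext hB.sq
      ne := fun h1 => hB.ne (congrArg Subtype.val h1)
      ker := by
        refine (QuotientGroup.eq_one_iff _).mpr ?_
        rw [MonoidHom.mem_ker]
        exact Equiv.ext fun a => Subtype.ext a.2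
      norm := hnorm
      one := by
        rintro ⟨i, hiN⟩ h1 h2 h3
        have h1' : i * i = 1 := congrArg Subtype.val h1
        have hi : Inv t i := ⟨h1', fun h => h2 (Subtype.ext h), fun h => h3 (Subtype.ext h)⟩
        obtain ⟨a, ha, hu⟩ := hB.one i hi.1 hi.2.1 hi.2.2
        have hwa : w • a = a :=
          Cfsg.Agent.TwoGenCore.W2Lem.fix_of_conj hB hi (hcj i h1' hiN) ha
        refine ⟨⟨a, hwa⟩, Subtype.ext ha, ?_⟩
        rintro ⟨b, hb⟩ hbb
        exact Subtype.ext (hu b (congrArg Subtype.val hbb))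
      nontriv := ⟨⟨a₀, ha₀⟩, ⟨b₀, hb₀⟩, fun h => hab₀ (congrArg Subtype.val h)⟩ }
  have htr : ∀ a b : Om D w, ∃ g : NW w, φ g • a = b := by
    rintro ⟨a, ha⟩ ⟨b, hb⟩
    obtain ⟨g, hg, hgb⟩ := Cfsg.Agent.TwoGenCore.W2Lem.trans_centralizer hB hww ha hb
    exact ⟨⟨g, Or.inl (by rw [hg]; group)⟩, Subtype.ext hgb⟩
  have hCf : (⟨f, hfN⟩ : NW w) ∈ CInv w' t' :=
    ⟨Subtype.ext hf.1, fun h => hf.2.1 (congrArg Subtype.val h),
      fun h => hf.2.2 (congrArg Subtype.val h), Subtype.ext hfw⟩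
  have hCf' : (⟨f', hfN'⟩ : NW w) ∈ CInv w' t' :=
    ⟨Subtype.ext hf'.1, fun h => hf'.2.1 (congrArg Subtype.val h),
      fun h => hf'.2.2 (congrArg Subtype.val h), Subtype.ext hfw'⟩
  have hcomm' : (⟨f, hfN⟩ : NW w) * ⟨f', hfN'⟩ * (⟨f, hfN⟩ : NW w)⁻¹ * (⟨f', hfN'⟩ : NW w)⁻¹ ∈
      zpowers w' := by
    obtain ⟨k, hk⟩ := mem_zpowers_iff.mp hcomm
    exact mem_zpowers_iff.mpr ⟨k, Subtype.ext (by rw [Subgroup.coe_zpow]; exact hk)⟩
  have hneN : (⟨f', hfN'⟩ : NW w) ≠ ⟨f, hfN⟩ := fun h => hne (congrArg Subtype.val h)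
  have hneN' : (⟨f', hfN'⟩ : NW w) ≠ ⟨f, hfN⟩ * t' := fun h => hne' (congrArg Subtype.val h)
  -- the Sylow subgroup and `u`
  obtain ⟨T⟩ : Nonempty (Sylow 2 (NW w)) := inferInstance
  obtain ⟨S, hS⟩ := (T.isPGroup'.map (NW w).subtype).exists_le_sylow
  have hw'T : w' ∈ (T : Subgroup (NW w)) := by
    have hn : (zpowers w').Normal := by
      constructor
      rintro n ⟨k, rfl⟩ g
      show g * w' ^ k * g⁻¹ ∈ zpowers w'
      rw [← conj_zpow]
      rcases hnorm g with h1 | h1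
      · rw [h1]; exact zpow_mem (mem_zpowers _) k
      · rw [h1]; exact zpow_mem (inv_mem (mem_zpowers _)) k
    have hpg : IsPGroup 2 (zpowers w') := by
      refine Cfsg.Agent.TwoGenCore.W2Lem.isPGroup_zpowers 2 ?_
      apply Subtype.ext
      show w ^ (2 ^ 2) = 1
      exact Cfsg.Agent.TwoGenCore.W2Lem.pow_four hB hww
    exact hpg.le_sylow_of_normal T (mem_zpowers _)
  have hwS : w ∈ S := hS ⟨w', hw'T, rfl⟩
  obtain ⟨u, huS, hu1, hu2, hu3, hu⟩ := hB.four S
  have huN : u ∈ NW w := by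
    have hinv : u⁻¹ = u := inv_eq_of_mul_eq_one_left hu1
    rcases hu w hwS with h1 | h1
    · left
      have h2 : w * u = u * w := by
        calc w * u = w * u * w⁻¹ * w := by group
          _ = u * w := by rw [h1]
      rw [← h2]; group
    · right
      have h2 : w * u = u * t * w := by
        calc w * u = w * u * w⁻¹ * w := by group
          _ = u * t * w := by rw [h1]
      calc u * w * u⁻¹ = u * (w * u) := by rw [hinv]; group
        _ = u * (u * t * w) := by rw [h2]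
        _ = (u * u) * (t * w) := by group
        _ = t * w := by rw [hu1, one_mul]
        _ = w * t := (hB.central w).symm
        _ = w⁻¹ := hwi.symm
  have huT : (⟨u, huN⟩ : NW w) ∈ T := by
    have hle : (T : Subgroup (NW w)) ≤ (S : Subgroup Y).subgroupOf (NW w) := by
      intro x hx
      exact hS ⟨x, hx, rfl⟩
    have h2 : IsPGroup 2 ((S : Subgroup Y).subgroupOf (NW w)) := S.isPGroup'.comap_subtype
    have h3 := T.is_maximal' h2 hle
    have h4 : (⟨u, huN⟩ : NW w) ∈ (S : Subgroup Y).subgroupOf (NW w) := huS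
    rw [h3] at h4
    exact h4
  have hconjT : ∀ s ∈ T, s * (⟨u, huN⟩ : NW w) * s⁻¹ = ⟨u, huN⟩ ∨
      s * (⟨u, huN⟩ : NW w) * s⁻¹ = ⟨u, huN⟩ * t' := by
    intro s hs
    rcases hu s (hS ⟨s, hs, rfl⟩) with h1 | h1
    · exact Or.inl (Subtype.ext h1)
    · exact Or.inr (Subtype.ext h1)
  obtain ⟨L, hL⟩ := Cfsg.Agent.TwoGenCore.W1Setup.exists_ldata hAC hD htr T huT
    (Subtype.ext hu1) (fun h => hu2 (congrArg Subtype.val h))
    (fun h => hu3 (congrArg Subtype.val h)) hconjT hCf hCf' hcomm' hneN hneN'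
  obtain ⟨h5, -, O, hOn, hodd, hOφ, hOw, hOM⟩ := Cfsg.Agent.TwoGenCore.W1Red.main hD hL (hBen L)
    hCf hCf' hcomm' hneN hneN' (i₀ := ⟨i₀, hiN⟩) (Subtype.ext hi₀.1)
    (fun h => hi₀.2.1 (congrArg Subtype.val h)) (fun h => hi₀.2.2 (congrArg Subtype.val h))
    (Subtype.ext hi₀w)
  refine ⟨hw, hni, h5, ?_, O.map (NW w).subtype, ?_, ?_, ?_, ?_, ?_⟩
  · intro a b ha hb
    exact Cfsg.Agent.TwoGenCore.W2Lem.trans_centralizer hB hww ha hb
  · rw [card_map_of_injective (NW w).subtype_injective]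
    exact hodd
  · rintro g hg _ ⟨o, ho, rfl⟩
    exact ⟨⟨g, hg⟩ * o * ⟨g, hg⟩⁻¹, hOn.conj_mem o ho _, rfl⟩
  · rintro _ ⟨o, ho, rfl⟩
    exact congrArg Subtype.val (hOw o ho)
  · rintro _ ⟨o, ho, rfl⟩ a ha
    have h6 : (φ o • (⟨a, ha⟩ : Om D w)) = ⟨a, ha⟩ := by rw [hOφ o ho, one_smul]
    exact congrArg Subtype.val h6
  · intro m hm hmtriv
    have h6 : invGen t w ≤ (MM w' t').map (NW w).subtype := by
      unfold invGen
      rw [Subgroup.closure_le]
      rintro i ⟨hi, hiw⟩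
      refine ⟨⟨i, Or.inl (by rw [hiw]; group)⟩, Subgroup.subset_closure ?_, rfl⟩
      exact ⟨Subtype.ext hi.1, fun h => hi.2.1 (congrArg Subtype.val h),
        fun h => hi.2.2 (congrArg Subtype.val h), Subtype.ext hiw⟩
    obtain ⟨m', hm', rfl⟩ := h6 hm
    have h7 : φ m' = 1 := by
      apply hD.faithful
      rintro ⟨a, ha⟩
      exact Subtype.ext (hmtriv a ha)
    obtain ⟨o, ho, k, hk⟩ := hOM m' hm' h7
    refine ⟨o, ⟨o, ho, rfl⟩, k, ?_⟩
    rw [hk]
    rfl

end main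

end Cfsg.Agent.TwoGenCore.W1
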