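import Cfsg.Agent.TwoGenCore.W2Core
import Cfsg.Agent.Transfer.PGroupNormal
import Cfsg.Agent.Involutions.BaerSuzuki

/-!
# S1728, 5B: some bad `w'`, inverted by an involution `≠ t`, has `NonIso t w'`
-/

set_option autoImplicit false

namespace Cfsg.Agent.TwoGenCore.W2Main

open Cfsg Cfsg.Agent.TwoGenCore.W2Base Cfsg.Agent.TwoGenCore.W2Lem Cfsg.Agent.TwoGenCore.W2Core
open scoped Pointwise

/-- In a 2-group `T` with normal subgroups `M < N`, some element of `N ∖ M` is central of order 2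
modulo `M`. -/
theorem exists_central_mod {G : Type*} [Group G] [Finite G] {T N M : Subgroup G}
    (hT : IsPGroup 2 T) (hNT : N ≤ T) (hN : ∀ s ∈ T, ∀ n ∈ N, s * n * s⁻¹ ∈ N)
    (hM : ∀ s ∈ T, ∀ m ∈ M, s * m * s⁻¹ ∈ M) (hne : ∃ n ∈ N, n ∉ M) :
    ∃ n ∈ N, n ∉ M ∧ n * n ∈ M ∧ ∀ s ∈ T, s * n * s⁻¹ * n⁻¹ ∈ M := by
  have hM' : (M.subgroupOf T).Normal := ⟨fun m hm s => hM s s.2 m hm⟩
  have hN' : (N.subgroupOf T).Normal := ⟨fun m hm s => hN s s.2 m hm⟩
  let q : T →* T ⧸ M.subgroupOf T := QuotientGroup.mk' _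
  have hker : ∀ x : T, q x = 1 ↔ (x : G) ∈ M := by
    intro x
    rw [← MonoidHom.mem_ker, QuotientGroup.ker_mk', Subgroup.mem_subgroupOf]
  have hK : ((N.subgroupOf T).map q).Normal := hN'.map q (QuotientGroup.mk'_surjective _)
  have hKne : (N.subgroupOf T).map q ≠ ⊥ := by
    obtain ⟨n, hn, hnM⟩ := hne
    intro h
    have h1 : q ⟨n, hNT hn⟩ ∈ (N.subgroupOf T).map q := ⟨⟨n, hNT hn⟩, hn, rfl⟩
    rw [h, Subgroup.mem_bot, hker] at h1
    exact hnM h1
  have hQ : IsPGroup 2 (T ⧸ M.subgroupOf T) := hT.to_quotient _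
  obtain ⟨z, hz, hzc, hz2⟩ :=
    Transfer.PGroupNormal.exists_mem_inf_center_orderOf hQ _ hKne
  obtain ⟨n, hn, rfl⟩ := hz
  refine ⟨n, hn, ?_, ?_, ?_⟩
  · intro h
    rw [← hker] at h
    rw [h, orderOf_one] at hz2
    omega
  · have h1 : q n ^ 2 = 1 := by rw [← hz2, pow_orderOf_eq_one]
    rw [← map_pow, hker, pow_two] at h1
    exact h1
  · intro s hs
    have h1 := Subgroup.mem_center_iff.mp hzc (q ⟨s, hs⟩)
    have h2 : q (⟨s, hs⟩ * n * ⟨s, hs⟩⁻¹ * n⁻¹) = 1 := by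
      rw [map_mul, map_mul, map_mul, map_inv, map_inv, h1]; group
    exact (hker _).mp h2

section Perm

variable (Y : Type*) [Group Y] {D : Type*} [MulAction Y D]

/-- The setwise stabilizer of `Φ`. -/
def MP (Φ : Set D) : Subgroup Y where
  carrier := {g | ∀ a, g • a ∈ Φ ↔ a ∈ Φ}
  one_mem' := fun a => by rw [one_smul]
  mul_mem' := fun {g h} hg hh a => by rw [mul_smul, hg, hh]
  inv_mem' := fun {g} hg a => by rw [← hg (g⁻¹ • a), smul_inv_smul]

/-- The pointwise stabilizer of `Φ`. -/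
def KP (Φ : Set D) : Subgroup Y where
  carrier := {g | ∀ a ∈ Φ, g • a = a}
  one_mem' := fun a _ => one_smul _ _
  mul_mem' := fun {g h} hg hh a ha => by rw [mul_smul, hh a ha, hg a ha]
  inv_mem' := fun {g} hg a ha => by rw [inv_smul_eq_iff, hg a ha]

end Perm

variable {Y : Type*} [Group Y] {D : Type*} [MulAction Y D] {t : Y}

theorem mem_MP {Φ : Set D} {g : Y} : g ∈ MP Y Φ ↔ ∀ a, g • a ∈ Φ ↔ a ∈ Φ := Iff.rfl

theorem mem_KP {Φ : Set D} {g : Y} : g ∈ KP Y Φ ↔ ∀ a ∈ Φ, g • a = a := Iff.rfl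

theorem KP_conj {Φ : Set D} {g k : Y} (hg : g ∈ MP Y Φ) (hk : k ∈ KP Y Φ) :
    g * k * g⁻¹ ∈ KP Y Φ := by
  intro a ha
  have h1 : g⁻¹ • a ∈ Φ := by rw [mem_MP.mp ((MP Y Φ).inv_mem hg)]; exact ha
  rw [mul_smul, mul_smul, hk _ h1, smul_inv_smul]

theorem mem_MP_of_fix {Φ : Set D} {v g : Y} (hv : ∀ a : D, v • a = a ↔ a ∈ Φ)
    (h : g * v * g⁻¹ = v ∨ g * v * g⁻¹ = v * t) (hB : Base D t) : g ∈ MP Y Φ := by
  intro a
  rw [← hv, ← hv]
  have h1 : ∀ b : D, (g * v * g⁻¹) • b = v • b := by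
    intro b
    rcases h with h | h <;> rw [h]
    exact smul_mul_t hB v b
  rw [← h1, mul_smul, mul_smul, inv_smul_smul]
  exact ⟨fun h => smul_left_cancel g h, fun h => by rw [h]⟩

/-- `v` is bad, inverted by an involution `≠ t`, and `Φ` is the set of its fixed points. -/
def Good (t : Y) (Φ : Set D) (v : Y) : Prop := BadInv D t v ∧ ∀ a : D, v • a = a ↔ a ∈ Φ

theorem Good.sq {Φ : Set D} {v : Y} (h : Good t Φ v) : v * v = t := h.1.1.1

theorem Good.mem_KP {Φ : Set D} {v : Y} (h : Good t Φ v) : v ∈ KP Y Φ :=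
  fun a ha => (h.2 a).mpr ha

theorem Good.mul_t (hB : Base D t) {Φ : Set D} {v : Y} (h : Good t Φ v) : Good t Φ (v * t) := by
  obtain ⟨⟨⟨h1, a, b, hab, ha, hb⟩, i, hi, hiv⟩, h2⟩ := h
  have htc := hB.central
  refine ⟨⟨⟨?_, a, b, hab, ?_, ?_⟩, i, hi, ?_⟩, ?_⟩
  · rw [mul_assoc v t, ← mul_assoc t v t, ← htc v, mul_assoc v t t, hB.sq, mul_one, h1]
  · rw [smul_mul_t hB, ha]
  · rw [smul_mul_t hB, hb]
  · rw [← mul_assoc, mul_assoc (i * v), ← htc, ← mul_assoc, hiv, mul_inv_rev, t_inv hB, htc]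
  · intro a; rw [smul_mul_t hB, h2]

/-- Two points of `Φ` force the unique involution of `KP Φ` to be `t`. -/
theorem Good.eq_of_sq (hB : Base D t) {Φ : Set D} {v : Y} (h : Good t Φ v) {u : Y}
    (hu : u ∈ KP Y Φ) (huu : u * u = 1) : u = 1 ∨ u = t := by
  obtain ⟨⟨⟨h1, a, b, hab, ha, hb⟩, -⟩, h2⟩ := h
  by_contra hcon
  rw [not_or] at hcon
  apply hab
  exact fix_unique hB ⟨huu, hcon.1, hcon.2⟩ (hu a ((h2 a).mp ha)) (hu b ((h2 b).mp hb))

structure Quat (t : Y) (Φ : Set D) (v v' : Y) : Prop where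
  g1 : Good t Φ v
  g2 : Good t Φ v'
  g3 : Good t Φ (v * v')
  rel : v' * v = v * v' * t

theorem Quat.swap (hB : Base D t) {Φ : Set D} {v v' : Y} (h : Quat t Φ v v') : Quat t Φ v' v := by
  refine ⟨h.g2, h.g1, ?_, ?_⟩
  · rw [h.rel]; exact h.g3.mul_t hB
  · rw [h.rel, mul_assoc _ t t, hB.sq, mul_one]

theorem Quat.rot (hB : Base D t) {Φ : Set D} {v v' : Y} (h : Quat t Φ v v') :
    Quat t Φ (v * v') v := by
  have h1 : v * v' * v = v' := by
    rw [mul_assoc, h.rel, ← mul_assoc, ← mul_assoc, h.g1.sq, mul_assoc, hB.central, ← mul_assoc,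
      hB.sq, one_mul]
  have h2 : v * (v * v') = v' * t := by
    rw [← mul_assoc, h.g1.sq, hB.central]
  refine ⟨h.g3, h.g1, ?_, ?_⟩
  · rw [h1]; exact h.g2
  · rw [h1, h2]

/-- Existence of a quaternion group of good elements. -/
theorem exists_quat [Finite Y] (hB : Base D t) (hall : ∀ w : Y, BadInv D t w → ¬ NonIso t w)
    {w : Y} (hw : BadInv D t w) : ∃ (Φ : Set D) (v v' : Y), Quat t Φ v v' := by
  have hww := hw.1.1
  have hw4 : w ^ (2 ^ 2) = 1 := by simpa using pow_four hB hww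
  obtain ⟨S, hS⟩ := (isPGroup_zpowers 2 hw4).exists_le_sylow
  obtain ⟨f, -, hf, hfw⟩ := exists_commuting_inv hB S (hS (Subgroup.mem_zpowers w)) hww
  obtain ⟨i, hi, hiw⟩ := hw.2
  obtain ⟨n, hn, hp⟩ := exists_pair hB hw.1 (hall w hw) hf hfw hi hiw
  set g := n * f * n⁻¹
  have hp' := hp.mul_w hB hww
  refine ⟨{a | w • a = a}, w, g * i, ⟨hw, fun a => Iff.rfl⟩,
    ⟨hp.badInv hB hw.1 (hall w hw), fun a => hp.fix_iff hB hall hw a⟩, ?_, ?_⟩
  · have h1 : w * (g * i) = g * (w * i) := by rw [← mul_assoc, ← hp.fw, mul_assoc]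
    rw [h1]
    exact ⟨hp'.badInv hB hw.1 (hall w hw), fun a => hp'.fix_iff hB hall hw a⟩
  · calc g * i * w = g * (i * w) := by group
      _ = g * w * i * t := by rw [hp.wi hB hww]; group
      _ = w * (g * i) * t := by rw [hp.fw]; group

/-- Any involution `c ≠ t` commuting with `v` belongs to a pair. -/
theorem exists_pair' [Finite Y] (hB : Base D t) (hall : ∀ w : Y, BadInv D t w → ¬ NonIso t w)
    {v : Y} (hv : BadInv D t v) {c : Y} (hc : Inv t c) (hcv : c * v = v * c) :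
    ∃ i : Y, Pair t v c i := by
  obtain ⟨i, hi, hiw⟩ := hv.2
  obtain ⟨n, hn, hp⟩ := exists_pair hB hv.1 (hall v hv) hc hcv hi hiw
  have hvv := hv.1.1
  have hn' := conj_inv_eq hB hn
  refine ⟨n⁻¹ * i * n, hc, ?_, hcv, ?_, ?_⟩
  · have := hi.conj hB.central n⁻¹
    rwa [inv_inv] at this
  · have h1 : n * v⁻¹ * n⁻¹ = v⁻¹ ∨ n * v⁻¹ * n⁻¹ = v⁻¹ * t := by
      rcases hn with h | h
      · left
        rw [← conj_inv, h]
      · right
        rw [← conj_inv, h, mul_inv_rev, t_inv hB, hB.central]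
    have hx : n⁻¹ * i * n * v * (n⁻¹ * i * n)⁻¹ = n⁻¹ * (i * (n * v * n⁻¹) * i⁻¹) * n := by group
    rw [hx]
    rcases hn with h | h
    · have h2 : n * v⁻¹ * n⁻¹ = v⁻¹ := by rw [← conj_inv, h]
      rw [h, hiw]
      calc n⁻¹ * v⁻¹ * n = n⁻¹ * (n * v⁻¹ * n⁻¹) * n := by rw [h2]
        _ = v⁻¹ := by group
    · have h2 : n * v⁻¹ * n⁻¹ = v⁻¹ * t := by
        rw [← conj_inv, h, mul_inv_rev, t_inv hB, hB.central]
      have h3 : i * (v * t) * i⁻¹ = v⁻¹ * t := by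
        rw [← mul_assoc, mul_assoc (i * v), ← hB.central, ← mul_assoc, hiw]
      rw [h, h3]
      calc n⁻¹ * (v⁻¹ * t) * n = n⁻¹ * (n * v⁻¹ * n⁻¹) * n := by rw [h2]
        _ = v⁻¹ := by group
  · calc n⁻¹ * i * n * c * (n⁻¹ * i * n)⁻¹ = n⁻¹ * (i * (n * c * n⁻¹) * i⁻¹) * n := by group
      _ = n⁻¹ * (n * c * n⁻¹ * t) * n := by rw [hp.if']
      _ = c * (n⁻¹ * t) * n := by group
      _ = c * t := by rw [hB.central]; group

structure Ctx (t : Y) (Φ : Set D) (v v' : Y) (T : Subgroup Y) : Prop where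
  hB : Base D t
  hall : ∀ w : Y, BadInv D t w → ¬ NonIso t w
  q : Quat t Φ v v'
  vT : v ∈ T
  v'T : v' ∈ T
  TM : T ≤ MP Y Φ
  Tp : IsPGroup 2 T
  Ts : ∀ Q : Subgroup Y, Q ≤ MP Y Φ → IsPGroup 2 Q → ∃ h ∈ MP Y Φ, ∀ q ∈ Q, h * q * h⁻¹ ∈ T
  Tn : ∀ s ∈ T, s * v * s⁻¹ = v ∨ s * v * s⁻¹ = v * t

theorem exists_ctx [Finite Y] (hB : Base D t) (hall : ∀ w : Y, BadInv D t w → ¬ NonIso t w)
    {w : Y} (hw : BadInv D t w) : ∃ (Φ : Set D) (v v' : Y) (T : Subgroup Y), Ctx t Φ v v' T := by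
  obtain ⟨Φ, v, v', hq⟩ := exists_quat hB hall hw
  have hvv := hq.g1.sq
  have hv'v' := hq.g2.sq
  have hv'4 : v' ^ (2 ^ 2) = 1 := by simpa using pow_four hB hv'v'
  have hnorm : Subgroup.zpowers v' ≤ Subgroup.normalizer (Subgroup.zpowers v : Set Y) := by
    rw [Subgroup.zpowers_le, mem_norm_iff hB hvv]
    right
    rw [mul_inv_eq_iff_eq_mul, hq.rel, mul_assoc, hB.central v', mul_assoc]
  have hp := isPGroup_sup hB hvv (isPGroup_zpowers 2 hv'4) hnorm
  obtain ⟨T, hT1, hT2, hT3, hT4⟩ := exists_syl (MP Y Φ) (Subgroup.zpowers v' ⊔ Subgroup.zpowers v)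
    (by
      apply sup_le
      · rw [Subgroup.zpowers_le]
        exact mem_MP_of_fix hq.g2.2 (Or.inl (by group)) hB
      · rw [Subgroup.zpowers_le]
        exact mem_MP_of_fix hq.g1.2 (Or.inl (by group)) hB) hp
  have hvT : v ∈ T := hT1 (Subgroup.mem_sup_right (Subgroup.mem_zpowers _))
  have hv'T : v' ∈ T := hT1 (Subgroup.mem_sup_left (Subgroup.mem_zpowers _))
  -- an element of `T ∩ K` central modulo `t`
  have htz : ∀ x : Y, x ∈ Subgroup.zpowers t ↔ x = 1 ∨ x = t := by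
    intro x
    constructor
    · rintro ⟨k, rfl⟩
      rcases Int.even_or_odd' k with ⟨m, rfl | rfl⟩
      · left
        change t ^ (2 * m) = 1
        rw [zpow_mul]
        have : t ^ (2 : ℤ) = 1 := by rw [zpow_two]; exact hB.sq
        rw [this, one_zpow]
      · right
        change t ^ (2 * m + 1) = t
        rw [zpow_add, zpow_mul]
        have : t ^ (2 : ℤ) = 1 := by rw [zpow_two]; exact hB.sq
        rw [this, one_zpow, one_mul, zpow_one]
    · rintro (rfl | rfl)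
      · exact Subgroup.one_mem _
      · exact Subgroup.mem_zpowers _
  obtain ⟨z, hz, hz1, hz2, hz3⟩ := exists_central_mod (N := T ⊓ KP Y Φ) (M := Subgroup.zpowers t)
    hT3 inf_le_left
    (fun s hs n hn => ⟨T.mul_mem (T.mul_mem hs hn.1) (T.inv_mem hs), KP_conj (hT2 hs) hn.2⟩)
    (fun s hs m hm => by
      rw [htz] at hm ⊢
      rcases hm with rfl | rfl
      · left; group
      · right; rw [hB.central, mul_inv_cancel_right])
    ⟨v, ⟨hvT, hq.g1.mem_KP⟩, by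
      rw [htz]
      rintro (h | h)
      · apply hB.ne; rw [← hvv, h, one_mul]
      · apply hB.ne
        rw [h, hB.sq] at hvv
        exact hvv.symm⟩
  rw [htz] at hz1 hz2
  have hzz : z * z = t := by
    rcases hz2 with h | h
    · exact absurd (hq.g1.eq_of_sq hB hz.2 h) hz1
    · exact h
  have hzn : ∀ s ∈ T, s * z * s⁻¹ = z ∨ s * z * s⁻¹ = z * t := by
    intro s hs
    have h1 := hz3 s hs
    rw [htz] at h1
    rcases h1 with h1 | h1
    · left; rwa [mul_inv_eq_one] at h1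
    · right; rw [mul_inv_eq_iff_eq_mul] at h1; rw [h1, ← hB.central]
  -- `z` is one of `v, v', v v'` modulo `t`
  have key : ∀ u : Y, Good t Φ u → z * u = u * z → z = u ∨ z = u * t := by
    intro u hu hzu
    have h1 : z * u * (z * u) = 1 := by
      calc z * u * (z * u) = z * (u * z) * u := by group
        _ = (z * z) * (u * u) := by rw [← hzu]; group
        _ = 1 := by rw [hzz, hu.sq, hB.sq]
    rcases hq.g1.eq_of_sq hB ((KP Y Φ).mul_mem hz.2 hu.mem_KP) h1 with h | h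
    · right
      rw [← inv_of_sq hB hu.sq, eq_inv_iff_mul_eq_one]; exact h
    · left
      calc z = z * u * u⁻¹ := by group
        _ = t * (u * t) := by rw [h, inv_of_sq hB hu.sq]
        _ = u := by rw [← mul_assoc, ← hB.central, mul_assoc, hB.sq, mul_one]
  have tn : ∀ u : Y, (z = u ∨ z = u * t) → ∀ s ∈ T, s * u * s⁻¹ = u ∨ s * u * s⁻¹ = u * t := by
    rintro u hu s hs
    rcases hu with rfl | hu
    · exact hzn s hs
    · have h0 : u = z * t := by rw [hu, mul_assoc, hB.sq, mul_one]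
      have h1 : s * u * s⁻¹ = s * z * s⁻¹ * t := by
        rw [h0, ← mul_assoc, mul_assoc (s * z), ← hB.central, ← mul_assoc]
      rcases hzn s hs with h | h
      · left; rw [h1, h, ← h0]
      · right; rw [h1, h, ← h0]
  have hcases : ∀ s ∈ T, s * z = z * s ∨ s * z = z * s * t := by
    intro s hs
    rcases hzn s hs with h | h
    · left; rwa [mul_inv_eq_iff_eq_mul] at h
    · right; rw [mul_inv_eq_iff_eq_mul] at h; rw [h, mul_assoc, ← hB.central, mul_assoc]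
  rcases hcases v hvT with h1 | h1
  · exact ⟨Φ, v, v', T, hB, hall, hq, hvT, hv'T, hT2, hT3, hT4, tn v (key v hq.g1 h1.symm)⟩
  rcases hcases v' hv'T with h2 | h2
  · exact ⟨Φ, v', v, T, hB, hall, hq.swap hB, hv'T, hvT, hT2, hT3, hT4,
      tn v' (key v' hq.g2 h2.symm)⟩
  · have h3 : z * (v * v') = v * v' * z := by
      have : v * v' * z = v * (v' * z) := by group
      rw [this, h2]
      calc z * (v * v') = z * v * v' := by group
        _ = (z * v * t) * t * v' := by rw [mul_assoc _ t t, hB.sq, mul_one]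
        _ = v * z * (t * v') := by rw [← h1]; group
        _ = v * (z * v' * t) := by rw [← hB.central]; group
    exact ⟨Φ, v * v', v, T, hB, hall, hq.rot hB, T.mul_mem hvT hv'T, hvT, hT2, hT3, hT4,
      tn (v * v') (key _ hq.g3 h3)⟩

theorem Good.eq_of_comm (hB : Base D t) {Φ : Set D} {v : Y} (h : Good t Φ v) {s : Y}
    (hs : s ∈ KP Y Φ) (hss : s * s = t) (hc : s * v = v * s) : s = v ∨ s = v * t := by
  have h1 : s * v * (s * v) = 1 := by
    calc s * v * (s * v) = s * (v * s) * v := by group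
      _ = (s * s) * (v * v) := by rw [← hc]; group
      _ = 1 := by rw [hss, h.sq, hB.sq]
  rcases h.eq_of_sq hB ((KP Y Φ).mul_mem hs h.mem_KP) h1 with h2 | h2
  · right
    rw [← inv_of_sq hB h.sq, eq_inv_iff_mul_eq_one]; exact h2
  · left
    calc s = s * v * v⁻¹ := by group
      _ = t * (v * t) := by rw [h2, inv_of_sq hB h.sq]
      _ = v := by rw [← mul_assoc, ← hB.central, mul_assoc, hB.sq, mul_one]

theorem mem_MP_of_maps [Finite Y] {Φ : Set D} {y : Y} (h : ∀ a ∈ Φ, y • a ∈ Φ) : y ∈ MP Y Φ := by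
  have h1 : ∀ k : ℕ, ∀ a ∈ Φ, y ^ k • a ∈ Φ := by
    intro k
    induction k with
    | zero => intro a ha; simpa using ha
    | succ k ih => intro a ha; rw [pow_succ', mul_smul]; exact h _ (ih a ha)
  intro a
  refine ⟨fun ha => ?_, h a⟩
  have h2 : 0 < orderOf y := orderOf_pos y
  have h3 := h1 (orderOf y - 1) _ ha
  rwa [← mul_smul, ← pow_succ, Nat.sub_add_cancel h2, pow_orderOf_eq_one, one_smul] at h3

/-- E1 -/
theorem Good.absurd_of_mem [Finite Y] {Φ : Set D} {s y : Y} (hs : Good t Φ s) (hy : y ∉ MP Y Φ)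
    (h : y⁻¹ * s * y ∈ KP Y Φ) : False := by
  apply hy
  apply mem_MP_of_maps
  intro a ha
  rw [← hs.2]
  have h1 := h a ha
  rwa [mul_smul, mul_smul, inv_smul_eq_iff] at h1

namespace Ctx

variable {Φ : Set D} {v v' : Y} {T : Subgroup Y}

/-- Step D: `T` contains no two independent commuting involutions. -/
theorem no_klein_T [Finite Y] (c : Ctx t Φ v v' T) {e₁ e₂ : Y} (m1 : e₁ ∈ T) (m2 : e₂ ∈ T)
    (h1 : Inv t e₁) (h2 : Inv t e₂) (hc : e₁ * e₂ = e₂ * e₁) (hne : e₂ ≠ e₁)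
    (hnet : e₂ ≠ e₁ * t) : False := by
  have hvv := c.q.g1.sq
  have hv4 : v ^ (2 ^ 2) = 1 := by simpa using pow_four c.hB hvv
  obtain ⟨S, hS⟩ := (isPGroup_zpowers 2 hv4).exists_le_sylow
  obtain ⟨f, -, hf, hfw⟩ := exists_commuting_inv c.hB S (hS (Subgroup.mem_zpowers v)) hvv
  exact no_klein c.hB c.q.g1.1.1 (c.hall v c.q.g1.1) hf hfw h1 h2 hc hne hnet
    ((mem_norm_iff c.hB hvv).mpr (c.Tn _ m1)) ((mem_norm_iff c.hB hvv).mpr (c.Tn _ m2))

theorem exists_y [Finite Y] (c : Ctx t Φ v v' T) :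
    ∃ y ∈ Subgroup.normalizer (T : Set Y), y ∉ MP Y Φ := by
  obtain ⟨S, hS⟩ := c.Tp.exists_le_sylow
  have hlt : T < (S : Subgroup Y) := by
    refine lt_of_le_of_ne hS ?_
    rintro rfl
    obtain ⟨e, he, f, hf, hee, hff, hef, he1, het, hf1, hft, hfe, hfet⟩ := c.hB.eight S
    exact c.no_klein_T he hf ⟨hee, he1, het⟩ ⟨hff, hf1, hft⟩ hef hfe hfet
  obtain ⟨y, hyS, hyT, hyn⟩ := Involutions.BaerSuzuki.exists_mem_normalizer_of_lt S.isPGroup' hlt
  refine ⟨y, hyn, fun hyM => hyT ?_⟩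
  have hQS : T ⊔ Subgroup.zpowers y ≤ (S : Subgroup Y) :=
    sup_le hS (by rw [Subgroup.zpowers_le]; exact hyS)
  have hQM : T ⊔ Subgroup.zpowers y ≤ MP Y Φ :=
    sup_le c.TM (by rw [Subgroup.zpowers_le]; exact hyM)
  obtain ⟨h, hh, hq⟩ := c.Ts _ hQM (S.isPGroup'.to_le hQS)
  have hle : (T ⊔ Subgroup.zpowers y).map (MulAut.conj h).toMonoidHom ≤ T := by
    rintro _ ⟨x, hx, rfl⟩
    exact hq x hx
  have hcard := Subgroup.card_le_of_le hle
  rw [Subgroup.card_map_of_injective (MulAut.conj h).injective] at hcard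
  have heq : T = T ⊔ Subgroup.zpowers y := Subgroup.eq_of_le_of_card_ge le_sup_left hcard
  rw [heq]
  exact Subgroup.mem_sup_right (Subgroup.mem_zpowers y)

/-- In case 2 there is `r` of order 8. -/
theorem exists_r [Finite Y] (c : Ctx t Φ v v' T)
    (h : ¬ ∀ u ∈ T, u ∈ KP Y Φ → u * v = v * u → u ∈ Subgroup.zpowers v) :
    ∃ r ∈ T, r ∈ KP Y Φ ∧ r * v = v * r ∧ (r * r = v ∨ r * r = v * t) ∧
      ∀ s ∈ T, s * r * s⁻¹ * r⁻¹ ∈ Subgroup.zpowers v := by
  push Not at h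
  obtain ⟨u, huT, huK, huv, hun⟩ := h
  have hB := c.hB
  have hvv := c.q.g1.sq
  obtain ⟨r, ⟨⟨hrT, hrK⟩, hrc⟩, hr1, hr2, hr3⟩ := exists_central_mod
    (N := T ⊓ KP Y Φ ⊓ Subgroup.centralizer {v}) (M := Subgroup.zpowers v) c.Tp
    (inf_le_left.trans inf_le_left)
    (fun s hs n hn => ⟨⟨T.mul_mem (T.mul_mem hs hn.1.1) (T.inv_mem hs),
      KP_conj (c.TM hs) hn.1.2⟩, Subgroup.mem_centralizer_singleton_iff.mpr
        (comm_conj hB (c.Tn s hs) (Subgroup.mem_centralizer_singleton_iff.mp hn.2))⟩)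
    (fun s hs m hm => (Subgroup.mem_normalizer_iff.mp
      ((mem_norm_iff hB hvv).mpr (c.Tn s hs)) m).mp hm)
    ⟨u, ⟨⟨huT, huK⟩, Subgroup.mem_centralizer_singleton_iff.mpr huv⟩, hun⟩
  have hrv : r * v = v * r := Subgroup.mem_centralizer_singleton_iff.mp hrc
  refine ⟨r, hrT, hrK, hrv, ?_, hr3⟩
  rw [mem_zpowers_iff_of_sq hB hvv] at hr1
  simp only [not_or] at hr1
  rcases (mem_zpowers_iff_of_sq hB hvv).mp hr2 with h | h | h | h
  · rcases c.q.g1.eq_of_sq hB hrK h with h' | h'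
    · exact absurd h' hr1.1
    · exact absurd h' hr1.2.1
  · rcases c.q.g1.eq_of_comm hB hrK h hrv with h' | h'
    · exact absurd h' hr1.2.2.1
    · exact absurd h' hr1.2.2.2
  · exact Or.inl h
  · exact Or.inr h

/-- An element commuting with `r` modulo `t` commutes with `v = r²`. -/
theorem comm_of_r (hB : Base D t) {r s : Y} (hr : r * r = v ∨ r * r = v * t)
    (h : s * r * s⁻¹ = r ∨ s * r * s⁻¹ = r * t) : s * v = v * s := by
  have h1 : s * (r * r) * s⁻¹ = r * r := by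
    have h2 : s * (r * r) * s⁻¹ = (s * r * s⁻¹) * (s * r * s⁻¹) := by group
    rw [h2]
    rcases h with h | h <;> rw [h]
    rw [mul_assoc r t, ← mul_assoc t r t, ← hB.central r, mul_assoc r t t, hB.sq, mul_one]
  rcases hr with hr | hr
  · rw [hr, mul_inv_eq_iff_eq_mul] at h1; exact h1
  · rw [hr, mul_inv_eq_iff_eq_mul] at h1
    have h3 : v * t * s = v * s * t := by rw [mul_assoc, ← hB.central, mul_assoc]
    rw [h3, ← mul_assoc] at h1
    exact mul_right_cancel h1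

theorem conj_mem_KP (c : Ctx t Φ v v' T) {y : Y} (hyn : y ∈ Subgroup.normalizer (T : Set Y))
    {r s : Y} (hr : r ∈ T) (hs : y⁻¹ * s * y ∈ KP Y Φ) : y⁻¹ * (r * s * r⁻¹) * y ∈ KP Y Φ := by
  have h1 : y⁻¹ * r * y ∈ T := by
    have h2 := (Subgroup.mem_normalizer_iff.mp ((Subgroup.normalizer (T : Set Y)).inv_mem hyn) r).mp
      hr
    rwa [inv_inv] at h2
  have h3 := KP_conj (c.TM h1) hs
  have h4 : y⁻¹ * (r * s * r⁻¹) * y = y⁻¹ * r * y * (y⁻¹ * s * y) * (y⁻¹ * r * y)⁻¹ := by group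
  rw [h4]; exact h3

/-- `U ∩ U^y = ⟨t⟩`. -/
theorem inter [Finite Y] (c : Ctx t Φ v v' T) {y : Y}
    (hyn : y ∈ Subgroup.normalizer (T : Set Y)) (hy : y ∉ MP Y Φ) {u : Y} (huT : u ∈ T)
    (hu : u ∈ KP Y Φ) (huy : y⁻¹ * u * y ∈ KP Y Φ) : u = 1 ∨ u = t := by
  have hB := c.hB
  have hvv := c.q.g1.sq
  by_contra hcon
  obtain ⟨n, hn⟩ := exists_pow_eq_one c.Tp huT
  obtain ⟨k, hk1, hk2⟩ := exists_pow (fun x => x = 1 ∨ x = t) n u (Or.inl hn) hcon
  set s := u ^ k with hs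
  have hsT : s ∈ T := T.pow_mem huT k
  have hsK : s ∈ KP Y Φ := (KP Y Φ).pow_mem hu k
  have hsy : y⁻¹ * s * y ∈ KP Y Φ := by
    have h1 : y⁻¹ * s * y = (y⁻¹ * u * y) ^ k := by
      have := conj_pow (a := y⁻¹) (b := u) (i := k)
      rw [inv_inv] at this
      rw [this]
    rw [h1]; exact (KP Y Φ).pow_mem huy k
  have hss : s * s = t := by
    rcases hk2 with h | h
    · exact absurd (c.q.g1.eq_of_sq hB hsK h) hk1
    · exact h
  have hnc : s * v ≠ v * s := by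
    intro h
    rcases c.q.g1.eq_of_comm hB hsK hss h with h1 | h1
    · exact c.q.g1.absurd_of_mem hy (h1 ▸ hsy)
    · exact (c.q.g1.mul_t hB).absurd_of_mem hy (h1 ▸ hsy)
  have hsv : s * v = v * s * t := by
    rcases c.Tn s hsT with h | h
    · rw [mul_inv_eq_iff_eq_mul] at h; exact absurd h hnc
    · rw [mul_inv_eq_iff_eq_mul] at h; rw [h, mul_assoc, ← hB.central, mul_assoc]
  by_cases hcase : ∀ u ∈ T, u ∈ KP Y Φ → u * v = v * u → u ∈ Subgroup.zpowers v
  · -- `s v'` commutes with `v`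
    have h1 : s * v' * v = v * (s * v') := by
      calc s * v' * v = s * (v' * v) := by group
        _ = (s * v) * (v' * t) := by rw [c.q.rel]; group
        _ = v * s * (t * v') * t := by rw [hsv]; group
        _ = v * s * v' * (t * t) := by rw [← hB.central v']; group
        _ = v * (s * v') := by rw [hB.sq]; group
    have h2 := hcase (s * v') (T.mul_mem hsT c.v'T) ((KP Y Φ).mul_mem hsK c.q.g2.mem_KP) h1
    have h3 : s = s * v' * (v' * t) := by
      rw [← inv_of_sq hB c.q.g2.sq, mul_inv_cancel_right]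
    have h4 := c.q.g3
    have hg : Good t Φ s := by
      rw [h3]
      rcases (mem_zpowers_iff_of_sq hB hvv).mp h2 with h | h | h | h <;> rw [h]
      · rw [one_mul]; exact c.q.g2.mul_t hB
      · rw [← mul_assoc, ← hB.central v', mul_assoc, hB.sq, mul_one]; exact c.q.g2
      · rw [← mul_assoc]; exact h4.mul_t hB
      · rw [mul_assoc v, ← mul_assoc t v' t, ← hB.central v', mul_assoc v' t t, hB.sq, mul_one]
        exact h4
    exact hg.absurd_of_mem hy hsy
  · obtain ⟨r, hrT, hrK, hrv, hrr, hr⟩ := c.exists_r hcase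
    have hz := hr s hsT
    have hzy : y⁻¹ * (s * r * s⁻¹ * r⁻¹) * y ∈ KP Y Φ := by
      have h2 : (y⁻¹ * s * y)⁻¹ = y⁻¹ * s⁻¹ * y := by group
      have h1 := c.conj_mem_KP hyn hrT (s := s⁻¹) (by rw [← h2]; exact (KP Y Φ).inv_mem hsy)
      have h3 := (KP Y Φ).mul_mem hsy h1
      have h4 : y⁻¹ * s * y * (y⁻¹ * (r * s⁻¹ * r⁻¹) * y) = y⁻¹ * (s * r * s⁻¹ * r⁻¹) * y := by
        group
      rwa [h4] at h3
    rcases (mem_zpowers_iff_of_sq hB hvv).mp hz with h | h | h | h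
    · apply hnc
      exact comm_of_r hB hrr (Or.inl (by rwa [mul_inv_eq_one] at h))
    · apply hnc
      refine comm_of_r hB hrr (Or.inr ?_)
      rw [mul_inv_eq_iff_eq_mul] at h; rw [h, ← hB.central]
    · exact c.q.g1.absurd_of_mem hy (h ▸ hzy)
    · exact (c.q.g1.mul_t hB).absurd_of_mem hy (h ▸ hzy)

/-- `U^y` meets `K` in `⟨t⟩`, so `y u y⁻¹ ∉ K` for `u ∈ U ∖ ⟨t⟩`. -/
theorem conj_notMem [Finite Y] (c : Ctx t Φ v v' T) {y : Y}
    (hyn : y ∈ Subgroup.normalizer (T : Set Y)) (hy : y ∉ MP Y Φ) {u : Y} (huT : u ∈ T)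
    (hu : u ∈ KP Y Φ) (hu1 : u * u = t) : y * u * y⁻¹ ∉ KP Y Φ := by
  intro h
  have hB := c.hB
  have h1 : y * u * y⁻¹ ∈ T := (Subgroup.mem_normalizer_iff.mp hyn u).mp huT
  have h2 := c.inter hyn hy h1 h (by
    have : y⁻¹ * (y * u * y⁻¹) * y = u := by group
    rw [this]; exact hu)
  have h3 : (y * u * y⁻¹) * (y * u * y⁻¹) = t := by
    calc (y * u * y⁻¹) * (y * u * y⁻¹) = y * (u * u) * y⁻¹ := by group
      _ = t := by rw [hu1, hB.central, mul_inv_cancel_right]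
  rcases h2 with h2 | h2
  · rw [h2, one_mul] at h3; exact hB.ne h3.symm
  · rw [h2, hB.sq] at h3; exact hB.ne h3.symm

/-- `[U^y, U] ≤ ⟨t⟩`. -/
theorem comm_mod [Finite Y] (c : Ctx t Φ v v' T) {y : Y}
    (hyn : y ∈ Subgroup.normalizer (T : Set Y)) (hy : y ∉ MP Y Φ) {g r : Y} (hgT : g ∈ T)
    (hg : y⁻¹ * g * y ∈ KP Y Φ) (hrT : r ∈ T) (hr : r ∈ KP Y Φ) :
    g * r * g⁻¹ = r ∨ g * r * g⁻¹ = r * t := by
  have h2 : (y⁻¹ * g * y)⁻¹ = y⁻¹ * g⁻¹ * y := by group
  have h1 := c.conj_mem_KP hyn hrT (s := g⁻¹) (by rw [← h2]; exact (KP Y Φ).inv_mem hg)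
  have h3 := (KP Y Φ).mul_mem hg h1
  have h4 : y⁻¹ * g * y * (y⁻¹ * (r * g⁻¹ * r⁻¹) * y) = y⁻¹ * (g * r * g⁻¹ * r⁻¹) * y := by
    group
  rw [h4] at h3
  have h5 : g * r * g⁻¹ * r⁻¹ ∈ KP Y Φ :=
    (KP Y Φ).mul_mem (KP_conj (c.TM hgT) hr) ((KP Y Φ).inv_mem hr)
  have h6 : g * r * g⁻¹ * r⁻¹ ∈ T :=
    T.mul_mem (T.mul_mem (T.mul_mem hgT hrT) (T.inv_mem hgT)) (T.inv_mem hrT)
  rcases c.inter hyn hy h6 h5 h3 with h | h
  · left; rwa [mul_inv_eq_one] at h
  · right; rw [mul_inv_eq_iff_eq_mul] at h; rw [h, c.hB.central]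

theorem conj_rel (c : Ctx t Φ v v' T) (y : Y) :
    (y * v' * y⁻¹) * (y * v * y⁻¹) = (y * v * y⁻¹) * (y * v' * y⁻¹) * t := by
  calc (y * v' * y⁻¹) * (y * v * y⁻¹) = y * (v' * v) * y⁻¹ := by group
    _ = y * v * v' * (t * y⁻¹) := by rw [c.q.rel]; group
    _ = (y * v * y⁻¹) * (y * v' * y⁻¹) * t := by rw [← c.hB.central]; group

theorem conj_sq (hB : Base D t) {u : Y} (y : Y) (hu : u * u = t) :
    (y * u * y⁻¹) * (y * u * y⁻¹) = t := by
  calc (y * u * y⁻¹) * (y * u * y⁻¹) = y * (u * u) * y⁻¹ := by group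
    _ = t := by rw [hu, hB.central, mul_inv_cancel_right]

/-- Case 1 holds: `C_U(v) = ⟨v⟩`. -/
theorem case1 [Finite Y] (c : Ctx t Φ v v' T) :
    ∀ u ∈ T, u ∈ KP Y Φ → u * v = v * u → u ∈ Subgroup.zpowers v := by
  by_contra hcase
  have hB := c.hB
  have hvv := c.q.g1.sq
  have hv'v' := c.q.g2.sq
  have htc := hB.central
  obtain ⟨y, hyn, hy⟩ := c.exists_y
  obtain ⟨r, hrT, hrK, hrv, hrr, -⟩ := c.exists_r hcase
  have key : ∀ u : Y, u ∈ T → u ∈ KP Y Φ → u * u = t →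
      (y * u * y⁻¹) * v = v * (y * u * y⁻¹) ∧ Inv t (v * (y * u * y⁻¹)) := by
    intro u hu huK huu
    have h1 : y * u * y⁻¹ ∈ T := (Subgroup.mem_normalizer_iff.mp hyn u).mp hu
    have h2 : y⁻¹ * (y * u * y⁻¹) * y ∈ KP Y Φ := by
      have : y⁻¹ * (y * u * y⁻¹) * y = u := by group
      rw [this]; exact huK
    have h3 := comm_of_r hB hrr (c.comm_mod hyn hy h1 h2 hrT hrK)
    have h4 := c.conj_notMem hyn hy hu huK huu
    have h5 := conj_sq hB y huu
    set z := y * u * y⁻¹ with hz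
    have hK : v * z ∉ KP Y Φ := fun h =>
      h4 (((KP Y Φ).mul_mem_cancel_left c.q.g1.mem_KP).mp h)
    refine ⟨h3, ?_, ?_, ?_⟩
    · calc v * z * (v * z) = v * (z * v) * z := by group
        _ = (v * v) * (z * z) := by rw [h3]; group
        _ = 1 := by rw [hvv, h5, hB.sq]
    · intro h; apply hK; rw [h]; exact (KP Y Φ).one_mem
    · intro h; apply hK; rw [h]; exact fun a _ => hB.triv a
  obtain ⟨a1, a2⟩ := key v c.vT c.q.g1.mem_KP hvv
  obtain ⟨b1, b2⟩ := key v' c.v'T c.q.g2.mem_KP hv'v'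
  have hrel := c.conj_rel y
  have hzne : ∀ x : Y, y * v' * y⁻¹ = x → x * (y * v * y⁻¹) = (y * v * y⁻¹) * x → False := by
    rintro x rfl h
    rw [h] at hrel
    have : (y * v * y⁻¹) * (y * v' * y⁻¹) * 1 = (y * v * y⁻¹) * (y * v' * y⁻¹) * t := by
      rw [mul_one]; exact hrel
    exact hB.ne (mul_left_cancel this).symm
  set z := y * v * y⁻¹ with hz
  set z' := y * v' * y⁻¹ with hz'
  apply c.hall v c.q.g1.1
  refine ⟨v * z, v * z', a2, b2, ?_, ?_, ?_, ?_, ?_⟩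
  · rw [mul_assoc, a1]
  · rw [mul_assoc, b1]
  · have h1 : v * z * (v * z') * (v * z)⁻¹ * (v * z')⁻¹ = t := by
      have h2 : v * z' * (v * z) = v * z * (v * z') * t := by
        calc v * z' * (v * z) = v * (z' * v) * z := by group
          _ = (v * v) * (z' * z) := by rw [b1]; group
          _ = (v * v) * z * z' * t := by rw [hrel]; group
          _ = v * (z * v) * z' * t := by rw [a1]; group
          _ = v * z * (v * z') * t := by group
      have h3 : v * z * (v * z') = v * z' * (v * z) * t := by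
        rw [h2, mul_assoc _ t t, hB.sq, mul_one]
      calc v * z * (v * z') * (v * z)⁻¹ * (v * z')⁻¹
          = v * z' * (v * z) * t * (v * z)⁻¹ * (v * z')⁻¹ := by rw [h3]
        _ = v * z' * (v * z) * (t * (v * z)⁻¹) * (v * z')⁻¹ := by group
        _ = v * z' * (t * (v * z')⁻¹) := by rw [← htc]; group
        _ = t := by rw [← htc]; group
    rw [h1]; exact mem_zpowers_of_sq hvv
  · intro h
    exact hzne z (mul_left_cancel h) rfl
  · intro h
    rw [mul_assoc] at h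
    refine hzne (z * t) (mul_left_cancel h) ?_
    rw [mul_assoc, ← htc]

/-- `U = X`. -/
theorem mem_U [Finite Y] (c : Ctx t Φ v v' T) {u : Y} (hu : u ∈ T) (huK : u ∈ KP Y Φ) :
    u * u = 1 ∨ u * u = t := by
  have hB := c.hB
  have hvv := c.q.g1.sq
  have htc := hB.central
  have hsqt : ∀ x : Y, (x * t) * (x * t) = x * x := by
    intro x
    rw [mul_assoc x t, ← mul_assoc t x t, ← htc x, mul_assoc x t t, hB.sq, mul_one]
  rcases c.Tn u hu with h | h
  · rw [mul_inv_eq_iff_eq_mul] at h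
    rcases (mem_zpowers_iff_of_sq hB hvv).mp (c.case1 u hu huK h) with h | h | h | h <;> rw [h]
    · left; rw [one_mul]
    · left; exact hB.sq
    · right; exact hvv
    · right; rw [hsqt]; exact hvv
  · rw [mul_inv_eq_iff_eq_mul] at h
    have h1 : u * v' * v = v * (u * v') := by
      calc u * v' * v = u * (v' * v) := by group
        _ = (u * v) * (v' * t) := by rw [c.q.rel]; group
        _ = v * t * u * v' * t := by rw [h]; group
        _ = v * (u * v') * (t * t) := by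
            rw [mul_assoc v t u, ← htc u]
            rw [mul_assoc, mul_assoc, mul_assoc, mul_assoc, ← mul_assoc t v' t, ← htc v']
            group
        _ = v * (u * v') := by rw [hB.sq]; group
    have h2 := c.case1 (u * v') (T.mul_mem hu c.v'T) ((KP Y Φ).mul_mem huK c.q.g2.mem_KP) h1
    have h3 : u = u * v' * (v' * t) := by
      rw [← inv_of_sq hB c.q.g2.sq, mul_inv_cancel_right]
    right
    rw [h3]
    have h4 : ∀ x : Y, x * (v' * t) = x * v' * t := fun x => by group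
    rcases (mem_zpowers_iff_of_sq hB hvv).mp h2 with h | h | h | h <;> rw [h, h4, hsqt]
    · rw [one_mul]; exact c.q.g2.sq
    · rw [← htc, hsqt]; exact c.q.g2.sq
    · exact c.q.g3.sq
    · have h5 : v * t * v' = v * v' * t := by rw [mul_assoc, ← htc v', ← mul_assoc]
      rw [h5, hsqt]; exact c.q.g3.sq

/-- Step G: some involution `≠ t` centralizes `v` and `v'`. -/
theorem exists_inv_comm [Finite Y] (c : Ctx t Φ v v' T) :
    ∃ e : Y, Inv t e ∧ e * v = v * e ∧ e * v' = v' * e := by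
  by_contra hno
  push Not at hno
  have hB := c.hB
  have hvv := c.q.g1.sq
  have hv'v' := c.q.g2.sq
  have htc := hB.central
  have hrel := c.q.rel
  obtain ⟨y, hyn, hy⟩ := c.exists_y
  have htt : ∀ x : Y, x * t * t = x := fun x => by rw [mul_assoc, hB.sq, mul_one]
  have hsw : ∀ x z : Y, x * t * z = x * z * t := fun x z => by
    rw [mul_assoc, ← htc z, ← mul_assoc]
  have hv'K := c.q.g2.mem_KP
  have hvK := c.q.g1.mem_KP
  have htK : t ∈ KP Y Φ := fun a _ => hB.triv a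
  -- correction
  have corr : ∀ g : Y, (g * v = v * g ∨ g * v = v * g * t) → (g * v' = v' * g ∨ g * v' = v' * g * t) →
      ∃ p : Y, (p = 1 ∨ p = v ∨ p = v' ∨ p = v * v') ∧ (g * p) * v = v * (g * p) ∧
        (g * p) * v' = v' * (g * p) := by
    intro g h1 h2
    rcases h1 with h1 | h1 <;> rcases h2 with h2 | h2
    · exact ⟨1, Or.inl rfl, by rw [mul_one]; exact h1, by rw [mul_one]; exact h2⟩
    · refine ⟨v, Or.inr (Or.inl rfl), by rw [mul_assoc, ← mul_assoc v g v, ← h1]; group, ?_⟩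
      calc g * v * v' = g * (v * v' * t) * t := by rw [← mul_assoc, htt]; group
        _ = g * (v' * v) * t := by rw [hrel]
        _ = (g * v') * v * t := by group
        _ = v' * (g * v) := by rw [h2, hsw, htt]; group
    · refine ⟨v', Or.inr (Or.inr (Or.inl rfl)), ?_, by
        rw [mul_assoc, ← mul_assoc v' g v', ← h2]; group⟩
      calc g * v' * v = g * (v' * v) := by group
        _ = (g * v) * v' * t := by rw [hrel]; group
        _ = v * (g * v') := by rw [h1, hsw, htt]; group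
    · refine ⟨v * v', Or.inr (Or.inr (Or.inr rfl)), ?_, ?_⟩
      · calc g * (v * v') * v = g * v * (v' * v) := by group
          _ = (g * v) * v * v' * t := by rw [hrel]; group
          _ = v * g * v * v' * t * t := by rw [h1, hsw, hsw]
          _ = v * (g * (v * v')) := by rw [htt]; group
      · calc g * (v * v') * v' = g * (v * v' * t * t) * v' := by rw [htt]
          _ = g * (v' * v) * t * v' := by rw [hrel]; group
          _ = (g * v') * v * v' * t := by rw [hsw]; group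
          _ = v' * (g * (v * v')) := by rw [h2, hsw, hsw, htt]; group
  have hcm : ∀ u ∈ T, u ∈ KP Y Φ → ∀ r ∈ T, r ∈ KP Y Φ → (y * u * y⁻¹ * r = r * (y * u * y⁻¹) ∨
        y * u * y⁻¹ * r = r * (y * u * y⁻¹) * t) := by
    intro u hu huK r hr hrK
    have h1 : y * u * y⁻¹ ∈ T := (Subgroup.mem_normalizer_iff.mp hyn u).mp hu
    have h2 : y⁻¹ * (y * u * y⁻¹) * y ∈ KP Y Φ := by
      have : y⁻¹ * (y * u * y⁻¹) * y = u := by group
      rw [this]; exact huK
    rcases c.comm_mod hyn hy h1 h2 hr hrK with h | h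
    · left; rwa [mul_inv_eq_iff_eq_mul] at h
    · right; rw [mul_inv_eq_iff_eq_mul] at h; rw [h, hsw]
  -- `g ∈ U^y`
  have key : ∀ u : Y, u ∈ T → u ∈ KP Y Φ → u * u = t →
      ∃ p : Y, (p = 1 ∨ p = v ∨ p = v' ∨ p = v * v') ∧ p ∈ T ∧ p ∈ KP Y Φ ∧
        (y * u * y⁻¹ * p) * v = v * (y * u * y⁻¹ * p) ∧
        (y * u * y⁻¹ * p) * v' = v' * (y * u * y⁻¹ * p) ∧
        y * u * y⁻¹ ∈ T ∧ y * u * y⁻¹ * p ∉ KP Y Φ := by
    intro u hu huK huu
    have h1 : y * u * y⁻¹ ∈ T := (Subgroup.mem_normalizer_iff.mp hyn u).mp hu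
    have h3 := hcm u hu huK
    obtain ⟨p, hp, hp1, hp2⟩ := corr _ (h3 v c.vT hvK) (h3 v' c.v'T hv'K)
    have hpT : p ∈ T := by
      rcases hp with rfl | rfl | rfl | rfl
      · exact T.one_mem
      · exact c.vT
      · exact c.v'T
      · exact T.mul_mem c.vT c.v'T
    have hpK : p ∈ KP Y Φ := by
      rcases hp with rfl | rfl | rfl | rfl
      · exact (KP Y Φ).one_mem
      · exact hvK
      · exact hv'K
      · exact (KP Y Φ).mul_mem hvK hv'K
    refine ⟨p, hp, hpT, hpK, hp1, hp2, h1, fun h => ?_⟩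
    exact c.conj_notMem hyn hy hu huK huu (((KP Y Φ).mul_mem_cancel_right hpK).mp h)
  -- the quotient by `⟨t⟩`
  have hZn : (Subgroup.zpowers t).Normal := by
    refine ⟨fun z hz g => ?_⟩
    obtain ⟨k, rfl⟩ := hz
    have h1 : g * t ^ k = t ^ k * g := ((show Commute g t from htc g).zpow_right k).eq
    change g * t ^ k * g⁻¹ ∈ _
    rw [h1, mul_inv_cancel_right]
    exact Subgroup.zpow_mem _ (Subgroup.mem_zpowers t) k
  let q : Y →* Y ⧸ Subgroup.zpowers t := QuotientGroup.mk' _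
  have htz : ∀ x : Y, x ∈ Subgroup.zpowers t ↔ x = 1 ∨ x = t := by
    intro x
    constructor
    · rintro ⟨k, rfl⟩
      have h2 : t ^ (2 : ℤ) = 1 := by rw [zpow_two]; exact hB.sq
      rcases Int.even_or_odd' k with ⟨m, rfl | rfl⟩
      · left
        change t ^ (2 * m) = 1
        rw [zpow_mul, h2, one_zpow]
      · right
        change t ^ (2 * m + 1) = t
        rw [zpow_add, zpow_mul, h2, one_zpow, one_mul, zpow_one]
    · rintro (rfl | rfl)
      · exact Subgroup.one_mem _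
      · exact Subgroup.mem_zpowers _
  have hq1 : ∀ x : Y, q x = 1 ↔ x = 1 ∨ x = t := by
    intro x
    rw [← MonoidHom.mem_ker, QuotientGroup.ker_mk', htz]
  have hqt : q t = 1 := (hq1 t).mpr (Or.inr rfl)
  have hqe : ∀ a b : Y, (a = b ∨ a = b * t) → q a = q b := by
    rintro a b (rfl | rfl)
    · rfl
    · rw [map_mul, hqt, mul_one]
  have hqe' : ∀ a b : Y, q a = q b → a = b ∨ a = b * t := by
    intro a b h
    have h1 : q (b⁻¹ * a) = 1 := by rw [map_mul, map_inv, h, inv_mul_cancel]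
    rcases (hq1 _).mp h1 with h2 | h2
    · left; rw [inv_mul_eq_one] at h2; exact h2.symm
    · right; rw [← h2, mul_inv_cancel_left]
  obtain ⟨p₁, hp₁, p₁T, p₁K, a₁, a₁', z₁T, n₁⟩ := key v c.vT hvK hvv
  obtain ⟨p₂, hp₂, p₂T, p₂K, a₂, a₂', z₂T, n₂⟩ := key v' c.v'T hv'K hv'v'
  have hz1 : (y * v * y⁻¹) * (y * v * y⁻¹) = t := conj_sq hB y hvv
  have hz2 : (y * v' * y⁻¹) * (y * v' * y⁻¹) = t := conj_sq hB y hv'v'
  have hzz := c.conj_rel y
  have hn12 : y * v * y⁻¹ * (y * v' * y⁻¹) ∉ KP Y Φ := by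
    have h1 := c.conj_notMem hyn hy (T.mul_mem c.vT c.v'T) ((KP Y Φ).mul_mem hvK hv'K) c.q.g3.sq
    have h2 : y * (v * v') * y⁻¹ = y * v * y⁻¹ * (y * v' * y⁻¹) := by group
    rwa [h2] at h1
  have hcz1 : ∀ r ∈ T, r ∈ KP Y Φ → Commute (q (y * v * y⁻¹)) (q r) := by
    intro r hr hrK
    have h := hqe _ _ (hcm v c.vT hvK r hr hrK)
    rwa [map_mul q (y * v * y⁻¹) r, map_mul q r (y * v * y⁻¹)] at h
  have hcz2 : ∀ r ∈ T, r ∈ KP Y Φ → Commute (q (y * v' * y⁻¹)) (q r) := by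
    intro r hr hrK
    have h := hqe _ _ (hcm v' c.v'T hv'K r hr hrK)
    rwa [map_mul q (y * v' * y⁻¹) r, map_mul q r (y * v' * y⁻¹)] at h
  have hc12 : Commute (q (y * v * y⁻¹)) (q (y * v' * y⁻¹)) := by
    have h := hqe _ _ (Or.inr hzz)
    rw [map_mul q (y * v' * y⁻¹), map_mul q (y * v * y⁻¹)] at h
    exact Commute.symm h
  have hvv'c : Commute (q v) (q v') := by
    have h := hqe _ _ (Or.inr hrel)
    rw [map_mul, map_mul] at h
    exact Commute.symm h
  have hpv : ∀ p : Y, (p = 1 ∨ p = v ∨ p = v' ∨ p = v * v') → Commute (q p) (q v) ∧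
      Commute (q p) (q v') ∧ q p * q p = 1 := by
    have e1 : q v * q v = 1 := by rw [← map_mul, hvv, hqt]
    have e2 : q v' * q v' = 1 := by rw [← map_mul, hv'v', hqt]
    have e3 : q (v * v') * q (v * v') = 1 := by rw [← map_mul, c.q.g3.sq, hqt]
    rintro p (rfl | rfl | rfl | rfl)
    · rw [map_one]; exact ⟨Commute.one_left _, Commute.one_left _, one_mul _⟩
    · exact ⟨Commute.refl _, hvv'c, e1⟩
    · exact ⟨hvv'c.symm, Commute.refl _, e2⟩
    · refine ⟨?_, ?_, e3⟩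
      · rw [map_mul]; exact (Commute.refl _).mul_left hvv'c.symm
      · rw [map_mul]; exact hvv'c.mul_left (Commute.refl _)
  have hpp : Commute (q p₁) (q p₂) := by
    obtain ⟨b1, b2, -⟩ := hpv p₁ hp₁
    rcases hp₂ with rfl | rfl | rfl | rfl
    · rw [map_one]; exact Commute.one_right _
    · exact b1
    · exact b2
    · rw [map_mul]; exact b1.mul_right b2
  set z₁ := y * v * y⁻¹ with hz₁
  set z₂ := y * v' * y⁻¹ with hz₂
  have hqz1 : q z₁ * q z₁ = 1 := by rw [← map_mul, hz1, hqt]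
  have hqz2 : q z₂ * q z₂ = 1 := by rw [← map_mul, hz2, hqt]
  have hsq1 : z₁ * p₁ * (z₁ * p₁) = 1 ∨ z₁ * p₁ * (z₁ * p₁) = t := by
    rw [← hq1]
    have h1 : q z₁ * q p₁ = q p₁ * q z₁ := hcz1 p₁ p₁T p₁K
    calc q (z₁ * p₁ * (z₁ * p₁)) = q z₁ * (q p₁ * q z₁) * q p₁ := by
          simp only [map_mul]; group
      _ = (q z₁ * q z₁) * (q p₁ * q p₁) := by rw [← h1]; group
      _ = 1 := by rw [hqz1, (hpv p₁ hp₁).2.2, one_mul]
  have hsq2 : z₂ * p₂ * (z₂ * p₂) = 1 ∨ z₂ * p₂ * (z₂ * p₂) = t := by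
    rw [← hq1]
    have h1 : q z₂ * q p₂ = q p₂ * q z₂ := hcz2 p₂ p₂T p₂K
    calc q (z₂ * p₂ * (z₂ * p₂)) = q z₂ * (q p₂ * q z₂) * q p₂ := by
          simp only [map_mul]; group
      _ = (q z₂ * q z₂) * (q p₂ * q p₂) := by rw [← h1]; group
      _ = 1 := by rw [hqz2, (hpv p₂ hp₂).2.2, one_mul]
  have hcomm : z₁ * p₁ * (z₂ * p₂) = z₂ * p₂ * (z₁ * p₁) ∨
      z₁ * p₁ * (z₂ * p₂) = z₂ * p₂ * (z₁ * p₁) * t := by
    apply hqe'
    rw [map_mul q (z₁ * p₁), map_mul q (z₂ * p₂), map_mul q z₁, map_mul q z₂]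
    exact ((hc12.mul_right (hcz1 p₂ p₂T p₂K)).mul_left
      ((hcz2 p₁ p₁T p₁K).symm.mul_right hpp)).eq
  have hn12' : z₁ * p₁ * (z₂ * p₂) ∉ KP Y Φ := by
    intro h
    apply hn12
    have h1 : z₂ * p₁ = p₁ * z₂ ∨ z₂ * p₁ = p₁ * z₂ * t := hcm v' c.v'T hv'K p₁ p₁T p₁K
    have h2 : z₁ * z₂ * (p₁ * p₂) ∈ KP Y Φ := by
      rcases h1 with h1 | h1
      · have : z₁ * z₂ * (p₁ * p₂) = z₁ * p₁ * (z₂ * p₂) := by
          calc z₁ * z₂ * (p₁ * p₂) = z₁ * (z₂ * p₁) * p₂ := by group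
            _ = z₁ * p₁ * (z₂ * p₂) := by rw [h1]; group
        rw [this]; exact h
      · have : z₁ * z₂ * (p₁ * p₂) = z₁ * p₁ * (z₂ * p₂) * t := by
          calc z₁ * z₂ * (p₁ * p₂) = z₁ * (z₂ * p₁) * p₂ := by group
            _ = z₁ * (p₁ * z₂ * t * p₂) := by rw [h1]; group
            _ = z₁ * p₁ * (z₂ * p₂) * t := by rw [hsw]; group
        rw [this]; exact (KP Y Φ).mul_mem h htK
    exact ((KP Y Φ).mul_mem_cancel_right ((KP Y Φ).mul_mem p₁K p₂K)).mp h2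
  set c₁ := z₁ * p₁ with hc₁
  set c₂ := z₂ * p₂ with hc₂
  have c₁T : c₁ ∈ T := T.mul_mem z₁T p₁T
  have c₂T : c₂ ∈ T := T.mul_mem z₂T p₂T
  have mkInv : ∀ x : Y, x * x = 1 → x ∉ KP Y Φ → Inv t x := by
    intro x hx hxK
    refine ⟨hx, ?_, ?_⟩
    · rintro rfl; exact hxK (KP Y Φ).one_mem
    · rintro rfl; exact hxK htK
  have s1 : c₁ * c₁ = t := by
    rcases hsq1 with h | h
    · exact absurd a₁' (hno c₁ (mkInv c₁ h n₁) a₁)
    · exact h
  have s2 : c₂ * c₂ = t := by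
    rcases hsq2 with h | h
    · exact absurd a₂' (hno c₂ (mkInv c₂ h n₂) a₂)
    · exact h
  rcases hcomm with hcc | hcc
  · have h1 : c₁ * c₂ * (c₁ * c₂) = 1 := by
      calc c₁ * c₂ * (c₁ * c₂) = c₁ * (c₂ * c₁) * c₂ := by group
        _ = (c₁ * c₁) * (c₂ * c₂) := by rw [← hcc]; group
        _ = 1 := by rw [s1, s2, hB.sq]
    refine hno (c₁ * c₂) (mkInv _ h1 hn12') ?_ ?_
    · rw [mul_assoc, a₂, ← mul_assoc, a₁, mul_assoc]
    · rw [mul_assoc, a₂', ← mul_assoc, a₁', mul_assoc]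
  · have h1 : c₁ * v * (c₁ * v) = 1 := by
      calc c₁ * v * (c₁ * v) = c₁ * (v * c₁) * v := by group
        _ = (c₁ * c₁) * (v * v) := by rw [← a₁]; group
        _ = 1 := by rw [s1, hvv, hB.sq]
    have h2 : c₂ * v' * (c₂ * v') = 1 := by
      calc c₂ * v' * (c₂ * v') = c₂ * (v' * c₂) * v' := by group
        _ = (c₂ * c₂) * (v' * v') := by rw [← a₂']; group
        _ = 1 := by rw [s2, hv'v', hB.sq]
    have m1 : c₁ * v ∉ KP Y Φ := fun h => n₁ (((KP Y Φ).mul_mem_cancel_right hvK).mp h)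
    have m2 : c₂ * v' ∉ KP Y Φ := fun h => n₂ (((KP Y Φ).mul_mem_cancel_right hv'K).mp h)
    have h3 : c₁ * v * (c₂ * v') = c₂ * v' * (c₁ * v) := by
      calc c₁ * v * (c₂ * v') = c₁ * (v * c₂) * v' := by group
        _ = (c₁ * c₂) * (v * v') := by rw [← a₂]; group
        _ = c₂ * c₁ * (v * v') * t := by rw [hcc, hsw]
        _ = c₂ * c₁ * (v' * v) := by rw [hrel]; group
        _ = c₂ * (c₁ * v') * v := by group
        _ = c₂ * v' * (c₁ * v) := by rw [a₁']; group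
    have h4 : ∀ x : Y, c₂ * v' = x → c₁ * x ∈ KP Y Φ → False := by
      rintro x rfl h
      apply hn12'
      have : c₁ * (c₂ * v') = c₁ * c₂ * v' := by group
      rw [this] at h
      exact ((KP Y Φ).mul_mem_cancel_right hv'K).mp h
    refine c.no_klein_T (T.mul_mem c₁T c.vT) (T.mul_mem c₂T c.v'T) (mkInv _ h1 m1)
      (mkInv _ h2 m2) h3 (fun h => h4 _ h ?_) (fun h => h4 _ h ?_)
    · rw [← mul_assoc, s1]; exact (KP Y Φ).mul_mem htK hvK
    · rw [← mul_assoc, ← mul_assoc, s1]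
      exact (KP Y Φ).mul_mem ((KP Y Φ).mul_mem htK hvK) htK

/-- The final contradiction. -/
theorem false [Finite Y] (c : Ctx t Φ v v' T) : False := by
  have hB := c.hB
  have hvv := c.q.g1.sq
  have hv'v' := c.q.g2.sq
  have htc := hB.central
  have hrel := c.q.rel
  have hv'K := c.q.g2.mem_KP
  have hvK := c.q.g1.mem_KP
  have htK : t ∈ KP Y Φ := fun a _ => hB.triv a
  have htt : ∀ x : Y, x * t * t = x := fun x => by rw [mul_assoc, hB.sq, mul_one]
  have hsw : ∀ x z : Y, x * t * z = x * z * t := fun x z => by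
    rw [mul_assoc, ← htc z, ← mul_assoc]
  obtain ⟨e, he, hev, hev'⟩ := c.exists_inv_comm
  obtain ⟨i, hp⟩ := exists_pair' hB c.hall c.q.g1.1 he hev
  set x := e * i with hx
  have hxK : x ∈ KP Y Φ := by
    intro a ha
    exact (hp.fix_iff hB c.hall c.q.g1.1 a).mpr ((c.q.g1.2 a).mpr ha)
  have hxv : x * v = v * x * t := by
    calc x * v = e * (i * v) := by rw [hx]; group
      _ = (e * v) * i * t := by rw [hp.wi hB hvv]; group
      _ = v * x * t := by rw [hev, hx]; group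
  have hex : e * x = x * e * t := by
    calc e * x = e * (e * i * t * t) := by rw [htt, hx]
      _ = e * (i * e) * t := by rw [hp.comm hB]; group
      _ = x * e * t := by rw [hx]; group
  set h := x * v' with hh
  have hhK : h ∈ KP Y Φ := (KP Y Φ).mul_mem hxK hv'K
  have hhv : h * v = v * h := by
    calc h * v = x * (v' * v) := by rw [hh]; group
      _ = (x * v) * v' * t := by rw [hrel]; group
      _ = v * h := by rw [hxv, hsw, htt, hh]; group
  have heh : e * h * e⁻¹ = h * t := by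
    rw [mul_inv_eq_iff_eq_mul]
    calc e * h = (e * x) * v' := by rw [hh]; group
      _ = x * (e * v') * t := by rw [hex, hsw]; group
      _ = h * t * e := by rw [hev', hsw, hh]; group
  obtain ⟨k, m, hm, hord⟩ := Nat.exists_eq_two_pow_mul_odd (orderOf_pos h).ne'
  set g := h ^ m with hg
  have hg1 : g ^ (2 ^ k) = 1 := by
    rw [hg, ← pow_mul, mul_comm, ← hord, pow_orderOf_eq_one]
  have hgK : g ∈ KP Y Φ := (KP Y Φ).pow_mem hhK m
  have hgv : g * v = v * g := ((show Commute h v from hhv).pow_left m).eq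
  have htm : t ^ m = t := by
    obtain ⟨j, rfl⟩ := hm
    rw [pow_succ, pow_mul, pow_two, hB.sq, one_pow, one_mul]
  have heg : e * g * e⁻¹ = g * t := by
    rw [hg, ← conj_pow, heh, (show Commute h t from htc h).mul_pow, htm]
  have hKM : ∀ u ∈ KP Y Φ, u ∈ MP Y Φ := by
    intro u hu
    exact mem_MP_of_maps (fun a ha => by rw [hu a ha]; exact ha)
  obtain ⟨n, hn, hnT⟩ := c.Ts (Subgroup.zpowers g) (by
    rw [Subgroup.zpowers_le]; exact hKM g hgK) (isPGroup_zpowers k hg1)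
  have h1 := c.mem_U (hnT g (Subgroup.mem_zpowers g)) (KP_conj hn hgK)
  have h2 : (n * g * n⁻¹) * (n * g * n⁻¹) = n * (g * g) * n⁻¹ := by group
  have hgg : g * g = 1 ∨ g * g = t := by
    rcases h1 with h1 | h1
    · left
      rw [h2] at h1
      calc g * g = n⁻¹ * (n * (g * g) * n⁻¹) * n := by group
        _ = 1 := by rw [h1]; group
    · right
      rw [h2] at h1
      calc g * g = n⁻¹ * (n * (g * g) * n⁻¹) * n := by group
        _ = t := by rw [h1, mul_assoc, ← htc n]; group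
  have hfin : e * g = g * e := by
    have hge : ∀ x : Y, (g = x ∨ g = x * t) → e * x = x * e → e * g = g * e := by
      rintro x (h | h) hx
      · rw [h]; exact hx
      · rw [h, hsw, ← mul_assoc, hx]
    rcases hgg with h3 | h3
    · refine hge 1 ?_ (by rw [mul_one, one_mul])
      rw [one_mul]
      exact c.q.g1.eq_of_sq hB hgK h3
    · exact hge v (c.q.g1.eq_of_comm hB hgK h3 hgv) hev
  rw [hfin, mul_inv_cancel_right] at heg
  apply hB.ne
  calc t = g⁻¹ * (g * t) := by group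
    _ = 1 := by rw [← heg]; group

end Ctx

/-- **5B**: if some bad `w` is inverted by an involution `≠ t`, then some such `w'` has
`NonIso t w'`. -/
theorem exists_nonIso [Finite Y] (hB : Base D t) {w : Y} (hw : BadInv D t w) :
    ∃ w' : Y, BadInv D t w' ∧ NonIso t w' := by
  by_contra hcon
  push Not at hcon
  obtain ⟨Φ, v, v', T, c⟩ := exists_ctx hB hcon hw
  exact c.false

end Cfsg.Agent.TwoGenCore.W2Main
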