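import Cfsg.Agent.TwoGenCore.RankTwo
import Cfsg.Agent.TwoGenCore.RankThree
import Cfsg.Agent.TwoGenCore.FiveMain
import Cfsg.Agent.TwoGenCore.ExistsBad
import Cfsg.Agent.TwoGenCore.W1
import Cfsg.Agent.TwoGenCore.W2Main
import Cfsg.Agent.TwoGenNine.RawToFive
import Cfsg.Agent.TwoGenNine.FusG
import Cfsg.Agent.TwoGenNine.SwapMain
import Cfsg.Agent.TwoGenNine.FullMain
import Cfsg.Agent.TwoGenNine.Close

/-!
# Simple groups with a proper 2-generated core: final assembly

Assembly of statement S1728 relative to its parents: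

* `FTStatement` : S0205;
* `CritHolds` : S1175;
* `BenderHolds`, and the list of Bender's theorem (S0222);
* `GoldHolds` : S1169;
* S0506 (abelian Sylow 2-subgroups), S1644 (`J₁`), S0482 (2-rank two).
-/

set_option autoImplicit false

namespace Cfsg.Agent.TwoGenCore.Final

open Subgroup Cfsg Cfsg.Agent.TwoGenCore.RankThree
open Cfsg.Agent.TwoGenCore.W2Base Cfsg.Agent.TwoGenCore.NonCycMain
open Cfsg.Agent.TwoGenNine Cfsg.Agent.TwoGenNine.FiveBasic
open Cfsg.Agent.StrongEmb.Split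

universe u

/-- **Sections 4-6**: the configuration `Conf` does not exist. -/
theorem false_of_conf (ft : Cfsg.Agent.NineCore.NoTarget.FTStatement.{u})
    (hAC : GenCrit.CritHolds.{u})
    (hBen : ∀ (K : Type u) [Group K] [Finite K], BenderHolds K) (hGold : ExistsBad.GoldHolds.{u})
    {G : Type u} [Group G] [Finite G] [IsSimpleGroup G] (hnc : ∃ a b : G, a * b ≠ b * a)
    (H : Subgroup G) (S : Sylow 2 G) (t : G) (hconf : Conf G H S t) : False := by
  have hB := hconf.base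
  have hC := Cen.of_base hB
  obtain ⟨w, hw⟩ := ExistsBad.exists_badInv hnc hAC hBen hGold hconf.noSE hconf.mem hconf.ord
    hconf.central hconf.unique hB
  obtain ⟨w₀, hw₀, hn₀⟩ := W2Main.exists_nonIso hB hw
  obtain ⟨X, P, j, h, S', -, -, hj, hS⟩ := SwapMain.exists_hyp hC
    (fun v hv hn => RawToFive.exists_five hC (W1.rawFive hAC hBen hB hv hn)) hw₀ hn₀
    (fun S' => FusG.fus hnc hconf.mem hconf.ord hconf.central S')
  obtain ⟨α, F⟩ := FullMain.full h
  refine Close.false_of_full ft hconf.ord F S' hj ?_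
  intro s hs
  rcases hS s hs with ⟨h1, -⟩ | ⟨h1, -⟩
  · left
    intro x hx
    have h2 := SylIn.conj_mem_cj (g := s) hx
    rwa [h1] at h2
  · right
    intro x hx
    have h2 := SylIn.conj_mem_cj (g := s) hx
    rwa [h1] at h2

/-- **Simple groups with a proper 2-generated core** (S1728) relative to its parents. -/
theorem main (ft : Cfsg.Agent.NineCore.NoTarget.FTStatement.{u})
    (hAC : GenCrit.CritHolds.{u})
    (hBen : ∀ (K : Type u) [Group K] [Finite K], BenderHolds K)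
    (hGold : ExistsBad.GoldHolds.{u}) (hB : NonCycAlt.BenderThm.{u})
    {G : Type u} [Group G] [Finite G] [IsSimpleGroup G]
    (hA : AbelianSylow G) (hJ : JOneThm G)
    (hSE : (∃ M : Subgroup G, IsStronglyEmbedded M) →
      (∃ (F : Type) (_ : Field F) (_ : Fintype F), (∃ n : ℕ, 2 ≤ n ∧ Fintype.card F = 2 ^ n) ∧
          Nonempty (G ≃* Matrix.ProjectiveSpecialLinearGroup (Fin 2) F)) ∨
        Cfsg.Lie.IsoSuzuki G ∨
        (∃ (F : Type) (_ : Field F) (_ : Fintype F) (n : ℕ), 2 ≤ n ∧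
          Fintype.card F = (2 ^ n) ^ 2 ∧ Nonempty (G ≃* Cfsg.PSU 3 F (2 ^ n))))
    (hTwo : Cfsg.PRankLE 2 2 G →
      (∃ (F : Type) (_ : Field F) (_ : Fintype F), Odd (Fintype.card F) ∧ 5 ≤ Fintype.card F ∧
        Nonempty (G ≃* Matrix.ProjectiveSpecialLinearGroup (Fin 2) F)) ∨
      (∃ (F : Type) (_ : Field F) (_ : Fintype F), Odd (Fintype.card F) ∧
        Nonempty (G ≃* Matrix.ProjectiveSpecialLinearGroup (Fin 3) F)) ∨
      (∃ (F : Type) (_ : Field F) (_ : Fintype F) (q : ℕ), Fintype.card F = q ^ 2 ∧ Odd q ∧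
        Nonempty (G ≃* Cfsg.PSU 3 F q)) ∨
      (∃ (F : Type) (_ : Field F) (_ : Fintype F), Fintype.card F = 16 ∧
        Nonempty (G ≃* Cfsg.PSU 3 F 4)) ∨
      Nonempty (G ≃* alternatingGroup (Fin 7)) ∨
      Cfsg.IsM11 G)
    (hG : ¬ IsMulCommutative G) (hc : Cfsg.HasProperTwoGeneratedCore G) :
    (∃ (F : Type) (_ : Field F) (_ : Fintype F), 3 ≤ Fintype.card F ∧
        Nonempty (G ≃* Matrix.ProjectiveSpecialLinearGroup (Fin 2) F)) ∨
      Cfsg.Lie.IsoSuzuki G ∨
      (∃ (F : Type) (_ : Field F) (_ : Fintype F) (n : ℕ), 1 ≤ n ∧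
        Fintype.card F = (2 ^ n) ^ 2 ∧ Nonempty (G ≃* Cfsg.PSU 3 F (2 ^ n))) ∨
      Cfsg.Spor.IsoM11 G ∨ Cfsg.Spor.IsoJ1 G := by
  have hnc : ∃ a b : G, a * b ≠ b * a := by
    by_contra hcon
    push Not at hcon
    exact hG ⟨⟨hcon⟩⟩
  by_cases hr : Cfsg.PRankLE 2 2 G
  · exact RankTwo.main hc (hTwo hr)
  · refine RankThree.of_false hc hr hSE ?_ ?_ ?_ hA hB hJ ?_
    · intro M z hM hz hzM h1 h2 h3
      exact hAC G M hM z hz hzM h1 h2 h3
    · intro H S hH _ hSH hrS _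
      exact FiveMain.five hAC hBen hH S hSH hrS
    · intro S A hA1 hA2 hA3
      exact hGold G S A hA1 hA2 hA3
    · exact false_of_conf ft hAC hBen hGold hnc

end Cfsg.Agent.TwoGenCore.Final
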