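import Cfsg.Agent.TwoGenCore.Connected
import Mathlib.GroupTheory.GroupAction.Jordan

/-!
# The alternating group of degree 7 has no proper 2-generated core
-/

set_option autoImplicit false

namespace Cfsg.Agent.TwoGenCore.AltSeven

open Cfsg Subgroup Cfsg.Agent.TwoGenCore Cfsg.Agent.TwoGenCore.Connected Equiv

abbrev A7 : Type := alternatingGroup (Fin 7)

/-- `(0 1)(2 3)` -/
def a : A7 := ⟨c[0, 1] * c[2, 3], by rw [Equiv.Perm.mem_alternatingGroup]; decide +kernel⟩
/-- `(0 2)(1 3)` -/
def b : A7 := ⟨c[0, 2] * c[1, 3], by rw [Equiv.Perm.mem_alternatingGroup]; decide +kernel⟩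
/-- `(0 1)(4 5)` -/
def c : A7 := ⟨c[0, 1] * c[4, 5], by rw [Equiv.Perm.mem_alternatingGroup]; decide +kernel⟩
/-- `(4 5 6)` -/
def u : A7 := ⟨c[4, 5, 6], by rw [Equiv.Perm.mem_alternatingGroup]; decide +kernel⟩
/-- `(0 1 2)` -/
def v : A7 := ⟨c[0, 1, 2], by rw [Equiv.Perm.mem_alternatingGroup]; decide +kernel⟩
/-- `(0 2 4)(1 3 5)` -/
def g : A7 := ⟨c[0, 2, 4] * c[1, 3, 5], by rw [Equiv.Perm.mem_alternatingGroup]; decide +kernel⟩

theorem aa : a * a = 1 := by decide +kernel
theorem bb : b * b = 1 := by decide +kernel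
theorem cc : c * c = 1 := by decide +kernel
theorem ab : a * b = b * a := by decide +kernel
theorem ac : a * c = c * a := by decide +kernel
theorem ca' : c * a * c⁻¹ = a := by decide +kernel
theorem cb' : c * b * c⁻¹ = a * b := by decide +kernel
theorem ua' : u * a * u⁻¹ = a := by decide +kernel
theorem ub' : u * b * u⁻¹ = b := by decide +kernel
theorem va' : v * a * v⁻¹ = a * b := by decide +kernel
theorem vb' : v * b * v⁻¹ = a := by decide +kernel
theorem ga' : g * a * g⁻¹ = a * c := by decide +kernel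
theorem gc' : g * c * g⁻¹ = a := by decide +kernel
theorem a_ne : a ≠ 1 := by decide +kernel
theorem b_ne : b ≠ 1 := by decide +kernel
theorem c_ne : c ≠ 1 := by decide +kernel
theorem a_ne_b : a ≠ b := by decide +kernel
theorem a_ne_c : a ≠ c := by decide +kernel

theorem u_three : (u : Perm (Fin 7)).IsThreeCycle := by
  rw [← card_support_eq_three_iff]
  decide +kernel

/-- Permutation group generated. -/
theorem eq_top {K : Subgroup A7} (hu : u ∈ K) (hv : v ∈ K) (hg : g ∈ K) : K = ⊤ := by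
  have htr : ∀ x : Fin 7, ∃ k ∈ K.map (alternatingGroup (Fin 7)).subtype, k 0 = x := by
    have hu' : (u : Perm (Fin 7)) ∈ K.map (alternatingGroup (Fin 7)).subtype := ⟨u, hu, rfl⟩
    have hv' : (v : Perm (Fin 7)) ∈ K.map (alternatingGroup (Fin 7)).subtype := ⟨v, hv, rfl⟩
    have hg' : (g : Perm (Fin 7)) ∈ K.map (alternatingGroup (Fin 7)).subtype := ⟨g, hg, rfl⟩
    intro x
    fin_cases x
    · exact ⟨1, one_mem _, rfl⟩
    · exact ⟨_, hv', by decide +kernel⟩
    · exact ⟨_, hg', by decide +kernel⟩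
    · exact ⟨_, mul_mem hg' hv', by decide +kernel⟩
    · exact ⟨_, mul_mem hg' hg', by decide +kernel⟩
    · exact ⟨_, mul_mem hu' (mul_mem hg' hg'), by decide +kernel⟩
    · exact ⟨_, mul_mem (mul_mem hu' hu') (mul_mem hg' hg'), by decide +kernel⟩
  have hpre : MulAction.IsPretransitive (K.map (alternatingGroup (Fin 7)).subtype) (Fin 7) := by
    refine ⟨fun x y => ?_⟩
    obtain ⟨k, hk, rfl⟩ := htr x
    obtain ⟨l, hl, rfl⟩ := htr y
    refine ⟨⟨l, hl⟩ * ⟨k, hk⟩⁻¹, ?_⟩
    show (l * k⁻¹) (k 0) = l 0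
    simp
  have hprim : MulAction.IsPreprimitive (K.map (alternatingGroup (Fin 7)).subtype) (Fin 7) :=
    MulAction.IsPreprimitive.of_prime_card (by rw [Nat.card_eq_fintype_card, Fintype.card_fin]; norm_num)
  have h := Equiv.Perm.alternatingGroup_le_of_isPreprimitive_of_isThreeCycle_mem hprim u_three
    ⟨u, hu, rfl⟩
  rw [eq_top_iff]
  intro x _
  obtain ⟨y, hy, hyx⟩ := h x.2
  have : y = x := Subtype.ext hyx
  rwa [← this]

/-- **The alternating group of degree 7 has no proper 2-generated core.** -/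
theorem not_hasProperTwoGeneratedCore {G : Type*} [Group G] [Finite G]
    (e : G ≃* alternatingGroup (Fin 7)) : ¬ HasProperTwoGeneratedCore G := by
  intro h
  have : Fact (Nat.Prime 2) := ⟨Nat.prime_two⟩
  obtain ⟨S, H, hSH, -, hH⟩ := exists_closed h
  let f : A7 →* G := e.symm.toMonoidHom
  have hf : Function.Injective f := e.symm.injective
  have hn1 : ∀ x : A7, x ≠ 1 → f x ≠ 1 := fun x hx h => hx (hf (by rw [h, map_one]))
  -- normalizers of four-groups
  have key : ∀ (K : Subgroup G), Closed K → ∀ (x y n : A7) (hx : x * x = 1) (hy : y * y = 1)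
      (hxy : x * y = y * x), x ≠ 1 → y ≠ 1 → x ≠ y → f x ∈ K → f y ∈ K →
      (n * x * n⁻¹ ∈ ({x, y, x * y} : Set A7)) → (n * y * n⁻¹ ∈ ({x, y, x * y} : Set A7)) →
      f n ∈ K := by
    intro K hK x y n hx hy hxy hx1 hy1 hne hxK hyK hnx hny
    have hx' : f x * f x = 1 := by rw [← map_mul, hx, map_one]
    have hy' : f y * f y = 1 := by rw [← map_mul, hy, map_one]
    have hxy' : f x * f y = f y * f x := by rw [← map_mul, hxy, map_mul]
    have hle := hK.2 (fourSub (f x) (f y) hx' hy' hxy') (fourSub_le hx' hy' hxy' hxK hyK)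
      (fourSub_isPGroup hx' hy' hxy')
      ⟨f x, left_mem_fourSub hx' hy' hxy', f y, right_mem_fourSub hx' hy' hxy', hn1 x hx1,
        hn1 y hy1, fun h => hne (hf h), hx', hy', hxy'⟩
    apply hle
    refine mem_normalizer_fourSub hx' hy' hxy' ?_ ?_
    · rcases hnx with h | h | h
      · rw [← map_inv, ← map_mul, ← map_mul, h]; exact left_mem_fourSub hx' hy' hxy'
      · rw [← map_inv, ← map_mul, ← map_mul, h]; exact right_mem_fourSub hx' hy' hxy'
      · rw [← map_inv, ← map_mul, ← map_mul, h, map_mul]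
        exact mul_mem (left_mem_fourSub hx' hy' hxy') (right_mem_fourSub hx' hy' hxy')
    · rcases hny with h | h | h
      · rw [← map_inv, ← map_mul, ← map_mul, h]; exact left_mem_fourSub hx' hy' hxy'
      · rw [← map_inv, ← map_mul, ← map_mul, h]; exact right_mem_fourSub hx' hy' hxy'
      · rw [← map_inv, ← map_mul, ← map_mul, h, map_mul]
        exact mul_mem (left_mem_fourSub hx' hy' hxy') (right_mem_fourSub hx' hy' hxy')
  -- the first four-group
  have hx' : f a * f a = 1 := by rw [← map_mul, aa, map_one]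
  have hy' : f b * f b = 1 := by rw [← map_mul, bb, map_one]
  have hxy' : f a * f b = f b * f a := by rw [← map_mul, ab, map_mul]
  obtain ⟨P, hP⟩ := (fourSub_isPGroup hx' hy' hxy').exists_le_sylow
  obtain ⟨t, ht⟩ := MulAction.exists_smul_eq G S P
  have hEH : fourSub (f a) (f b) hx' hy' hxy' ≤ H.map (MulAut.conj t).toMonoidHom := by
    intro x hx
    rw [mem_map_conj]
    apply hSH
    have h1 : x ∈ (P : Subgroup G) := hP hx
    rw [← ht, Sylow.coe_subgroup_smul, Subgroup.mem_pointwise_smul_iff_inv_smul_mem] at h1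
    simpa [MulAut.smul_def, MulAut.conj_apply, mul_assoc] using h1
  set K := H.map (MulAut.conj t).toMonoidHom with hK
  have hKc : Closed K := hH.conj t
  have haK : f a ∈ K := hEH (left_mem_fourSub hx' hy' hxy')
  have hbK : f b ∈ K := hEH (right_mem_fourSub hx' hy' hxy')
  have hcK : f c ∈ K := key K hKc a b c aa bb ab a_ne b_ne a_ne_b haK hbK
    (Or.inl ca') (Or.inr (Or.inr cb'))
  have huK : f u ∈ K := key K hKc a b u aa bb ab a_ne b_ne a_ne_b haK hbK
    (Or.inl ua') (Or.inr (Or.inl ub'))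
  have hvK : f v ∈ K := key K hKc a b v aa bb ab a_ne b_ne a_ne_b haK hbK
    (Or.inr (Or.inr va')) (Or.inl vb')
  have hgK : f g ∈ K := key K hKc a c g aa cc ac a_ne c_ne a_ne_c haK hcK
    (Or.inr (Or.inr ga')) (Or.inl gc')
  have htop : K.comap f = ⊤ := eq_top huK hvK hgK
  apply hKc.1
  rw [eq_top_iff]
  intro x _
  obtain ⟨y, rfl⟩ := e.symm.surjective x
  have : y ∈ K.comap f := by rw [htop]; trivial
  exact this

end Cfsg.Agent.TwoGenCore.AltSeven
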