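import Cfsg.Agent.TwoGenCore.GoodFusion

/-!
# Proper 2-generated cores: every 2-central involution is bad

Step (6) of helper463's proof (bb 1602).  The input `FiveOut` is the output of step (5) for an
extremal bad involution `t` such that the centre of `C_S(t)` contains an involution different
from `t`.
-/

set_option autoImplicit false

open scoped Pointwise

namespace Cfsg.Agent.TwoGenCore.GoodCentral

open Cfsg Cfsg.Agent.TwoGenCore.Involution Cfsg.Agent.TwoGenCore.GoodFusion

universe u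

variable {G : Type u} [Group G]

/-- Output of step (5): there is an elementary abelian `E₀ ≤ C_S(t)` of order at least 4 with
`t ∉ E₀`, every involution of `C_S(t)` lies in `⟨t⟩E₀`, and `C_G(t)` fuses `E₀ \ {1}`. -/
def FiveOut (S : Subgroup G) (t : G) : Prop :=
  ∃ E : Subgroup G, E ≤ S ∧ (∀ x ∈ E, Commute x t) ∧ (∀ x ∈ E, x * x = 1) ∧ t ∉ E ∧
    4 ≤ Nat.card E ∧ (∀ x ∈ S, Commute x t → x * x = 1 → x ∈ E ∨ t * x ∈ E) ∧
    ∀ x ∈ E, ∀ y ∈ E, x ≠ 1 → y ≠ 1 → ∃ c : G, Commute c t ∧ c * x * c⁻¹ = y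

/-- `Z(C_S(t))` contains an involution different from `t`. -/
def NonCyc (S : Subgroup G) (t : G) : Prop :=
  ∃ x ∈ S, orderOf x = 2 ∧ x ≠ t ∧ Commute x t ∧ ∀ s ∈ S, Commute s t → Commute s x

/-- The hypothesis that step (5) holds. -/
def Five (H S : Subgroup G) : Prop :=
  ∀ t ∈ S, orderOf t = 2 → Ext S t → Bad H t → NonCyc S t → FiveOut S t

/-- Aschbacher's criterion (S1175) for the group `G`. -/
def Criterion (G : Type u) [Group G] : Prop :=
  ∀ (M : Subgroup G) (z : G), M ≠ ⊤ → orderOf z = 2 → z ∈ M →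
    (∃ S : Sylow 2 G, z ∈ S ∧ ∀ s ∈ S, Commute s z) →
    (∀ g : G, g * z * g⁻¹ ∈ M → g ∈ M) →
    (∀ g : G, Commute z (g * z * g⁻¹) → g * z * g⁻¹ ≠ z →
      Subgroup.centralizer ({z * (g * z * g⁻¹)} : Set G) ≤ M) →
    ∃ H : Subgroup G, IsStronglyEmbedded H

theorem sq_eq_one {x : G} (h : orderOf x = 2) : x * x = 1 := by
  rw [← pow_two, ← h]; exact pow_orderOf_eq_one x

theorem orderOf_eq_two {x : G} (h : x * x = 1) (h1 : x ≠ 1) : orderOf x = 2 :=
  orderOf_eq_prime (by rw [pow_two]; exact h) h1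

theorem ne_one_of_orderOf {x : G} (h : orderOf x = 2) : x ≠ 1 := by
  rintro rfl; simp at h

/-- The number of involutions `≠ t` of the centre of a 2-group is even, while a class under a
group of odd order... : parity argument.  `S` Sylow, `t ∈ Z(S)` an involution, all other
involutions of `Z(S)` are conjugate to `z ∈ Z(S)`; then `t` is conjugate to `z` too (we derive
a contradiction from the existence of `z ≠ t`). -/
theorem parity [Finite G] (S : Sylow 2 G) {t z : G} (ht : orderOf t = 2) (htS : t ∈ S)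
    (htc : ∀ s ∈ S, Commute s t) (hz : orderOf z = 2) (hzS : z ∈ S) (hzc : ∀ s ∈ S, Commute s z)
    (hzt : ¬ IsConj z t)
    (hall : ∀ x ∈ S, (∀ s ∈ S, Commute s x) → orderOf x = 2 → x ≠ t → IsConj z x) : False := by
  classical
  -- the elementary abelian subgroup `Ω₁(Z(S))`
  have hfact : Fact (Nat.Prime 2) := ⟨Nat.prime_two⟩
  let A : Subgroup G :=
    { carrier := {x | x ∈ S ∧ (∀ s ∈ S, Commute s x) ∧ x * x = 1}
      one_mem' := ⟨one_mem _, fun s _ => Commute.one_right s, one_mul 1⟩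
      mul_mem' := by
        rintro a b ⟨ha, hac, ha2⟩ ⟨hb, hbc, hb2⟩
        refine ⟨mul_mem ha hb, fun s hs => (hac s hs).mul_right (hbc s hs), ?_⟩
        have hab : a * b = b * a := hbc a ha
        calc a * b * (a * b) = a * b * (b * a) := by rw [hab]
          _ = a * (b * b) * a := by group
          _ = 1 := by rw [hb2, mul_one, ha2]
      inv_mem' := by
        rintro a ⟨ha, hac, ha2⟩
        refine ⟨inv_mem ha, fun s hs => (hac s hs).inv_right, ?_⟩
        have : a⁻¹ = a := inv_eq_of_mul_eq_one_right ha2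
        rw [this, ha2] }
  have hmemA : ∀ x, x ∈ A ↔ x ∈ S ∧ (∀ s ∈ S, Commute s x) ∧ x * x = 1 := fun x => Iff.rfl
  have htA : t ∈ A := ⟨htS, htc, sq_eq_one ht⟩
  have hzA : z ∈ A := ⟨hzS, hzc, sq_eq_one hz⟩
  -- `|A|` is even
  have hAeven : 2 ∣ Nat.card A := by
    have h1 : orderOf (⟨t, htA⟩ : A) ∣ Nat.card A := orderOf_dvd_natCard _
    rwa [Subgroup.orderOf_mk, ht] at h1
  -- the conjugates of `z` under `N_G(S)`
  let N : Subgroup G := Subgroup.normalizer ((S : Subgroup G) : Set G)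
  let Θ : Set G := {x | x ∈ A ∧ x ≠ 1 ∧ x ≠ t}
  have hΘ : Θ = (fun n : G => n * z * n⁻¹) '' (N : Set G) := by
    ext x
    constructor
    · rintro ⟨⟨hxS, hxc, hx2⟩, hx1, hxt⟩
      have hxo : orderOf x = 2 := orderOf_eq_two hx2 hx1
      obtain ⟨g, hg⟩ := isConj_iff.mp (hall x hxS hxc hxo hxt)
      obtain ⟨n, hn, hnz⟩ := S.conj_eq_normalizer_conj_of_mem_centralizer z g⁻¹
        (by
          rw [Subgroup.mem_centralizer_iff]
          intro s hs; exact hzc s hs)
        (by
          rw [Subgroup.mem_centralizer_iff]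
          intro s hs
          rw [inv_inv, hg]
          exact hxc s hs)
      refine ⟨n⁻¹, N.inv_mem hn, ?_⟩
      show n⁻¹ * z * n⁻¹⁻¹ = x
      rw [inv_inv, ← hnz, inv_inv, hg]
    · rintro ⟨n, hn, rfl⟩
      have hnN := Subgroup.mem_normalizer_iff.mp hn
      refine ⟨⟨(hnN z).mp hzS, ?_, ?_⟩, ?_, ?_⟩
      · intro s hs
        have h1 : n⁻¹ * s * n ∈ (S : Subgroup G) := by
          have := (Subgroup.mem_normalizer_iff.mp (N.inv_mem hn) s).mp hs
          simpa using this
        have h2 : (n⁻¹ * s * n) * z = z * (n⁻¹ * s * n) := (hzc _ h1).eq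
        show s * (n * z * n⁻¹) = n * z * n⁻¹ * s
        calc s * (n * z * n⁻¹) = n * ((n⁻¹ * s * n) * z) * n⁻¹ := by group
          _ = n * (z * (n⁻¹ * s * n)) * n⁻¹ := by rw [h2]
          _ = n * z * n⁻¹ * s := by group
      · show n * z * n⁻¹ * (n * z * n⁻¹) = 1
        calc n * z * n⁻¹ * (n * z * n⁻¹) = n * (z * z) * n⁻¹ := by group
          _ = 1 := by rw [sq_eq_one hz]; group
      · intro h
        apply ne_one_of_orderOf hz
        have h1 : n * z * n⁻¹ = 1 := h
        have : z = n⁻¹ * (n * z * n⁻¹) * n := by group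
        rw [this, h1]; group
      · intro h
        exact hzt (isConj_iff.mpr ⟨n, h⟩)
  -- count `Θ` in two ways
  have hcard1 : Θ.ncard + 2 = Nat.card A := by
    have h1 : (A : Set G) = Θ ∪ {1, t} := by
      ext x
      simp only [Set.mem_union, Set.mem_insert_iff, Set.mem_singleton_iff]
      constructor
      · intro hx
        by_cases h1 : x = 1
        · exact Or.inr (Or.inl h1)
        by_cases h2 : x = t
        · exact Or.inr (Or.inr h2)
        exact Or.inl ⟨hx, h1, h2⟩
      · rintro (h | rfl | rfl)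
        · exact h.1
        · exact A.one_mem
        · exact htA
    have hdis : Disjoint Θ ({1, t} : Set G) := by
      rw [Set.disjoint_left]
      rintro x ⟨-, h1, h2⟩ (rfl | rfl)
      · exact h1 rfl
      · exact h2 rfl
    have h2 : (A : Set G).ncard = Θ.ncard + 2 := by
      rw [h1, Set.ncard_union_eq hdis (Set.toFinite _) (Set.toFinite _),
        Set.ncard_pair (ne_one_of_orderOf ht).symm]
    rw [← h2]
    rfl
  -- the orbit of `z` under `N` has odd length
  have hodd : Odd Θ.ncard := by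
    -- `Θ` is the orbit of `z` under the conjugation action of `N`
    let Z : Subgroup N := (Subgroup.centralizer ({z} : Set G)).subgroupOf N
    have hSZ : ((S : Subgroup G).subgroupOf N) ≤ Z := by
      intro x hx
      rw [Subgroup.mem_subgroupOf] at hx ⊢
      exact mem_centralizer_singleton.mpr (hzc _ hx)
    have hindex : ¬ 2 ∣ Z.index := by
      have h1 : Z.index ∣ ((S : Subgroup G).subgroupOf N).index := Subgroup.index_dvd_of_le hSZ
      have h2 : ((S : Subgroup G).subgroupOf N).index ∣ (S : Subgroup G).index :=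
        Subgroup.relIndex_dvd_index_of_le (Subgroup.le_normalizer)
      intro h
      exact S.not_dvd_index (h.trans (h1.trans h2))
    have hcardΘ : Θ.ncard = Z.index := by
      rw [hΘ]
      have hf : ∀ a b : N, (a : G) * z * (a : G)⁻¹ = (b : G) * z * (b : G)⁻¹ ↔ a⁻¹ * b ∈ Z := by
        intro a b
        rw [Subgroup.mem_subgroupOf, mem_centralizer_singleton]
        show _ ↔ ((a : G)⁻¹ * (b : G)) * z = z * ((a : G)⁻¹ * (b : G))
        constructor
        · intro h
          calc (a : G)⁻¹ * b * z = (a : G)⁻¹ * (b * z * (b : G)⁻¹) * b := by group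
            _ = (a : G)⁻¹ * (a * z * (a : G)⁻¹) * b := by rw [h]
            _ = z * ((a : G)⁻¹ * b) := by group
        · intro h
          calc (a : G) * z * (a : G)⁻¹ = a * (z * ((a : G)⁻¹ * b)) * (b : G)⁻¹ := by group
            _ = a * ((a : G)⁻¹ * b * z) * (b : G)⁻¹ := by rw [h]
            _ = b * z * (b : G)⁻¹ := by group
      let F : N ⧸ Z → G := Quotient.lift (fun a : N => (a : G) * z * (a : G)⁻¹) (by
        intro a b hab
        exact (hf a b).mpr (QuotientGroup.leftRel_apply.mp hab))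
      have hFinj : Function.Injective F := by
        intro x y
        induction x using QuotientGroup.induction_on with | H a => ?_
        induction y using QuotientGroup.induction_on with | H b => ?_
        intro h
        rw [QuotientGroup.eq]
        exact (hf a b).mp h
      have hrange : Set.range F = (fun n : G => n * z * n⁻¹) '' (N : Set G) := by
        ext x
        constructor
        · rintro ⟨y, rfl⟩
          induction y using QuotientGroup.induction_on with | H a => ?_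
          exact ⟨a, a.2, rfl⟩
        · rintro ⟨n, hn, rfl⟩
          exact ⟨((⟨n, hn⟩ : N) : N ⧸ Z), rfl⟩
      rw [← hrange, ← Set.image_univ, Set.ncard_image_of_injective _ hFinj, Set.ncard_univ]
      rfl
    rw [hcardΘ, ← Nat.not_even_iff_odd, even_iff_two_dvd]
    exact hindex
  rw [← Nat.not_even_iff_odd] at hodd
  apply hodd
  rw [even_iff_two_dvd]
  omega

/-- **Step (6).**  Every 2-central involution is bad. -/
theorem bad_of_two_central [Finite G] {H : Subgroup G} (hH : Closed H) (htop : H ≠ ⊤)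
    (S : Sylow 2 G) (hSH : (S : Subgroup G) ≤ H) (hr : ¬ PRankLE 2 1 (S : Subgroup G))
    (hSE : ¬ ∃ M : Subgroup G, IsStronglyEmbedded M) (hcrit : Criterion G)
    (hfive : Five H (S : Subgroup G)) {z : G} (hz : orderOf z = 2) (hzS : z ∈ S)
    (hzc : ∀ s ∈ S, Commute s z) : Bad H z := by
  by_contra hgood
  have hzH : z ∈ H := hSH hzS
  -- the criterion fails
  have hfail : ∃ g : G, Commute z (g * z * g⁻¹) ∧ g * z * g⁻¹ ≠ z ∧
      ¬ Subgroup.centralizer ({z * (g * z * g⁻¹)} : Set G) ≤ H := by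
    by_contra hcon
    push Not at hcon
    apply hSE
    refine hcrit H z htop hz hzH ⟨S, hzS, hzc⟩ ?_ ?_
    · intro g hg
      have : g⁻¹ ∈ H := Closed.mem_of_good hH hSH hr hzH hz hgood (by rw [inv_inv]; exact hg)
      simpa using H.inv_mem this
    · intro g h1 h2
      exact hcon g h1 h2
  obtain ⟨g, hcomm, hne, hbad⟩ := hfail
  set a := z with ha
  set b := g * z * g⁻¹ with hb
  have hb2 : orderOf b = 2 := by rw [hb, orderOf_conj]; exact hz
  have haa : a * a = 1 := sq_eq_one hz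
  have hbb : b * b = 1 := sq_eq_one hb2
  -- `t₀ = a b`
  have ht0 : orderOf (a * b) = 2 := by
    apply orderOf_eq_two
    · calc a * b * (a * b) = a * b * (b * a) := by rw [hcomm.eq]
        _ = a * (b * b) * a := by group
        _ = 1 := by rw [hbb, mul_one, haa]
    · intro h
      apply hne
      have : b = a⁻¹ := eq_inv_of_mul_eq_one_right h
      rw [this]
      exact inv_eq_of_mul_eq_one_right haa
  have hbH : b ∈ H := not_bad_iff.mp hgood (mem_centralizer_singleton.mpr hcomm.symm)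
  have ht0H : a * b ∈ H := H.mul_mem hzH hbH
  have ht0bad : Bad H (a * b) := by
    by_contra h
    exact hbad (not_bad_iff.mp h)
  -- extremal conjugate
  obtain ⟨g₁, hext⟩ := exists_ext S ht0
  set t := g₁ * (a * b) * g₁⁻¹ with ht
  have htS : t ∈ S := hext.1
  have hto : orderOf t = 2 := by rw [ht, orderOf_conj]; exact ht0
  have htbad : Bad H t := Closed.bad_conj hH hSH hr ht0H ht0 ht0bad (hSH htS)
  -- `a₁ = g₁ a g₁⁻¹` commutes with `t`
  have ha1t : Commute (g₁ * a * g₁⁻¹) t := by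
    show g₁ * a * g₁⁻¹ * (g₁ * (a * b) * g₁⁻¹) = g₁ * (a * b) * g₁⁻¹ * (g₁ * a * g₁⁻¹)
    calc g₁ * a * g₁⁻¹ * (g₁ * (a * b) * g₁⁻¹) = g₁ * (a * (a * b)) * g₁⁻¹ := by group
      _ = g₁ * (a * (b * a)) * g₁⁻¹ := by rw [hcomm.eq]
      _ = g₁ * (a * b) * g₁⁻¹ * (g₁ * a * g₁⁻¹) := by group
  have ha1o : orderOf (g₁ * a * g₁⁻¹) = 2 := by rw [orderOf_conj]; exact hz
  obtain ⟨c, hc, hcle⟩ := hext.2 (Subgroup.zpowers (g₁ * a * g₁⁻¹))
    (by rw [Subgroup.zpowers_le]; exact mem_centralizer_singleton.mpr ha1t)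
    (isPGroup_zpowers ha1o)
  have hct : Commute c t := mem_centralizer_singleton.mp hc
  set a₂ := c * (g₁ * a * g₁⁻¹) * c⁻¹ with ha₂
  have ha₂mem : a₂ ∈ (S : Subgroup G) ⊓ Subgroup.centralizer ({t} : Set G) :=
    hcle ⟨_, Subgroup.mem_zpowers _, rfl⟩
  have ha₂S : a₂ ∈ S := ha₂mem.1
  have ha₂t : Commute a₂ t := mem_centralizer_singleton.mp ha₂mem.2
  have ha₂o : orderOf a₂ = 2 := by rw [ha₂, orderOf_conj]; exact ha1o
  have ha₂conj : IsConj z a₂ := isConj_iff.mpr ⟨c * g₁, by rw [ha₂, ha]; group⟩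
  have htt : t * t = 1 := sq_eq_one hto
  -- `t a₂` is conjugate to `b`
  have hta₂ : t * a₂ = c * (g₁ * b * g₁⁻¹) * c⁻¹ := by
    have h1 : c * t * c⁻¹ = t := by rw [hct.eq, mul_inv_cancel_right]
    calc t * a₂ = (c * t * c⁻¹) * (c * (g₁ * a * g₁⁻¹) * c⁻¹) := by rw [h1, ha₂]
      _ = c * (g₁ * (a * b * a) * g₁⁻¹) * c⁻¹ := by rw [ht]; group
      _ = c * (g₁ * b * g₁⁻¹) * c⁻¹ := by
        have : a * b * a = b := by rw [hcomm.eq, mul_assoc, haa, mul_one]
        rw [this]
  have hta₂conj : IsConj z (t * a₂) :=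
    isConj_iff.mpr ⟨c * g₁ * g, by rw [hta₂, hb]; group⟩
  have hta₂1 : t * a₂ ≠ 1 := by
    intro h
    rw [h] at hta₂conj
    exact ne_one_of_orderOf hz (isConj_one_left.mp hta₂conj)
  -- `z` and `t` are not conjugate
  have hzt : ¬ IsConj z t := by
    intro h
    obtain ⟨k, hk⟩ := isConj_iff.mp h.symm
    apply hgood
    have h1 := Closed.bad_conj (g := k) hH hSH hr (hSH htS) hto htbad (by rw [hk]; exact hzH)
    rwa [hk] at h1
  have hzt' : z ≠ t := fun h => hzt (h ▸ IsConj.refl _)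
  -- apply step (5)
  obtain ⟨E, hES, hEt, hE2, htE, hE4, hEall, hEtr⟩ := hfive t htS hto hext htbad
    ⟨z, hzS, hz, hzt', hzc t htS |>.symm, fun s hs _ => hzc s hs⟩
  -- all involutions `≠ t` of `C_S(t)` are conjugate to `z`
  have key : ∃ e₁ ∈ E, e₁ ≠ 1 ∧ IsConj z e₁ ∧ IsConj z (t * e₁) := by
    rcases hEall a₂ ha₂S ha₂t (sq_eq_one ha₂o) with h | h
    · exact ⟨a₂, h, ne_one_of_orderOf ha₂o, ha₂conj, hta₂conj⟩
    · refine ⟨t * a₂, h, hta₂1, hta₂conj, ?_⟩
      rw [← mul_assoc, htt, one_mul]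
      exact ha₂conj
  obtain ⟨e₁, he₁E, he₁1, he₁z, hte₁z⟩ := key
  have hEz : ∀ e ∈ E, e ≠ 1 → IsConj z e ∧ IsConj z (t * e) := by
    intro e he he1
    obtain ⟨d, hd, hde⟩ := hEtr e₁ he₁E e he he₁1 he1
    refine ⟨he₁z.trans (isConj_iff.mpr ⟨d, hde⟩), hte₁z.trans (isConj_iff.mpr ⟨d, ?_⟩)⟩
    calc d * (t * e₁) * d⁻¹ = (d * t * d⁻¹) * (d * e₁ * d⁻¹) := by group
      _ = t * e := by rw [hd.eq, mul_inv_cancel_right, hde]
  have hall : ∀ x ∈ S, Commute x t → orderOf x = 2 → x ≠ t → IsConj z x := by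
    intro x hxS hxt hxo hxne
    rcases hEall x hxS hxt (sq_eq_one hxo) with h | h
    · exact (hEz x h (ne_one_of_orderOf hxo)).1
    · have h1 : t * x ≠ 1 := by
        intro h1
        apply hxne
        have : x = t⁻¹ := eq_inv_of_mul_eq_one_right h1
        rw [this]
        exact inv_eq_of_mul_eq_one_right htt
      have := (hEz _ h h1).2
      rwa [← mul_assoc, htt, one_mul] at this
  by_cases hTS : ∀ s ∈ S, Commute s t
  · -- `t` is central in `S`
    exact parity S hto htS hTS hz hzS hzc hzt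
      (fun x hxS hxc hxo hxt => hall x hxS (hTS x hxS) hxo hxt)
  · -- `C_S(t) < S`
    push Not at hTS
    -- an element of `N_S(C_S(t))` outside `C_S(t)`
    let T : Subgroup S := (Subgroup.centralizer ({t} : Set G)).subgroupOf (S : Subgroup G)
    have hTlt : T < ⊤ := by
      rw [lt_top_iff_ne_top]
      intro h
      obtain ⟨s, hs, hst⟩ := hTS
      apply hst
      have : (⟨s, hs⟩ : S) ∈ T := by rw [h]; trivial
      exact mem_centralizer_singleton.mp (Subgroup.mem_subgroupOf.mp this)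
    have hnil : Group.IsNilpotent S := S.2.isNilpotent
    obtain ⟨x, hxN, hxT⟩ := SetLike.exists_of_lt
      (Group.normalizerCondition_of_isNilpotent (G := S) T hTlt)
    have htT : (⟨t, htS⟩ : S) ∈ T :=
      Subgroup.mem_subgroupOf.mpr (mem_centralizer_singleton.mpr (Commute.refl t))
    have hx1 : x * ⟨t, htS⟩ * x⁻¹ ∈ T := (Subgroup.mem_normalizer_iff.mp hxN _).mp htT
    have hx2 : Commute ((x : G) * t * (x : G)⁻¹) t :=
      mem_centralizer_singleton.mp (Subgroup.mem_subgroupOf.mp hx1)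
    have hx3 : (x : G) * t * (x : G)⁻¹ ∈ S := mul_mem (mul_mem x.2 htS) (inv_mem x.2)
    have hx4 : (x : G) * t * (x : G)⁻¹ ≠ t := by
      intro h
      apply hxT
      rw [Subgroup.mem_subgroupOf, mem_centralizer_singleton]
      show (x : G) * t = t * (x : G)
      calc (x : G) * t = ((x : G) * t * (x : G)⁻¹) * x := by group
        _ = t * x := by rw [h]
    have hx5 := hall _ hx3 hx2 (by rw [orderOf_conj]; exact hto) hx4
    exact hzt (hx5.trans (isConj_iff.mpr ⟨(x : G)⁻¹, by group⟩))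

end Cfsg.Agent.TwoGenCore.GoodCentral
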