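import Mathlib
import Cfsg.Prelude.Def_ClassificationK
import Cfsg.Prelude.Def_Involutions
import Cfsg.Agent.TwoGenCore.Involution

/-!
# Proper 2-generated cores: fusion of involutions, good and bad involutions

`Bad H t` : some element commuting with `t` lies outside `H` (for an involution `t` of the closed
subgroup `H` this means that `t` fixes at least two cosets of `H`).

* `Closed.fusion` : if `t` and `g⁻¹tg` are involutions of `H` then `g ∈ C_G(t) H`;
* `Closed.bad_conj` : badness is invariant under conjugation (inside `H`);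
* `Closed.mem_of_good` : for a good involution `t` of `H`, `g⁻¹tg ∈ H` implies `g ∈ H`;
* `Ext S t` and `exists_ext` : extremal conjugates.
-/

set_option autoImplicit false

open scoped Pointwise

namespace Cfsg.Agent.TwoGenCore.GoodFusion

open Cfsg Cfsg.Agent.TwoGenCore.Involution

universe u

variable {G : Type u} [Group G]

/-- `t` is bad for `H` if `C_G(t)` is not contained in `H`. -/
def Bad (H : Subgroup G) (t : G) : Prop := ∃ c : G, Commute c t ∧ c ∉ H

theorem not_bad_iff {H : Subgroup G} {t : G} :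
    ¬ Bad H t ↔ Subgroup.centralizer ({t} : Set G) ≤ H := by
  constructor
  · intro h x hx
    rw [Subgroup.mem_centralizer_singleton_iff] at hx
    by_contra hxH
    exact h ⟨x, hx, hxH⟩
  · rintro h ⟨c, hc, hcH⟩
    exact hcH (h (Subgroup.mem_centralizer_singleton_iff.mpr hc.eq))

theorem mem_centralizer_singleton {t x : G} :
    x ∈ Subgroup.centralizer ({t} : Set G) ↔ Commute x t :=
  Subgroup.mem_centralizer_singleton_iff

/-- Every 2-subgroup of `K` is conjugate, by an element of `K`, into a given Sylow 2-subgroup. -/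
theorem exists_conj_le [Finite G] {p : ℕ} [Fact p.Prime] {K Q : Subgroup G} (T : Sylow p K)
    (hQ : IsPGroup p Q) (hQK : Q ≤ K) :
    ∃ c ∈ K, Q.map (MulAut.conj c).toMonoidHom ≤ (T : Subgroup K).map K.subtype := by
  have hQ' : IsPGroup p (Q.subgroupOf K) := hQ.comap_of_injective K.subtype K.subtype_injective
  obtain ⟨P, hP⟩ := hQ'.exists_le_sylow
  obtain ⟨c, hc⟩ := MulAction.exists_smul_eq K P T
  refine ⟨c, c.2, ?_⟩
  rintro _ ⟨x, hx, rfl⟩
  have h1 : (⟨x, hQK hx⟩ : K) ∈ (P : Subgroup K) := hP (Subgroup.mem_subgroupOf.mpr hx)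
  have h2 : c * ⟨x, hQK hx⟩ * c⁻¹ ∈ ((c • P : Sylow p K) : Subgroup K) := by
    rw [Sylow.coe_subgroup_smul, Subgroup.mem_pointwise_smul_iff_inv_smul_mem]
    simpa [MulAut.smul_def, MulAut.conj_apply, mul_assoc] using h1
  rw [hc] at h2
  exact ⟨_, h2, rfl⟩

theorem isPGroup_zpowers [Finite G] {t : G} (ht : orderOf t = 2) : IsPGroup 2 (Subgroup.zpowers t) := by
  rw [IsPGroup.iff_card]
  exact ⟨1, by rw [Nat.card_zpowers, ht, pow_one]⟩

theorem orderOf_conj (g t : G) : orderOf (g * t * g⁻¹) = orderOf t := by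
  have := orderOf_injective (MulAut.conj g).toMonoidHom (MulAut.conj g).injective t
  simpa [MulAut.conj_apply] using this

/-- In a 2-group of 2-rank at least two every involution commutes with another one. -/
theorem exists_commuting [Finite G] {X : Subgroup G} (hX : IsPGroup 2 X)
    (hr : ¬ PRankLE 2 1 X) {t : G} (ht : orderOf t = 2) (htX : t ∈ X) :
    ∃ s ∈ X, orderOf s = 2 ∧ Commute s t ∧ s ≠ t := by
  have hne : Nontrivial X := by
    refine ⟨⟨⟨t, htX⟩, 1, ?_⟩⟩
    intro h
    have : t = 1 := congrArg Subtype.val h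
    rw [this] at ht
    simp at ht
  have hnt : Nontrivial (Subgroup.center X) := hX.center_nontrivial
  have hcp : IsPGroup 2 (Subgroup.center X) := hX.to_subgroup _
  obtain ⟨n, hn, hcard⟩ := hcp.nontrivial_iff_card.mp hnt
  have hdvd : 2 ∣ Nat.card (Subgroup.center X) := by
    rw [hcard]; exact dvd_pow_self 2 (by omega)
  obtain ⟨z, hz⟩ := exists_prime_orderOf_dvd_card' 2 hdvd
  have hz2 : orderOf ((z : X) : G) = 2 := by
    rw [Subgroup.orderOf_coe, Subgroup.orderOf_coe]; exact hz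
  have hzc : ∀ x ∈ X, Commute ((z : X) : G) x := by
    intro x hx
    have := Subgroup.mem_center_iff.mp z.2 ⟨x, hx⟩
    exact (congrArg Subtype.val this).symm
  by_cases hzt : ((z : X) : G) = t
  · -- `t` is central: take any other involution
    by_contra hcon
    push Not at hcon
    apply hr
    intro A hA hA2
    rw [pow_one]
    -- all non-identity elements of `A` are equal to `t`
    have hAt : ∀ a ∈ A, a = 1 ∨ (a : G) = t := by
      intro a ha
      by_cases ha1 : a = 1
      · exact Or.inl ha1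
      · right
        by_contra hne2
        have ho : orderOf (a : G) = 2 := by
          rw [Subgroup.orderOf_coe]
          exact orderOf_eq_prime (hA2 a ha) ha1
        have hc : Commute (a : G) t := by rw [← hzt]; exact (hzc a a.2).symm
        exact hne2 (hcon (a : G) a.2 ho hc)
    by_contra hlt
    push Not at hlt
    have h3 : 2 < Nat.card A := hlt
    have hsub : (Set.univ : Set A) ⊆ {1} ∪ {a | ((a : X) : G) = t} := by
      intro a _
      rcases hAt a a.2 with h | h
      · left; exact Subtype.ext h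
      · right; exact h
    have hle : (Set.univ : Set A).ncard ≤ 2 := by
      refine (Set.ncard_le_ncard hsub (Set.toFinite _)).trans ?_
      refine (Set.ncard_union_le _ _).trans ?_
      have h1 : ({1} : Set A).ncard = 1 := Set.ncard_singleton _
      have h2 : ({a : A | ((a : X) : G) = t} : Set A).ncard ≤ 1 := by
        rw [Set.ncard_le_one_iff_subsingleton]
        intro a ha b hb
        exact Subtype.ext (Subtype.ext ((ha : _ = t).trans (hb : _ = t).symm))
      omega
    rw [Set.ncard_univ] at hle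
    omega
  · exact ⟨_, (z : X).2, hz2, hzc t htX, hzt⟩

section

variable [Finite G] {H : Subgroup G}

/-- An involution of `H` lies in a Sylow 2-subgroup of `G` contained in `H`. -/
theorem exists_sylow_mem {S : Sylow 2 G} (hSH : (S : Subgroup G) ≤ H) {t : G} (htH : t ∈ H)
    (ht : orderOf t = 2) : ∃ h ∈ H, h * t * h⁻¹ ∈ S := by
  obtain ⟨c, hc, hle⟩ := exists_conj_le (K := H) (S.subtype hSH) (isPGroup_zpowers ht)
    (by rw [Subgroup.zpowers_le]; exact htH)
  refine ⟨c, hc, ?_⟩
  obtain ⟨x, hx, hxt⟩ := hle ⟨t, Subgroup.mem_zpowers t, rfl⟩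
  have hxS : (x : G) ∈ S := hx
  rw [← show (x : G) = c * t * c⁻¹ from hxt]
  exact hxS

/-- For an involution `t` of `H`, `H ∩ C_G(t)` contains a Sylow 2-subgroup of `C_G(t)`, and it has
2-rank at least two. -/
theorem Closed.exists_sylow_centralizer (hH : Closed H) {S : Sylow 2 G}
    (hSH : (S : Subgroup G) ≤ H) (hr : ¬ PRankLE 2 1 (S : Subgroup G)) {t : G} (htH : t ∈ H)
    (ht : orderOf t = 2) :
    ∃ T : Sylow 2 (Subgroup.centralizer ({t} : Set G)),
      (T : Subgroup (Subgroup.centralizer ({t} : Set G))).map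
        (Subgroup.centralizer ({t} : Set G)).subtype ≤ H ∧
      ¬ PRankLE 2 1 ((T : Subgroup (Subgroup.centralizer ({t} : Set G))).map
        (Subgroup.centralizer ({t} : Set G)).subtype) := by
  set K := Subgroup.centralizer ({t} : Set G) with hK
  -- a four-group of `H ∩ C(t)`
  obtain ⟨h, hh, hhS⟩ := exists_sylow_mem hSH htH ht
  obtain ⟨s, hsS, hs2, hst, hne⟩ := exists_commuting S.2 hr
    (by rw [orderOf_conj]; exact ht) hhS
  -- conjugate back
  set s' := h⁻¹ * s * h with hs'
  have hs'H : s' ∈ H := H.mul_mem (H.mul_mem (H.inv_mem hh) (hSH hsS)) hh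
  have hs'2 : orderOf s' = 2 := by
    rw [hs', ← hs2]
    simpa using orderOf_conj h⁻¹ s
  have hs't : Commute s' t := by
    have h1 : s * (h * t * h⁻¹) = (h * t * h⁻¹) * s := hst.eq
    show s' * t = t * s'
    calc s' * t = h⁻¹ * (s * (h * t * h⁻¹)) * h := by rw [hs']; group
      _ = h⁻¹ * ((h * t * h⁻¹) * s) * h := by rw [h1]
      _ = t * s' := by rw [hs']; group
  have hs'ne : s' ≠ t := by
    intro h1
    apply hne
    rw [← h1, hs']
    group
  let X : Subgroup G := Subgroup.closure {s', t}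
  have hcomm : ∀ x ∈ ({s', t} : Set G), ∀ y ∈ ({s', t} : Set G), x * y = y * x := by
    rintro x (rfl | rfl) y (rfl | rfl)
    · rfl
    · exact hs't.eq
    · exact hs't.eq.symm
    · rfl
  have hsq : ∀ {a : G}, orderOf a = 2 → a ^ 2 = 1 := fun ha => by
    rw [← ha]; exact pow_orderOf_eq_one _
  have hXc : IsMulCommutative X := Subgroup.isMulCommutative_closure hcomm
  have hX2 : ∀ a ∈ X, a ^ 2 = 1 := by
    intro a ha
    induction ha using Subgroup.closure_induction with
    | mem x hx =>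
      rcases hx with rfl | rfl
      · exact hsq hs'2
      · exact hsq ht
    | one => exact one_pow 2
    | mul x y hx hy hx2 hy2 =>
      have hxy : x * y = y * x := congrArg Subtype.val (hXc.is_comm.comm ⟨x, hx⟩ ⟨y, hy⟩)
      have : Commute x y := hxy
      rw [this.mul_pow, hx2, hy2, one_mul]
    | inv x hx hx2 => rw [inv_pow, hx2, inv_one]
  have hXp : IsPGroup 2 X := fun x => ⟨1, by
    apply Subtype.ext
    show (x : G) ^ (2 ^ 1) = 1
    rw [pow_one]
    exact hX2 x x.2⟩
  have hsX : s' ∈ X := Subgroup.subset_closure (by simp)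
  have htX : t ∈ X := Subgroup.subset_closure (by simp)
  have hXr : ¬ PRankLE 2 1 X := not_pRankLE_of_commute hsX htX hs'2 ht hs't hs'ne
  have hXK : X ≤ K := by
    rw [Subgroup.closure_le]
    rintro x (rfl | rfl)
    · exact mem_centralizer_singleton.mpr hs't
    · exact mem_centralizer_singleton.mpr (Commute.refl _)
  have hXH : X ≤ H := by
    rw [Subgroup.closure_le]
    rintro x (rfl | rfl)
    · exact hs'H
    · exact htH
  have hHK := hH.subgroupOf K
  have hXr' : ¬ PRankLE 2 1 (X.subgroupOf K) := by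
    intro h1
    apply hXr
    rw [← pRankLE_map K.subtype K.subtype_injective, Subgroup.subgroupOf_map_subtype,
      inf_eq_left.mpr hXK] at h1
    exact h1
  obtain ⟨T, hXT, hTH, -⟩ := hHK.exists_sylow (X := X.subgroupOf K)
    (fun x hx => Subgroup.mem_subgroupOf.mpr (hXH (Subgroup.mem_subgroupOf.mp hx)))
    (hXp.comap_of_injective K.subtype K.subtype_injective) hXr'
  refine ⟨T, ?_, ?_⟩
  · rintro _ ⟨x, hx, rfl⟩
    exact Subgroup.mem_subgroupOf.mp (hTH hx)
  · rw [pRankLE_map K.subtype K.subtype_injective]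
    intro h1
    exact hXr' (pRankLE_mono hXT h1)

/-- **Fusion.**  If `t` and `g⁻¹tg` are involutions of the closed subgroup `H` then
`g ∈ C_G(t) H`. -/
theorem Closed.fusion (hH : Closed H) {S : Sylow 2 G}
    (hSH : (S : Subgroup G) ≤ H) (hr : ¬ PRankLE 2 1 (S : Subgroup G)) {t g : G} (htH : t ∈ H)
    (ht : orderOf t = 2) (hgt : g⁻¹ * t * g ∈ H) : ∃ c : G, Commute c t ∧ c * g ∈ H := by
  have ht' : orderOf (g⁻¹ * t * g) = 2 := by
    rw [← ht]; simpa using orderOf_conj g⁻¹ t
  have hex := Closed.exists_sylow_centralizer hH hSH hr htH ht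
  have hex' := Closed.exists_sylow_centralizer hH hSH hr hgt ht'
  set K := Subgroup.centralizer ({t} : Set G) with hK
  set K' := Subgroup.centralizer ({g⁻¹ * t * g} : Set G) with hK'
  obtain ⟨T, hTH, hTr⟩ := hex
  obtain ⟨T', hT'H, hT'r⟩ := hex'
  set X' := (T' : Subgroup K').map K'.subtype with hX'
  have hX'p : IsPGroup 2 X' := T'.2.map _
  set Q := X'.map (MulAut.conj g).toMonoidHom with hQ
  have hQK : Q ≤ K := by
    rintro _ ⟨x, hx, rfl⟩
    have hxK' : x ∈ K' := by
      obtain ⟨y, -, rfl⟩ := hx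
      exact y.2
    rw [hK', mem_centralizer_singleton] at hxK'
    rw [hK, mem_centralizer_singleton]
    have h1 : x * (g⁻¹ * t * g) = (g⁻¹ * t * g) * x := hxK'.eq
    show (g * x * g⁻¹) * t = t * (g * x * g⁻¹)
    calc (g * x * g⁻¹) * t = g * (x * (g⁻¹ * t * g)) * g⁻¹ := by group
      _ = g * ((g⁻¹ * t * g) * x) * g⁻¹ := by rw [h1]
      _ = t * (g * x * g⁻¹) := by group
  obtain ⟨c, hc, hle⟩ := exists_conj_le T (hX'p.map _) hQK
  refine ⟨c, mem_centralizer_singleton.mp hc, ?_⟩
  have hmap : Q.map (MulAut.conj c).toMonoidHom = X'.map (MulAut.conj (c * g)).toMonoidHom := by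
    rw [hQ, Subgroup.map_map]
    congr 1
    ext x
    simp [mul_assoc]
  rw [hmap] at hle
  refine hH.mem_of_le (X := X'.map (MulAut.conj (c * g)).toMonoidHom) (hle.trans hTH) ?_
    (hX'p.map _) ?_
  · exact Subgroup.map_mono hT'H
  · rwa [pRankLE_map _ (MulAut.conj (c * g)).injective]

/-- For a good involution `t` of `H`, `g⁻¹tg ∈ H` implies `g ∈ H`. -/
theorem Closed.mem_of_good (hH : Closed H) {S : Sylow 2 G}
    (hSH : (S : Subgroup G) ≤ H) (hr : ¬ PRankLE 2 1 (S : Subgroup G)) {t g : G} (htH : t ∈ H)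
    (ht : orderOf t = 2) (hgood : ¬ Bad H t) (hgt : g⁻¹ * t * g ∈ H) : g ∈ H := by
  obtain ⟨c, hc, hcg⟩ := Closed.fusion hH hSH hr htH ht hgt
  have hcH : c ∈ H := not_bad_iff.mp hgood (mem_centralizer_singleton.mpr hc)
  have := H.mul_mem (H.inv_mem hcH) hcg
  rwa [inv_mul_cancel_left] at this

/-- Badness is invariant under conjugation. -/
theorem Closed.bad_conj (hH : Closed H) {S : Sylow 2 G}
    (hSH : (S : Subgroup G) ≤ H) (hr : ¬ PRankLE 2 1 (S : Subgroup G)) {t g : G} (htH : t ∈ H)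
    (ht : orderOf t = 2) (hbad : Bad H t) (hgt : g * t * g⁻¹ ∈ H) : Bad H (g * t * g⁻¹) := by
  by_contra hgood
  have hg : g ∈ H := by
    refine Closed.mem_of_good hH hSH hr hgt (by rw [orderOf_conj]; exact ht) hgood ?_
    have : g⁻¹ * (g * t * g⁻¹) * g = t := by group
    rw [this]; exact htH
  obtain ⟨c, hc, hcH⟩ := hbad
  apply hcH
  have h1 : g * c * g⁻¹ ∈ H := by
    refine not_bad_iff.mp hgood (mem_centralizer_singleton.mpr ?_)
    show g * c * g⁻¹ * (g * t * g⁻¹) = g * t * g⁻¹ * (g * c * g⁻¹)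
    calc g * c * g⁻¹ * (g * t * g⁻¹) = g * (c * t) * g⁻¹ := by group
      _ = g * (t * c) * g⁻¹ := by rw [hc.eq]
      _ = g * t * g⁻¹ * (g * c * g⁻¹) := by group
  have h2 := H.mul_mem (H.mul_mem (H.inv_mem hg) h1) hg
  have e : g⁻¹ * (g * c * g⁻¹) * g = c := by group
  rwa [e] at h2

end

/-- `t` is extremal in `S`: `S ∩ C_G(t)` is a Sylow 2-subgroup of `C_G(t)`. -/
def Ext (S : Subgroup G) (t : G) : Prop :=
  t ∈ S ∧ ∀ Q : Subgroup G, Q ≤ Subgroup.centralizer ({t} : Set G) → IsPGroup 2 Q →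
    ∃ c ∈ Subgroup.centralizer ({t} : Set G),
      Q.map (MulAut.conj c).toMonoidHom ≤ S ⊓ Subgroup.centralizer ({t} : Set G)

/-- Every involution has an extremal conjugate. -/
theorem exists_ext [Finite G] (S : Sylow 2 G) {t : G} (ht : orderOf t = 2) :
    ∃ g : G, Ext (S : Subgroup G) (g * t * g⁻¹) := by
  set K := Subgroup.centralizer ({t} : Set G) with hK
  obtain ⟨T⟩ : Nonempty (Sylow 2 K) := inferInstance
  set X := (T : Subgroup K).map K.subtype with hX
  have hXp : IsPGroup 2 X := T.2.map _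
  obtain ⟨P, hXP⟩ := hXp.exists_le_sylow
  obtain ⟨g, hg⟩ := MulAction.exists_smul_eq G P S
  have hXS : X.map (MulAut.conj g).toMonoidHom ≤ S := by
    rintro _ ⟨x, hx, rfl⟩
    have h2 : g * x * g⁻¹ ∈ ((g • P : Sylow 2 G) : Subgroup G) := by
      rw [Sylow.coe_subgroup_smul, Subgroup.mem_pointwise_smul_iff_inv_smul_mem]
      simpa [MulAut.smul_def, MulAut.conj_apply, mul_assoc] using hXP hx
    rw [hg] at h2
    exact h2
  have htX : t ∈ X := by
    obtain ⟨c, hc, hle⟩ := exists_conj_le T (isPGroup_zpowers ht)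
      (by rw [Subgroup.zpowers_le]; exact mem_centralizer_singleton.mpr (Commute.refl _))
    have h1 := hle ⟨t, Subgroup.mem_zpowers t, rfl⟩
    have h2 : c * t * c⁻¹ = t := by
      rw [(mem_centralizer_singleton.mp hc).eq, mul_inv_cancel_right]
    have h3 : (MulAut.conj c).toMonoidHom t = t := h2
    rwa [h3] at h1
  refine ⟨g, hXS ⟨t, htX, rfl⟩, ?_⟩
  intro Q hQ hQp
  have hQ' : Q.map (MulAut.conj g⁻¹).toMonoidHom ≤ K := by
    rintro _ ⟨x, hx, rfl⟩
    have h1 := mem_centralizer_singleton.mp (hQ hx)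
    rw [hK, mem_centralizer_singleton]
    have h2 : x * (g * t * g⁻¹) = (g * t * g⁻¹) * x := h1.eq
    show (g⁻¹ * x * g⁻¹⁻¹) * t = t * (g⁻¹ * x * g⁻¹⁻¹)
    calc (g⁻¹ * x * g⁻¹⁻¹) * t = g⁻¹ * (x * (g * t * g⁻¹)) * g := by group
      _ = g⁻¹ * ((g * t * g⁻¹) * x) * g := by rw [h2]
      _ = t * (g⁻¹ * x * g⁻¹⁻¹) := by group
  obtain ⟨c, hc, hle⟩ := exists_conj_le T (hQp.map _) hQ'
  have hcK : g * c * g⁻¹ ∈ Subgroup.centralizer ({g * t * g⁻¹} : Set G) := by
    rw [mem_centralizer_singleton]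
    have h1 : c * t = t * c := (mem_centralizer_singleton.mp hc).eq
    show g * c * g⁻¹ * (g * t * g⁻¹) = g * t * g⁻¹ * (g * c * g⁻¹)
    calc g * c * g⁻¹ * (g * t * g⁻¹) = g * (c * t) * g⁻¹ := by group
      _ = g * (t * c) * g⁻¹ := by rw [h1]
      _ = g * t * g⁻¹ * (g * c * g⁻¹) := by group
  refine ⟨g * c * g⁻¹, hcK, ?_⟩
  rintro _ ⟨x, hx, rfl⟩
  refine ⟨?_, ?_⟩
  · have h1 : c * (g⁻¹ * x * g⁻¹⁻¹) * c⁻¹ ∈ X := hle ⟨_, ⟨x, hx, rfl⟩, rfl⟩
    have h2 := hXS ⟨_, h1, rfl⟩
    have e : (MulAut.conj g).toMonoidHom (c * (g⁻¹ * x * g⁻¹⁻¹) * c⁻¹) =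
        (MulAut.conj (g * c * g⁻¹)).toMonoidHom x := by
      simp [mul_assoc]
    rwa [e] at h2
  · have h1 := hQ hx
    exact Subgroup.mul_mem _ (Subgroup.mul_mem _ hcK h1) (Subgroup.inv_mem _ hcK)

end Cfsg.Agent.TwoGenCore.GoodFusion
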