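import Mathlib
import Cfsg.Agent.TwoGenCore.GoodFusion
import Cfsg.Agent.TwoGenCore.GoodCentral
import Cfsg.Agent.AschCrit.Basic

/-!
# The action of `C_G(t)` on the fixed points of `t` in `G ⧸ H`

`H` closed subgroup of `G` (contains the normalizers of its 2-subgroups of 2-rank at least two)
containing a Sylow 2-subgroup `S` of 2-rank at least two, `t` an involution of `H`.

* `Fix H t` : the fixed points of `t` on `G ⧸ H`, a `SubMulAction` of `centralizer {t}`;
* `trans` : `C_G(t)` is transitive on `Fix H t`;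
* `one` : an involution `i ≠ t` of `C_G(t)` fixes exactly one point of `Fix H t`;
* `nontriv` : if `t` is bad then `Fix H t` has at least two points;
* `swap` (Lemma K): if one involution `f ≠ t` of `Y` is conjugate to `ft` then all are.
-/

set_option autoImplicit false

open scoped Pointwise

namespace Cfsg.Agent.TwoGenCore.FixAction

open Cfsg Cfsg.Agent.TwoGenCore.Involution Cfsg.Agent.TwoGenCore.GoodFusion

universe u

variable {G : Type u} [Group G]

/-- The points of `G ⧸ H` fixed by `t`. -/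
def Fix (H : Subgroup G) (t : G) : SubMulAction (Subgroup.centralizer ({t} : Set G)) (G ⧸ H) where
  carrier := {x | t • x = x}
  smul_mem' := by
    rintro ⟨c, hc⟩ x hx
    rw [Subgroup.mem_centralizer_singleton_iff] at hc
    show t • (c • x) = c • x
    rw [smul_smul, ← hc, mul_smul]
    congr 1

theorem mem_fix {H : Subgroup G} {t : G} {x : G ⧸ H} : x ∈ Fix H t ↔ t • x = x := Iff.rfl

theorem smul_mk_eq_iff {H : Subgroup G} {t g : G} :
    t • (g : G ⧸ H) = (g : G ⧸ H) ↔ g⁻¹ * t * g ∈ H := by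
  have h1 : t • (g : G ⧸ H) = ((t * g : G) : G ⧸ H) := rfl
  rw [h1, eq_comm, QuotientGroup.eq, mul_assoc]

theorem mk_mem_fix {H : Subgroup G} {t g : G} :
    (g : G ⧸ H) ∈ Fix H t ↔ g⁻¹ * t * g ∈ H := smul_mk_eq_iff

variable [Finite G] {H : Subgroup G}

/-- `C_G(t)` is transitive on the fixed points of `t`. -/
theorem trans (hH : Closed H) {S : Sylow 2 G} (hSH : (S : Subgroup G) ≤ H)
    (hr : ¬ PRankLE 2 1 (S : Subgroup G)) {t : G} (htH : t ∈ H) (ht : orderOf t = 2)
    (a b : Fix H t) : ∃ y : Subgroup.centralizer ({t} : Set G), y • a = b := by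
  -- every point is a translate of `H`
  have key : ∀ a : Fix H t, ∃ c ∈ Subgroup.centralizer ({t} : Set G),
      c • (a : G ⧸ H) = ((1 : G) : G ⧸ H) := by
    rintro ⟨x, hx⟩
    obtain ⟨g, rfl⟩ := QuotientGroup.mk_surjective x
    have hg := mk_mem_fix.mp hx
    obtain ⟨c, hc, hcg⟩ := Closed.fusion hH hSH hr htH ht hg
    refine ⟨c, mem_centralizer_singleton.mpr hc, ?_⟩
    show ((c * g : G) : G ⧸ H) = ((1 : G) : G ⧸ H)
    rw [eq_comm, QuotientGroup.eq, inv_one, one_mul]
    exact hcg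
  obtain ⟨c, hc, hca⟩ := key a
  obtain ⟨d, hd, hdb⟩ := key b
  refine ⟨⟨d⁻¹ * c, (Subgroup.centralizer ({t} : Set G)).mul_mem (inv_mem hd) hc⟩, ?_⟩
  apply Subtype.ext
  show (d⁻¹ * c) • (a : G ⧸ H) = (b : G ⧸ H)
  rw [mul_smul, hca, ← hdb, inv_smul_smul]

/-- Two commuting different involutions of `G` fix exactly one common point of `G ⧸ H`. -/
theorem one_aux (hH : Closed H) {S : Sylow 2 G} (hSH : (S : Subgroup G) ≤ H) {i t : G}
    (ht : orderOf t = 2) (hi : orderOf i = 2) (hit : Commute i t) (hne : i ≠ t) :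
    ∃ a : G ⧸ H, (t • a = a ∧ i • a = a) ∧ ∀ b : G ⧸ H, t • b = b → i • b = b → b = a := by
  have hcomm : ∀ x ∈ ({i, t} : Set G), ∀ y ∈ ({i, t} : Set G), x * y = y * x := by
    rintro x (rfl | rfl) y (rfl | rfl)
    · rfl
    · exact hit.eq
    · exact hit.eq.symm
    · rfl
  have hsq : ∀ {a : G}, orderOf a = 2 → a ^ 2 = 1 := fun ha => by
    rw [← ha]; exact pow_orderOf_eq_one _
  set X : Subgroup G := Subgroup.closure {i, t} with hX
  have hXc : IsMulCommutative X := Subgroup.isMulCommutative_closure hcomm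
  have hX2 : ∀ a ∈ X, a ^ 2 = 1 := by
    intro a ha
    induction ha using Subgroup.closure_induction with
    | mem x hx =>
      rcases hx with rfl | rfl
      · exact hsq hi
      · exact hsq ht
    | one => exact one_pow 2
    | mul x y hx hy hx2 hy2 =>
      have hxy : x * y = y * x := congrArg Subtype.val (hXc.is_comm.comm ⟨x, hx⟩ ⟨y, hy⟩)
      have : Commute x y := hxy
      rw [this.mul_pow, hx2, hy2, one_mul]
    | inv x hx hx2 => rw [inv_pow, hx2, inv_one]
  have hXp : IsPGroup 2 X := fun x => ⟨1, by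
    apply Subtype.ext
    show (x : G) ^ (2 ^ 1) = 1
    rw [pow_one]
    exact hX2 x x.2⟩
  obtain ⟨P, hXP⟩ := hXp.exists_le_sylow
  obtain ⟨g, hg⟩ := MulAction.exists_smul_eq G P S
  have hmem : ∀ x ∈ X, g * x * g⁻¹ ∈ H := by
    intro x hx
    apply hSH
    have h2 : g * x * g⁻¹ ∈ ((g • P : Sylow 2 G) : Subgroup G) := by
      rw [Sylow.coe_subgroup_smul, Subgroup.mem_pointwise_smul_iff_inv_smul_mem]
      simpa [MulAut.smul_def, MulAut.conj_apply, mul_assoc] using hXP hx
    rw [hg] at h2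
    exact h2
  have hiX : i ∈ X := Subgroup.subset_closure (by simp)
  have htX : t ∈ X := Subgroup.subset_closure (by simp)
  refine ⟨((g⁻¹ : G) : G ⧸ H), ⟨?_, ?_⟩, ?_⟩
  · rw [smul_mk_eq_iff, inv_inv]; exact hmem t htX
  · rw [smul_mk_eq_iff, inv_inv]; exact hmem i hiX
  · intro b hb1 hb2
    obtain ⟨k, rfl⟩ := QuotientGroup.mk_surjective b
    have hk1 : k⁻¹ * t * k ∈ H := smul_mk_eq_iff.mp hb1
    have hk2 : k⁻¹ * i * k ∈ H := smul_mk_eq_iff.mp hb2
    show ((k : G) : G ⧸ H) = ((g⁻¹ : G) : G ⧸ H)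
    rw [QuotientGroup.eq]
    have hgi : orderOf (g * i * g⁻¹) = 2 := by rw [orderOf_conj]; exact hi
    have hgt : orderOf (g * t * g⁻¹) = 2 := by rw [orderOf_conj]; exact ht
    have hc : Commute (g * i * g⁻¹) (g * t * g⁻¹) := by
      show g * i * g⁻¹ * (g * t * g⁻¹) = g * t * g⁻¹ * (g * i * g⁻¹)
      calc g * i * g⁻¹ * (g * t * g⁻¹) = g * (i * t) * g⁻¹ := by group
        _ = g * (t * i) * g⁻¹ := by rw [hit.eq]
        _ = _ := by group
    have hne' : g * i * g⁻¹ ≠ g * t * g⁻¹ := by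
      intro h
      exact hne (mul_left_cancel (mul_right_cancel h))
    have := hH.mem_of_commute (g := g * k) (hmem i hiX) (hmem t htX)
      (by
        have e : (g * k)⁻¹ * (g * i * g⁻¹) * (g * k) = k⁻¹ * i * k := by group
        rw [e]; exact hk2)
      (by
        have e : (g * k)⁻¹ * (g * t * g⁻¹) * (g * k) = k⁻¹ * t * k := by group
        rw [e]; exact hk1) hgi hgt hc hne'
    have h3 := H.inv_mem this
    rwa [mul_inv_rev] at h3

/-- An involution `i ≠ t` of `C_G(t)` fixes exactly one point of `Fix H t`. -/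
theorem one (hH : Closed H) {S : Sylow 2 G} (hSH : (S : Subgroup G) ≤ H) {t : G}
    (ht : orderOf t = 2) (i : Subgroup.centralizer ({t} : Set G)) (hi : i * i = 1) (hi1 : i ≠ 1)
    (hit : (i : G) ≠ t) : ∃! a : Fix H t, i • a = a := by
  have hi2 : orderOf (i : G) = 2 := by
    apply orderOf_eq_prime
    · rw [pow_two]; exact congrArg Subtype.val hi
    · intro h; exact hi1 (Subtype.ext h)
  have hcomm : Commute (i : G) t := mem_centralizer_singleton.mp i.2
  obtain ⟨a, ⟨h1, h2⟩, h3⟩ := one_aux hH hSH ht hi2 hcomm hit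
  refine ⟨⟨a, h1⟩, Subtype.ext h2, ?_⟩
  rintro ⟨b, hb⟩ hb2
  apply Subtype.ext
  exact h3 b hb (congrArg Subtype.val hb2)

omit [Finite G] in
/-- The trivial point. -/
theorem one_mem_fix {t : G} (htH : t ∈ H) : ((1 : G) : G ⧸ H) ∈ Fix H t := by
  rw [mk_mem_fix]; simpa using htH

omit [Finite G] in
/-- A bad involution has at least two fixed points. -/
theorem nontriv {t : G} (htH : t ∈ H) (hb : Bad H t) : ∃ a b : Fix H t, a ≠ b := by
  obtain ⟨c, hc, hcH⟩ := hb
  refine ⟨⟨_, one_mem_fix htH⟩, ⟨((c : G) : G ⧸ H), ?_⟩, ?_⟩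
  · rw [mk_mem_fix]
    have : c⁻¹ * t * c = t := by rw [mul_assoc, ← hc.eq]; group
    rw [this]; exact htH
  · intro h
    have h1 := congrArg Subtype.val h
    have h2 : ((1 : G) : G ⧸ H) = ((c : G) : G ⧸ H) := h1
    rw [QuotientGroup.eq, inv_one, one_mul] at h2
    exact hcH h2

end Cfsg.Agent.TwoGenCore.FixAction

namespace Cfsg.Agent.TwoGenCore.FixAction

section Swap

variable {Y D : Type*} [Group Y] [Finite Y] [MulAction Y D]

/-- **Lemma K.**  If some involution `f ≠ t` is conjugate to `f t`, then all are. -/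
theorem swap {t : Y} (hc : ∀ g : Y, g * t = t * g) (hsq : t * t = 1) (hne : t ≠ 1)
    (one : ∀ i : Y, i * i = 1 → i ≠ 1 → i ≠ t → ∃! a : D, i • a = a)
    (trans : ∀ a b : D, ∃ g : Y, g • a = b) (nontriv : ∃ a b : D, a ≠ b)
    {f : Y} (hf : f * f = 1) (hf1 : f ≠ 1) (hft : f ≠ t) (hfc : IsConj f (f * t))
    {e : Y} (he : e * e = 1) (he1 : e ≠ 1) (het : e ≠ t) : IsConj e (e * t) := by
  have ho : ∀ {x : Y}, x * x = 1 → x ≠ 1 → orderOf x = 2 := fun h h1 =>
    orderOf_eq_prime (by rw [pow_two]; exact h) h1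
  -- conjugation commutes with multiplication by `t`
  have hmul : ∀ {x y : Y}, IsConj x y → IsConj (x * t) (y * t) := by
    intro x y hxy
    obtain ⟨g, rfl⟩ := isConj_iff.mp hxy
    refine isConj_iff.mpr ⟨g, ?_⟩
    calc g * (x * t) * g⁻¹ = g * x * (t * g⁻¹) := by group
      _ = g * x * (g⁻¹ * t) := by rw [hc g⁻¹]
      _ = g * x * g⁻¹ * t := by group
  by_contra hcon
  obtain ⟨a, ha, hau⟩ := one e he he1 het
  -- a conjugate `f'` of `f` with another fixed point
  obtain ⟨f', hf'c, hf', hf'1, hf't, b, hb, hbu, hab⟩ : ∃ f' : Y, IsConj f f' ∧ f' * f' = 1 ∧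
      f' ≠ 1 ∧ f' ≠ t ∧ ∃ b : D, f' • b = b ∧ (∀ c : D, f' • c = c → c = b) ∧ b ≠ a := by
    obtain ⟨b₀, hb₀, hb₀u⟩ := one f hf hf1 hft
    obtain ⟨c, hca⟩ : ∃ c : D, c ≠ a := by
      obtain ⟨x, y, hxy⟩ := nontriv
      by_cases h : x = a
      · exact ⟨y, fun h' => hxy (h.trans h'.symm)⟩
      · exact ⟨x, h⟩
    obtain ⟨g, hg⟩ := trans b₀ c
    refine ⟨g * f * g⁻¹, isConj_iff.mpr ⟨g, rfl⟩, ?_, ?_, ?_, c, ?_, ?_, hca⟩
    · calc g * f * g⁻¹ * (g * f * g⁻¹) = g * (f * f) * g⁻¹ := by group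
        _ = 1 := by rw [hf]; group
    · intro h
      exact hf1 (conj_eq_one_iff.mp h)
    · intro h
      apply hft
      calc f = g⁻¹ * (g * f * g⁻¹) * g := by group
        _ = g⁻¹ * (t * g) := by rw [h, mul_assoc]
        _ = g⁻¹ * (g * t) := by rw [hc g]
        _ = t := by group
    · rw [← hg, mul_smul, mul_smul, inv_smul_smul, hb₀]
    · intro d hd
      have : f • (g⁻¹ • d) = g⁻¹ • d := by
        have h1 : g⁻¹ • ((g * f * g⁻¹) • d) = g⁻¹ • d := by rw [hd]
        rw [smul_smul] at h1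
        rw [smul_smul]
        rw [← h1]
        congr 1
        group
      have h2 := hb₀u _ this
      rw [← hg, ← h2, smul_inv_smul]
  have hf'c' : IsConj f' (f' * t) := hf'c.symm.trans (hfc.trans (hmul hf'c))
  by_cases hodd : Odd (orderOf (e * f'))
  · -- then `e` and `f'` are conjugate
    obtain ⟨j, -, -, hj, -⟩ := AschCrit.Basic.exists_swap_conj e f' (ho he he1) (ho hf' hf'1) hodd
    have hcj : IsConj e f' := isConj_iff.mpr ⟨j, hj⟩
    exact hcon (hcj.trans (hf'c'.trans (hmul hcj.symm)))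
  · obtain ⟨w, -, hw2, hwe, hwf, hwc⟩ :=
      AschCrit.Basic.exists_central e f' (ho he he1) (ho hf' hf'1) (orderOf_pos _) hodd
    have hww : w * w = 1 := by rw [← pow_two, ← hw2]; exact pow_orderOf_eq_one w
    have hw1 : w ≠ 1 := by
      intro h; rw [h, orderOf_one] at hw2; exact absurd hw2 (by norm_num)
    by_cases hwt : w = t
    · subst hwt
      rcases hwc with h | h
      · exact hcon h
      · -- `f' ~ e t`, `f' ~ f' t`
        have h1 : IsConj (f' * w) (e * w * w) := hmul h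
        rw [mul_assoc e, hsq, mul_one] at h1
        exact hcon (h1.symm.trans (hf'c'.symm.trans h))
    · -- the fixed point of `w` is fixed by both
      obtain ⟨d, hd, hdu⟩ := one w hww hw1 hwt
      have hed : e • d = d := by
        apply hdu
        rw [smul_smul, hwe.eq, mul_smul, hd]
      have hfd : f' • d = d := by
        apply hdu
        rw [smul_smul, hwf.eq, mul_smul, hd]
      have h1 : d = a := (hau d hed)
      have h2 : d = b := hbu d hfd
      exact hab (h2.symm.trans h1)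

end Swap

end Cfsg.Agent.TwoGenCore.FixAction
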