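import Mathlib
import Cfsg.Agent.TwoGenCore.FixAction
import Cfsg.Agent.TwoGenCore.W2Base
import Cfsg.Agent.Dichotomy.Elem
import Cfsg.Agent.Classification.NonConnSetup

/-!
# The basic hypotheses for `C_G(t)` acting on the fixed points of `t`

`base` : `H` closed, `S ≤ H` a Sylow 2-subgroup of `G` of 2-rank at least 3, `t` the only involution
of `Z(S)`, `t` bad.  Then `W2Base.Base (Fix H t) t` holds for `C_G(t)`.
-/

set_option autoImplicit false

namespace Cfsg.Agent.TwoGenCore.BaseFix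

open Cfsg Cfsg.Agent.TwoGenCore.Involution Cfsg.Agent.TwoGenCore.GoodFusion
open Cfsg.Agent.TwoGenCore.FixAction Cfsg.Agent.TwoGenCore.W2Base
open scoped Pointwise

universe u

/-- In a group of 2-rank at least 3 every Sylow 2-subgroup contains an elementary abelian subgroup
of order at least 8. -/
theorem exists_big {Y : Type u} [Group Y] [Finite Y] (h3 : ¬ PRankLE 2 2 Y) (T : Sylow 2 Y) :
    ∃ B : Subgroup Y, B ≤ T ∧ Dichotomy.Elem.Big B := by
  obtain ⟨E, hE, hE2⟩ := Classification.NonConnSetup.exists_eight h3 T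
  refine ⟨E.map (T : Subgroup Y).subtype, Subgroup.map_subtype_le E, ?_⟩
  refine Dichotomy.Elem.big_map (A := E) ⟨Dichotomy.Elem.isElementaryAbelian_of ?_ ?_, ?_⟩
    (T : Subgroup Y).subtype_injective
  · intro a ha b hb
    have h1 := hE2 a ha
    have h2 := hE2 b hb
    have h3 := hE2 _ (E.mul_mem ha hb)
    exact S0502.comm_of_sq h1 h2 h3
  · intro a ha
    rw [← pow_two]; exact hE2 a ha
  · rw [hE]; norm_num

/-- In a group of 2-rank at least 3, four elements of a big subgroup can be avoided. -/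
theorem exists_pair {Y : Type u} [Group Y] [Finite Y] {B : Subgroup Y} (hB : Dichotomy.Elem.Big B)
    (t : Y) : ∃ e ∈ B, ∃ f ∈ B, e * e = 1 ∧ f * f = 1 ∧ e * f = f * e ∧
      e ≠ 1 ∧ e ≠ t ∧ f ≠ 1 ∧ f ≠ t ∧ f ≠ e ∧ f ≠ e * t := by
  classical
  have key : ∀ F : Finset Y, F.card < 8 → ∃ e ∈ B, e ∉ F := by
    intro F hF
    by_contra hcon
    push Not at hcon
    have hsub : (B : Set Y) ⊆ (F : Set Y) := fun x hx => hcon x hx
    have h1 : (B : Set Y).ncard ≤ (F : Set Y).ncard := Set.ncard_le_ncard hsub (Finset.finite_toSet F)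
    rw [Set.ncard_coe_finset, ← Nat.card_coe_set_eq] at h1
    have h2 : 2 ^ 3 ≤ Nat.card B := hB.2
    have h3 : Nat.card B ≤ F.card := h1
    omega
  obtain ⟨e, he, heF⟩ := key {1, t} (lt_of_le_of_lt Finset.card_le_two (by norm_num))
  obtain ⟨f, hf, hfF⟩ := key {1, t, e, e * t} (lt_of_le_of_lt Finset.card_le_four (by norm_num))
  simp only [Finset.mem_insert, Finset.mem_singleton, not_or] at heF hfF
  exact ⟨e, he, f, hf, Dichotomy.Elem.elem_sq hB.1 he, Dichotomy.Elem.elem_sq hB.1 hf,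
    Dichotomy.Elem.elem_comm hB.1 e he f hf, heF.1, heF.2, hfF.1, hfF.2.1, hfF.2.2.1, hfF.2.2.2⟩

variable {G : Type u} [Group G] [Finite G] {H : Subgroup G}

/-- **Base.** -/
theorem base (hH : Closed H) {S : Sylow 2 G} (hSH : (S : Subgroup G) ≤ H)
    (hr3 : ¬ PRankLE 2 2 (S : Subgroup G)) {t : G} (htS : t ∈ S) (ht : orderOf t = 2)
    (htc : ∀ s ∈ S, Commute s t) (hbad : Bad H t)
    (hz : ∀ z ∈ S, orderOf z = 2 → (∀ s ∈ S, Commute s z) → z = t) :
    Base (Fix H t) (⟨t, mem_centralizer_singleton.mpr (Commute.refl t)⟩ :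
      Subgroup.centralizer ({t} : Set G)) := by
  have hr1 : ¬ PRankLE 2 1 (S : Subgroup G) := by
    intro h1
    apply hr3
    intro A hA hA2
    exact (h1 A hA hA2).trans (by norm_num)
  have htH : t ∈ H := hSH htS
  set Y := Subgroup.centralizer ({t} : Set G) with hY
  have hSY : (S : Subgroup G) ≤ Y := fun s hs => mem_centralizer_singleton.mpr (htc s hs)
  have htt : t * t = 1 := by rw [← pow_two, ← ht]; exact pow_orderOf_eq_one t
  have ht1 : t ≠ 1 := by rintro rfl; simp at ht
  have hYr : ¬ PRankLE 2 2 Y := by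
    intro h1
    apply hr3
    exact pRankLE_of_injective (Subgroup.inclusion hSY) (Subgroup.inclusion_injective hSY) h1
  have hcen : ∀ g : Y, g * ⟨t, mem_centralizer_singleton.mpr (Commute.refl t)⟩ =
      ⟨t, mem_centralizer_singleton.mpr (Commute.refl t)⟩ * g := fun g =>
    Subtype.ext (mem_centralizer_singleton.mp g.2).eq
  set t' : Y := ⟨t, mem_centralizer_singleton.mpr (Commute.refl t)⟩ with ht'
  have ht'1 : t' ≠ 1 := fun h => ht1 (congrArg Subtype.val h)
  have ht'sq : t' * t' = 1 := Subtype.ext htt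
  have hone : ∀ i : Y, i * i = 1 → i ≠ 1 → i ≠ t' → ∃! a : Fix H t, i • a = a := by
    intro i hi hi1 hit
    exact one hH hSH ht i hi hi1 (fun h => hit (Subtype.ext h))
  have hfour : ∀ T : Sylow 2 Y, ∃ e ∈ T, e * e = 1 ∧ e ≠ 1 ∧ e ≠ t' ∧
      ∀ s ∈ T, s * e * s⁻¹ = e ∨ s * e * s⁻¹ = e * t' := by
    intro T
    obtain ⟨B, hBT, hB⟩ := exists_big hYr T
    have htT : t' ∈ T := by
      obtain ⟨y, hy⟩ := MulAction.exists_smul_eq Y (S.subtype hSY) T
      have h1 : t' ∈ ((y • S.subtype hSY : Sylow 2 Y) : Subgroup Y) := by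
        rw [Sylow.coe_subgroup_smul, Subgroup.mem_pointwise_smul_iff_inv_smul_mem]
        have h2 : y⁻¹ * t' * y = t' := by rw [mul_assoc, ← hcen y, ← mul_assoc, inv_mul_cancel, one_mul]
        have h3 : (MulAut.conj y)⁻¹ • t' = t' := by
          simpa [MulAut.smul_def, MulAut.conj_apply, mul_assoc] using h2
        rw [h3]
        exact htS
      rw [hy] at h1
      exact h1
    obtain ⟨e, heT, he, he1, het, hconj⟩ := Dichotomy.Elem.exists_e T.2 hBT hB htT ht'sq ht'1
      (fun x _ => hcen x)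
    refine ⟨e, heT, he, he1, het, fun s hs => ?_⟩
    rcases hconj s hs with h | h
    · exact Or.inl h
    · right; rw [h, hcen]
  refine ⟨hcen, ht'1, ht'sq, ?_, hone, trans hH hSH hr1 htH ht, nontriv htH hbad, ?_, ?_, hfour⟩
  · intro a
    exact Subtype.ext a.2
  · -- (4.1)
    obtain ⟨e, heT, he, he1, het, hconj⟩ := hfour (S.subtype hSY)
    have heS : (e : G) ∈ S := heT
    have hex : ∃ s ∈ S, ¬ Commute s (e : G) := by
      by_contra hcon
      push Not at hcon
      apply het
      apply Subtype.ext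
      refine hz e heS ?_ hcon
      apply orderOf_eq_prime
      · rw [pow_two]; exact congrArg Subtype.val he
      · intro h; exact he1 (Subtype.ext h)
    obtain ⟨s, hsS, hs⟩ := hex
    have hfc : IsConj e (e * t') := by
      rcases hconj ⟨s, hSY hsS⟩ hsS with h | h
      · exfalso
        apply hs
        have h1 : s * (e : G) * s⁻¹ = e := congrArg Subtype.val h
        exact mul_inv_eq_iff_eq_mul.mp h1
      · exact isConj_iff.mpr ⟨_, h⟩
    intro i hi hi1 hit
    exact swap (D := Fix H t) hcen ht'sq ht'1 hone (trans hH hSH hr1 htH ht) (nontriv htH hbad)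
      he he1 het hfc hi hi1 hit
  · intro T
    obtain ⟨B, hBT, hB⟩ := exists_big hYr T
    obtain ⟨e, he, f, hf, h⟩ := exists_pair hB t'
    exact ⟨e, hBT he, f, hBT hf, h⟩

end Cfsg.Agent.TwoGenCore.BaseFix
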