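import Cfsg.Agent.Dichotomy.Elem
import Cfsg.Agent.Transfer.ThompsonTransfer
import Cfsg.Agent.TwoGenCore.GoodFusion

/-!
# In a group of 2-rank at least 3 without subgroups of index 2, every involution lies in an
elementary abelian subgroup of order 8

(The same statement as `Dichotomy.TransferBig.exists_big_mem`, without its functor hypothesis.)
-/

set_option autoImplicit false

namespace Cfsg.Agent.TwoGenCore.BigCent

open Cfsg
open Cfsg.Agent.Dichotomy.Elem

universe u

variable {G : Type u} [Group G]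

theorem card_le_two [Finite G] {A B : Subgroup G} (a₀ : G)
    (h : ∀ a ∈ A, a ∈ B ∨ a₀ * a ∈ B) : Nat.card A ≤ 2 * Nat.card B := by
  have h1 : (A : Set G) ⊆ (B : Set G) ∪ (fun x => a₀⁻¹ * x) '' (B : Set G) := by
    intro a ha
    rcases h a ha with hb | hb
    · left; exact hb
    · right; exact ⟨a₀ * a, hb, by simp⟩
  have h2 := (Set.ncard_le_ncard h1 (Set.toFinite _)).trans (Set.ncard_union_le _ _)
  have h3 : ((fun x => a₀⁻¹ * x) '' (B : Set G)).ncard ≤ (B : Set G).ncard :=
    Set.ncard_image_le (Set.toFinite _)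
  have h4 : (A : Set G).ncard = Nat.card A := rfl
  have h5 : (B : Set G).ncard = Nat.card B := rfl
  omega

theorem exists_central_involution [Finite G] {T : Subgroup G} (hT : IsPGroup 2 T) (hne : T ≠ ⊥) :
    ∃ z ∈ T, z * z = 1 ∧ z ≠ 1 ∧ ∀ t ∈ T, t * z = z * t := by
  have h2 : Fact (Nat.Prime 2) := ⟨Nat.prime_two⟩
  have : Nontrivial T := (Subgroup.nontrivial_iff_ne_bot T).mpr hne
  have hc : Nontrivial (Subgroup.center T) := hT.center_nontrivial
  have hcard : 2 ∣ Nat.card (Subgroup.center T) := by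
    refine ((hT.to_subgroup _).card_eq_or_dvd).resolve_left ?_
    exact (Finite.one_lt_card (α := Subgroup.center T)).ne'
  obtain ⟨z, hz⟩ := exists_prime_orderOf_dvd_card' 2 hcard
  have hz2 : orderOf ((z : T) : G) = 2 := by
    rw [Subgroup.orderOf_coe, Subgroup.orderOf_coe, hz]
  refine ⟨(z : T), (z : T).2, sq_of_orderOf hz2, ne_one_of_orderOf hz2, ?_⟩
  intro t ht
  exact congrArg Subtype.val (Subgroup.mem_center_iff.1 z.2 ⟨t, ht⟩)

/-- `⟨z, e⟩` normal in `T ≥ A`: there is an involution of `A` centralising `e`, outside `⟨z, e⟩`. -/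
theorem rank_lemma [Finite G] {T A : Subgroup G} (hAT : A ≤ T) (hA : Big A) {z e : G}
    (hz2 : z * z = 1)
    (hzc : ∀ t ∈ T, t * z = z * t)
    (hen : ∀ t ∈ T, t * e * t⁻¹ = e ∨ t * e * t⁻¹ = z * e) :
    ∃ a ∈ A, a * e = e * a ∧ a ≠ 1 ∧ a ≠ z ∧ a ≠ e ∧ a ≠ z * e := by
  by_contra hcon
  push Not at hcon
  have h8 : 8 ≤ Nat.card A := hA.2
  have hall : ∀ a ∈ A, a * e = e * a → a = 1 ∨ a = z ∨ a = e ∨ a = z * e := by
    intro a ha hae
    by_cases h1 : a = 1
    · exact Or.inl h1
    by_cases h2 : a = z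
    · exact Or.inr (Or.inl h2)
    by_cases h3 : a = e
    · exact Or.inr (Or.inr (Or.inl h3))
    · exact Or.inr (Or.inr (Or.inr (hcon a ha hae h1 h2 h3)))
  by_cases heA : e ∈ A
  · have h1 : (A : Set G) ⊆ {1, z, e, z * e} := by
      intro a ha
      have := hall a ha (elem_comm hA.1 a ha e heA)
      simpa using this
    have h2 := Set.ncard_le_ncard h1 (Set.toFinite _)
    have h3 : ({1, z, e, z * e} : Set G).ncard ≤ 4 := by
      refine (Set.ncard_insert_le _ _).trans ?_
      refine (Nat.add_le_add_right (Set.ncard_insert_le _ _) 1).trans ?_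
      refine (Nat.add_le_add_right (Nat.add_le_add_right (Set.ncard_insert_le _ _) 1) 1).trans ?_
      rw [Set.ncard_singleton]
    have h4 : (A : Set G).ncard = Nat.card A := rfl
    omega
  · -- `A ∩ C(e)` has at most two elements
    set B : Subgroup G := A ⊓ Subgroup.centralizer ({e} : Set G) with hB
    have hBmem : ∀ a, a ∈ B ↔ a ∈ A ∧ a * e = e * a := by
      intro a
      rw [hB, Subgroup.mem_inf, Subgroup.mem_centralizer_singleton_iff]
    have hB2 : Nat.card B ≤ 2 := by
      have h1 : (B : Set G) ⊆ {1, z} ∨ (B : Set G) ⊆ {1, z * e} := by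
        by_cases hzA : z ∈ A
        · left
          intro a ha
          obtain ⟨haA, hae⟩ := (hBmem a).mp ha
          rcases hall a haA hae with h | h | h | h
          · simp [h]
          · simp [h]
          · exact absurd (h ▸ haA) heA
          · exfalso
            apply heA
            have h5 := A.mul_mem hzA haA
            rwa [h, ← mul_assoc, hz2, one_mul] at h5
        · right
          intro a ha
          obtain ⟨haA, hae⟩ := (hBmem a).mp ha
          rcases hall a haA hae with h | h | h | h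
          · simp [h]
          · exact absurd (h ▸ haA) hzA
          · exact absurd (h ▸ haA) heA
          · simp [h]
      have h5 : (B : Set G).ncard = Nat.card B := rfl
      rcases h1 with h1 | h1
      · have h2 := Set.ncard_le_ncard h1 (Set.toFinite _)
        have h3 : ({1, z} : Set G).ncard ≤ 2 := by
          refine (Set.ncard_insert_le _ _).trans ?_
          rw [Set.ncard_singleton]
        omega
      · have h2 := Set.ncard_le_ncard h1 (Set.toFinite _)
        have h3 : ({1, z * e} : Set G).ncard ≤ 2 := by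
          refine (Set.ncard_insert_le _ _).trans ?_
          rw [Set.ncard_singleton]
        omega
    -- `A ∩ C(e)` has index at most two in `A`
    by_cases hAC : ∀ a ∈ A, a * e = e * a
    · have h1 : A ≤ B := fun a ha => (hBmem a).mpr ⟨ha, hAC a ha⟩
      have h2 := Subgroup.card_le_of_le h1
      omega
    · push Not at hAC
      obtain ⟨f, hfA, hfe⟩ := hAC
      have hfe' : f * e * f⁻¹ = z * e := by
        refine (hen f (hAT hfA)).resolve_left ?_
        intro h
        rw [mul_inv_eq_iff_eq_mul] at h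
        exact hfe h
      have h1 : Nat.card A ≤ 2 * Nat.card B := by
        refine card_le_two f ?_
        intro a ha
        rcases hen a (hAT ha) with h | h
        · left
          rw [mul_inv_eq_iff_eq_mul] at h
          exact (hBmem a).mpr ⟨ha, h⟩
        · right
          refine (hBmem _).mpr ⟨A.mul_mem hfA ha, ?_⟩
          rw [← mul_inv_eq_iff_eq_mul]
          have h3 : f * a * e * (f * a)⁻¹ = f * (a * e * a⁻¹) * f⁻¹ := by group
          have h4 : f * (z * e) * f⁻¹ = z * (f * e * f⁻¹) := by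
            rw [← mul_assoc, hzc f (hAT hfA)]; group
          rw [h3, h, h4, hfe', ← mul_assoc, hz2, one_mul]
      omega

theorem exists_big_mem [Finite G] (hO2 : ∀ N : Subgroup G, N.Normal → N.index ≠ 2) (S : Sylow 2 G)
    (hrk : ¬ PRankLE 2 2 (S : Subgroup G)) {t : G} (ht : orderOf t = 2) :
    ∃ A : Subgroup G, Big A ∧ t ∈ A := by
  have h2 : Fact (Nat.Prime 2) := ⟨Nat.prime_two⟩
  obtain ⟨A, hle, hA'⟩ := exists_big_of_not_rankLE hrk
  have hSne : (S : Subgroup G) ≠ ⊥ := by
    intro h
    rw [h, le_bot_iff] at hle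
    have := hA'.2
    rw [hle, Subgroup.card_bot] at this
    norm_num at this
  obtain ⟨z, hzS, hz2, hz1, hzc⟩ := exists_central_involution S.2 hSne
  obtain ⟨e, heS, he2, he1, hez, hen⟩ := exists_e S.2 hle hA' hzS hz2 hz1 hzc
  have hze : z * e = e * z := (hzc e heS).symm
  obtain ⟨a, haA, hae, ha1, haz, hane, haze⟩ := rank_lemma hle hA' hz2 hzc hen
  have haS : a ∈ (S : Subgroup G) := hle haA
  have ha2 : a * a = 1 := elem_sq hA'.1 haA
  obtain ⟨S₀, hS₀⟩ : ∃ S₀, S₀ = (S : Subgroup G) ⊓ Subgroup.centralizer ({e} : Set G) := ⟨_, rfl⟩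
  have mem_cent : ∀ x : G, x ∈ Subgroup.centralizer ({e} : Set G) ↔ x * e = e * x := fun x =>
    Subgroup.mem_centralizer_singleton_iff
  -- involutions of `S₀` are in big subgroups
  have hinv : ∀ x ∈ S₀, x * x = 1 → x ≠ 1 → ∃ A : Subgroup G, Big A ∧ x ∈ A := by
    intro x hx hx2 hx1
    rw [hS₀] at hx
    have hxe : x * e = e * x := (mem_cent x).1 hx.2
    have hxz : x * z = z * x := hzc x hx.1
    have hbig := big_triple hz2 he2 ha2 hze (hzc a haS).symm hae.symm hz1 he1 hez.symm ha1 haz
        hane haze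
    by_cases h1 : x = z
    · exact ⟨_, hbig, Subgroup.mem_sup_left (h1 ▸ left_mem_four z e)⟩
    by_cases h2 : x = e
    · exact ⟨_, hbig, Subgroup.mem_sup_left (h2 ▸ right_mem_four z e)⟩
    by_cases h3 : x = z * e
    · exact ⟨_, hbig, Subgroup.mem_sup_left
        (h3 ▸ mul_mem (left_mem_four z e) (right_mem_four z e))⟩
    · exact ⟨_, big_triple hz2 he2 hx2 hze hxz.symm hxe.symm hz1 he1 hez.symm hx1 h1 h2 h3,
        Subgroup.mem_sup_right (Subgroup.mem_zpowers x)⟩
  -- an involution is conjugate into `S₀`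
  obtain ⟨c, hc⟩ : ∃ c : G, c * t * c⁻¹ ∈ S₀ := by
    by_cases hSS : (S : Subgroup G) ≤ S₀
    · obtain ⟨c, hcle⟩ : ∃ c : G, c * t * c⁻¹ ∈ (S : Subgroup G) := by
        obtain ⟨g, hg⟩ := GoodFusion.exists_ext S ht
        exact ⟨g, hg.1⟩
      exact ⟨c, hSS hcle⟩
    · have hS₀S : S₀ ≤ S := hS₀ ▸ inf_le_left
      obtain ⟨f, hfS, hfS₀⟩ := SetLike.not_le_iff_exists.1 hSS
      have hfe : f * e * f⁻¹ = z * e := by
        refine (hen f hfS).resolve_left ?_
        intro h
        apply hfS₀
        rw [hS₀]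
        exact ⟨hfS, (mem_cent f).2 (by rwa [mul_inv_eq_iff_eq_mul] at h)⟩
      have hcard : Nat.card (S : Subgroup G) ≤ 2 * Nat.card S₀ := by
        refine card_le_two f ?_
        intro x hx
        rcases hen x hx with h | h
        · left
          rw [mul_inv_eq_iff_eq_mul] at h
          rw [hS₀]
          exact ⟨hx, (mem_cent x).2 h⟩
        · right
          rw [hS₀]
          refine ⟨mul_mem hfS hx, (mem_cent _).2 ?_⟩
          rw [← mul_inv_eq_iff_eq_mul]
          have h3 : f * x * e * (f * x)⁻¹ = f * (x * e * x⁻¹) * f⁻¹ := by group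
          have h4 : f * (z * e) * f⁻¹ = z * (f * e * f⁻¹) := by
            rw [← mul_assoc, hzc f hfS]; group
          rw [h3, h, h4, hfe, ← mul_assoc, hz2, one_mul]
      have hidx : S₀.relIndex (S : Subgroup G) = 2 := by
        have h1 : Nat.card S₀ * S₀.relIndex (S : Subgroup G) = Nat.card (S : Subgroup G) := by
          have := Subgroup.card_mul_index (S₀.subgroupOf (S : Subgroup G))
          rwa [Nat.card_congr (Subgroup.subgroupOfEquivOfLe hS₀S).toEquiv] at this
        have hpos : 0 < Nat.card S₀ := Nat.card_pos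
        have hposS : 0 < Nat.card (S : Subgroup G) := Nat.card_pos
        have h3 : S₀.relIndex (S : Subgroup G) ≤ 2 := by
          by_contra h
          push Not at h
          have := Nat.mul_le_mul_left (Nat.card S₀) h
          rw [h1] at this
          have h4 : Nat.card S₀ * Nat.succ 2 = 3 * Nat.card S₀ := by ring
          omega
        have h4 : S₀.relIndex (S : Subgroup G) ≠ 0 := by
          intro h
          rw [h, mul_zero] at h1
          omega
        have h5 : S₀.relIndex (S : Subgroup G) ≠ 1 := by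
          intro h
          exact hSS (Subgroup.relIndex_eq_one.1 h)
        omega
      rcases Transfer.ThompsonTransfer.thompson_transfer S S₀ hS₀S hidx t
        (by rw [← ht]; exact pow_orderOf_eq_one t) with ⟨M, hM, hMi, _⟩ | h
      · exact absurd hMi (hO2 M hM)
      · exact h
  have hoc : orderOf (c * t * c⁻¹) = 2 := by
    rw [← ht]
    exact orderOf_injective (MulAut.conj c).toMonoidHom (MulAut.conj c).injective t
  obtain ⟨D, hD, hcD⟩ := hinv _ hc (sq_of_orderOf hoc) (ne_one_of_orderOf hoc)
  refine ⟨D.map (MulAut.conj c⁻¹).toMonoidHom, big_map hD (MulAut.conj c⁻¹).injective, ?_⟩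
  refine ⟨c * t * c⁻¹, hcD, ?_⟩
  show c⁻¹ * (c * t * c⁻¹) * c⁻¹⁻¹ = t
  group

/-- **Step (1).**  For an extremal involution `t` of `S`, `C_S(t)` contains an elementary abelian
subgroup of order at least 8 containing `t`. -/
theorem exists_big_of_ext [Finite G] (hO2 : ∀ N : Subgroup G, N.Normal → N.index ≠ 2) (S : Sylow 2 G)
    (hrk : ¬ PRankLE 2 2 (S : Subgroup G)) {t : G} (ht : orderOf t = 2)
    (hext : GoodFusion.Ext (S : Subgroup G) t) :
    ∃ A : Subgroup G, Big A ∧ t ∈ A ∧
      A ≤ (S : Subgroup G) ⊓ Subgroup.centralizer ({t} : Set G) := by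
  have h2 : Fact (Nat.Prime 2) := ⟨Nat.prime_two⟩
  obtain ⟨A, hA, htA⟩ := exists_big_mem hO2 S hrk ht
  obtain ⟨c, hc, hle⟩ := hext.2 A (by
    intro a ha
    exact GoodFusion.mem_centralizer_singleton.mpr (elem_comm hA.1 a ha t htA))
    (isPGroup_of_elem hA.1)
  refine ⟨A.map (MulAut.conj c).toMonoidHom, big_map hA (MulAut.conj c).injective, ?_, hle⟩
  refine ⟨t, htA, ?_⟩
  show c * t * c⁻¹ = t
  rw [(GoodFusion.mem_centralizer_singleton.mp hc).eq, mul_inv_cancel_right]

end Cfsg.Agent.TwoGenCore.BigCent
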