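import Cfsg.Agent.TwoGenCore.CentralSetup
import Cfsg.Agent.TwoGenCore.BigCent
import Cfsg.Agent.TwoGenCore.GoodCentral
import Cfsg.Agent.StrongEmb.Frame
import Cfsg.Agent.Lib.KleinGen
import Cfsg.Agent.S1225

/-!
# Proper 2-generated cores: the centre of the centraliser of a bad involution, step (5)
-/

set_option autoImplicit false

open scoped Pointwise

namespace Cfsg.Agent.TwoGenCore.CentralFive

open Cfsg Cfsg.Agent.TwoGenCore.Involution Cfsg.Agent.TwoGenCore.CentralSetup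

universe u

/-- A group `W` of automorphisms of odd order of the elementary abelian 2-group `A`, fixing `t ≠ 1` and
transitive on the nontrivial elements of `A / ⟨t⟩`: there is an invariant complement to `⟨t⟩`. -/
theorem exists_complement {A : Type*} [CommGroup A] [Finite A] (W : Subgroup (MulAut A))
    (hodd : Odd (Nat.card W)) (t : A) (htt : t * t = 1) (ht1 : t ≠ 1) (htW : ∀ w ∈ W, w t = t)
    (htr : ∀ a b : A, a ≠ 1 → a ≠ t → b ≠ 1 → b ≠ t → ∃ w ∈ W, w a = b ∨ w a = b * t)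
    (h8 : 8 ≤ Nat.card A) :
    ∃ E : Subgroup A, t ∉ E ∧ (∀ a, a ∈ E ∨ t * a ∈ E) ∧ ∀ w ∈ W, ∀ a ∈ E, w a ∈ E := by
  classical
  have hfin : Finite (MulAut A) := Finite.of_injective (fun f : MulAut A => (f : A → A))
    (fun f g h => MulEquiv.ext (fun x => congrFun h x))
  have : Fintype W := Fintype.ofFinite W
  let f : A →* A :=
    { toFun := fun a => ∏ w : W, (w : MulAut A) a
      map_one' := by simp
      map_mul' := fun a b => by
        simp only [map_mul]
        exact Finset.prod_mul_distrib }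
  have hf : ∀ a, f a = ∏ w : W, (w : MulAut A) a := fun a => rfl
  have hft : f t = t := by
    rw [hf, Finset.prod_congr rfl (fun (w : W) _ => htW w w.2), Finset.prod_const, Finset.card_univ,
      ← Nat.card_eq_fintype_card]
    obtain ⟨k, hk⟩ := hodd
    rw [hk, pow_add, pow_mul, pow_two, htt, one_pow, one_mul, pow_one]
  have hfw : ∀ w ∈ W, ∀ a, f (w a) = f a := by
    intro w hw a
    rw [hf, hf]
    have := Fintype.prod_equiv (Equiv.mulRight (⟨w, hw⟩ : W))
      (fun v : W => (v : MulAut A) (w a)) (fun v : W => (v : MulAut A) a) (fun v => rfl)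
    exact this
  have hwf : ∀ w ∈ W, ∀ a, w (f a) = f a := by
    intro w hw a
    rw [hf, map_prod]
    have := Fintype.prod_equiv (Equiv.mulLeft (⟨w, hw⟩ : W))
      (fun v : W => w ((v : MulAut A) a)) (fun v : W => (v : MulAut A) a) (fun v => rfl)
    exact this
  -- the fixed points of `W` are `1, t`
  have hfix : ∀ c : A, (∀ w ∈ W, w c = c) → c = 1 ∨ c = t := by
    intro c hc
    by_contra hcon
    push Not at hcon
    -- choose `b` outside `{1, t, c, c t}`
    have hex : ∃ b : A, b ∉ ({1, t, c, c * t} : Finset A) := by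
      by_contra hno
      push Not at hno
      have : Fintype A := Fintype.ofFinite A
      have h1 : (Finset.univ : Finset A) ⊆ {1, t, c, c * t} := fun b _ => hno b
      have h2 := Finset.card_le_card h1
      rw [Finset.card_univ, ← Nat.card_eq_fintype_card] at h2
      have h3 := Finset.card_le_four (a := (1 : A)) (b := t) (c := c) (d := c * t)
      omega
    obtain ⟨b, hb⟩ := hex
    simp only [Finset.mem_insert, Finset.mem_singleton, not_or] at hb
    obtain ⟨hb1, hbt, hbc, hbct⟩ := hb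
    obtain ⟨w, hw, h1 | h1⟩ := htr c b hcon.1 hcon.2 hb1 hbt
    · rw [hc w hw] at h1
      exact hbc h1.symm
    · rw [hc w hw] at h1
      apply hbct
      rw [h1, mul_assoc, htt, mul_one]
  refine ⟨f.ker, ?_, ?_, ?_⟩
  · rw [MonoidHom.mem_ker, hft]; exact ht1
  · intro a
    rcases hfix (f a) (fun w hw => hwf w hw a) with h | h
    · left; exact h
    · right
      rw [MonoidHom.mem_ker, map_mul, hft, h, htt]
  · intro w hw a ha
    rw [MonoidHom.mem_ker] at ha ⊢
    rw [hfw w hw, ha]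

open Cfsg.Agent.TwoGenCore.CentralSetup.CSetup

variable {C : Type u} [Group C] {M : Subgroup C} {t : C}

/-- What we need about the simple normal subgroup `L` of `X = C ⧸ K`: it contains the images of the
involutions `≠ t` of `M`, `M̄ ∩ L` is strongly embedded in `L`, and the involutions of `M̄ ∩ L`
commute with the 2-elements of `M̄ ∩ L`. -/
structure LData (M : Subgroup C) (t : C) (L : Subgroup (C ⧸ M.normalCore)) : Prop where
  normal : L.Normal
  invol : ∀ x ∈ M, orderOf x = 2 → x ≠ t → QuotientGroup.mk' M.normalCore x ∈ L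
  se : IsStronglyEmbedded ((Mbar M).subgroupOf L)
  comm : ∀ s ∈ L, s ∈ Mbar M → orderOf s = 2 → ∀ x ∈ L, x ∈ Mbar M → (∃ n : ℕ, orderOf x = 2 ^ n) →
    s * x = x * s

/-- the elements of square 1 of `M̄ ∩ L` -/
def EL {L : Subgroup (C ⧸ M.normalCore)} (hL : LData M t L) : Subgroup (C ⧸ M.normalCore) where
  carrier := {s | s ∈ L ∧ s ∈ Mbar M ∧ s * s = 1}
  one_mem' := ⟨one_mem _, one_mem _, one_mul 1⟩
  mul_mem' := by
    rintro a b ⟨haL, haM, ha⟩ ⟨hbL, hbM, hb⟩
    refine ⟨mul_mem haL hbL, mul_mem haM hbM, ?_⟩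
    have hab : a * b = b * a := by
      by_cases ha1 : a = 1
      · rw [ha1, one_mul, mul_one]
      by_cases hb1 : b = 1
      · rw [hb1, one_mul, mul_one]
      exact hL.comm a haL haM (CentralSetup.orderOf_eq_two ha ha1) b hbL hbM
        ⟨1, by rw [pow_one]; exact CentralSetup.orderOf_eq_two hb hb1⟩
    calc a * b * (a * b) = a * b * (b * a) := by rw [hab]
      _ = a * (b * b) * a := by group
      _ = 1 := by rw [hb, mul_one, ha]
  inv_mem' := by
    rintro a ⟨haL, haM, ha⟩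
    refine ⟨inv_mem haL, inv_mem haM, ?_⟩
    rw [← mul_inv_rev, ha, inv_one]

theorem mem_EL {L : Subgroup (C ⧸ M.normalCore)} (hL : LData M t L) {s : C ⧸ M.normalCore} :
    s ∈ EL hL ↔ s ∈ L ∧ s ∈ Mbar M ∧ s * s = 1 := Iff.rfl

theorem conj_mem_EL {L : Subgroup (C ⧸ M.normalCore)} (hL : LData M t L) {s m : C ⧸ M.normalCore}
    (hs : s ∈ EL hL) (hm : m ∈ Mbar M) : m * s * m⁻¹ ∈ EL hL := by
  obtain ⟨h1, h2, h3⟩ := hs
  refine ⟨hL.normal.conj_mem s h1 m, mul_mem (mul_mem hm h2) (inv_mem hm), ?_⟩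
  calc m * s * m⁻¹ * (m * s * m⁻¹) = m * (s * s) * m⁻¹ := by group
    _ = 1 := by rw [h3]; group

theorem isPGroup_EL {L : Subgroup (C ⧸ M.normalCore)} (hL : LData M t L) :
    IsPGroup 2 (EL hL) := by
  rintro ⟨x, hx⟩
  refine ⟨1, Subtype.ext ?_⟩
  show x ^ 2 ^ 1 = 1
  rw [pow_one, pow_two]
  exact hx.2.2

/-- `D`: an odd order subgroup of `M̄ ∩ L` transitive on the involutions of `M̄ ∩ L`. -/
theorem exists_D [Finite C] {L : Subgroup (C ⧸ M.normalCore)} (hL : LData M t L) :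
    ∃ D : Subgroup (C ⧸ M.normalCore), D ≤ Mbar M ∧ Odd (Nat.card D) ∧
      ∀ a ∈ EL hL, ∀ b ∈ EL hL, a ≠ 1 → b ≠ 1 → ∃ d ∈ D, d * a * d⁻¹ = b := by
  obtain ⟨u, huH, hu⟩ := Cfsg.Agent.TwoFusion.StronglyEmbeddedBasic.exists_involution_notMem hL.se
  set B := (Mbar M).subgroupOf L with hB
  refine ⟨(B ⊓ B.map (MulAut.conj u).toMonoidHom).map L.subtype, ?_, ?_, ?_⟩
  · rintro _ ⟨x, hx, rfl⟩
    exact hx.1
  · rw [Subgroup.card_map_of_injective L.subtype_injective]
    exact hL.se.2.2 u huH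
  · rintro a ⟨haL, haM, ha⟩ b ⟨hbL, hbM, hb⟩ ha1 hb1
    obtain ⟨⟨d, hd, hdab⟩, -⟩ := Cfsg.Agent.S1225.result B hL.se u hu huH (⟨a, haL⟩ : L) ⟨b, hbL⟩
      (by rw [Subgroup.orderOf_mk]; exact CentralSetup.orderOf_eq_two ha ha1) haM
      (by rw [Subgroup.orderOf_mk]; exact CentralSetup.orderOf_eq_two hb hb1) hbM
    exact ⟨d, ⟨d, hd, rfl⟩, congrArg Subtype.val hdab⟩

/-- `t` lies in every Sylow 2-subgroup. -/
theorem t_mem_sylow [Finite C] (h : CSetup M t) (T : Sylow 2 C) : t ∈ T := by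
  have hp : Fact (Nat.Prime 2) := ⟨Nat.prime_two⟩
  have h1 : IsPGroup 2 ((T : Subgroup C) ⊔ Subgroup.zpowers t : Subgroup C) := by
    have hn : (Subgroup.zpowers t).Normal := by
      constructor
      rintro x hx g
      obtain ⟨k, rfl⟩ := Subgroup.mem_zpowers_iff.mp hx
      have : g * t ^ k * g⁻¹ = t ^ k := by
        rw [((h.central g).zpow_right k).eq, mul_inv_cancel_right]
      rw [this]; exact hx
    exact T.isPGroup'.to_sup_of_normal_right (GoodFusion.isPGroup_zpowers h.ord)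
  have h2 := T.is_maximal' h1 le_sup_left
  have h3 : t ∈ ((T : Subgroup C) ⊔ Subgroup.zpowers t : Subgroup C) :=
    Subgroup.mem_sup_right (Subgroup.mem_zpowers t)
  rw [h2] at h3
  exact h3

/-- `E_L ≤ T̄` -/
theorem exists_lift_EL [Finite C] {L : Subgroup (C ⧸ M.normalCore)} (hL : LData M t L)
    (T : Sylow 2 C) (hTM : (T : Subgroup C) ≤ M) {e : C ⧸ M.normalCore} (he : e ∈ EL hL) :
    ∃ s ∈ T, QuotientGroup.mk' M.normalCore s = e := by
  have hp : Fact (Nat.Prime 2) := ⟨Nat.prime_two⟩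
  let Tb : Sylow 2 (C ⧸ M.normalCore) := T.mapSurjective (QuotientGroup.mk'_surjective M.normalCore)
  have hTb : (Tb : Subgroup (C ⧸ M.normalCore)) = (T : Subgroup C).map (QuotientGroup.mk' M.normalCore) :=
    rfl
  have hTbM : (Tb : Subgroup (C ⧸ M.normalCore)) ≤ Mbar M := by
    rw [hTb]; exact Subgroup.map_mono hTM
  have hn : (Tb : Subgroup (C ⧸ M.normalCore)) ≤ Subgroup.normalizer ((EL hL : Subgroup _) : Set _) := by
    intro m hm
    rw [Subgroup.mem_normalizer_iff]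
    intro x
    constructor
    · intro hx; exact conj_mem_EL hL hx (hTbM hm)
    · intro hx
      have := conj_mem_EL hL hx (inv_mem (hTbM hm))
      simpa [mul_assoc] using this
  have h1 : IsPGroup 2 ((EL hL) ⊔ (Tb : Subgroup (C ⧸ M.normalCore)) : Subgroup _) :=
    IsPGroup.to_sup_of_normal_left' (isPGroup_EL hL) Tb.isPGroup' hn
  have h2 := Tb.is_maximal' h1 le_sup_right
  have h3 : e ∈ ((EL hL) ⊔ (Tb : Subgroup (C ⧸ M.normalCore)) : Subgroup _) :=
    Subgroup.mem_sup_left he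
  rw [h2] at h3
  exact h3

/-- `T_E = T ∩ π⁻¹(E_L)` -/
def TE {L : Subgroup (C ⧸ M.normalCore)} (hL : LData M t L) (T : Subgroup C) : Subgroup C :=
  T ⊓ (EL hL).comap (QuotientGroup.mk' M.normalCore)

theorem mem_TE {L : Subgroup (C ⧸ M.normalCore)} {hL : LData M t L} {T : Subgroup C} {x : C} :
    x ∈ TE hL T ↔ x ∈ T ∧ QuotientGroup.mk' M.normalCore x ∈ EL hL := Iff.rfl

/-- **Frattini.**  `N_C(T_E)` covers `M̄`. -/
theorem exists_normalizer [Finite C] {L : Subgroup (C ⧸ M.normalCore)} (hL : LData M t L)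
    (T : Sylow 2 C) (hTM : (T : Subgroup C) ≤ M) {m : C} (hm : m ∈ M) :
    ∃ n ∈ Subgroup.normalizer ((TE hL (T : Subgroup C) : Subgroup C) : Set C),
      QuotientGroup.mk' M.normalCore n = QuotientGroup.mk' M.normalCore m := by
  have hp : Fact (Nat.Prime 2) := ⟨Nat.prime_two⟩
  set π := QuotientGroup.mk' M.normalCore with hπ
  have hBn : (((EL hL).comap π).subgroupOf M).Normal := by
    constructor
    rintro ⟨x, hxM⟩ hx ⟨g, hg⟩
    have h1 : π x ∈ EL hL := hx
    have h2 := conj_mem_EL hL h1 (mk_mem_iff.mpr hg)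
    show π (g * x * g⁻¹) ∈ EL hL
    rw [map_mul, map_mul, map_inv]
    exact h2
  have hfrat := Cfsg.Agent.Lib.SylowNormalInf.normalizer_inf_sup_eq_top (T.subtype hTM)
    (((EL hL).comap π).subgroupOf M)
  have h1 : (⟨m, hm⟩ : M) ∈ Subgroup.normalizer ((((T.subtype hTM : Sylow 2 M) : Subgroup M) ⊓
      ((EL hL).comap π).subgroupOf M : Subgroup M) : Set M) ⊔ (((EL hL).comap π).subgroupOf M) := by
    rw [hfrat]; trivial
  obtain ⟨⟨n, hnM⟩, hn, ⟨b, hbM⟩, hb, hnb⟩ := Subgroup.mem_sup_of_normal_right.mp h1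
  have hnb' : n * b = m := congrArg Subtype.val hnb
  have hb' : π b ∈ EL hL := hb
  obtain ⟨s, hs, hsb⟩ := exists_lift_EL hL T hTM hb'
  have hTEM : TE hL (T : Subgroup C) ≤ M := inf_le_left.trans hTM
  have hnN : n ∈ Subgroup.normalizer ((TE hL (T : Subgroup C) : Subgroup C) : Set C) := by
    rw [Subgroup.mem_normalizer_iff]
    intro x
    constructor
    · intro hx
      have h2 := (Subgroup.mem_normalizer_iff.mp hn ⟨x, hTEM hx⟩).mp ⟨hx.1, hx.2⟩
      exact ⟨h2.1, h2.2⟩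
    · intro hx
      have hxM : x ∈ M := by
        have h3 := M.mul_mem (M.mul_mem (M.inv_mem hnM) (hTEM hx)) hnM
        simpa [mul_assoc] using h3
      have h2 := (Subgroup.mem_normalizer_iff.mp hn ⟨x, hxM⟩).mpr ⟨hx.1, hx.2⟩
      exact ⟨h2.1, h2.2⟩
  refine ⟨n * s, mul_mem hnN (Subgroup.le_normalizer (mem_TE.mpr ⟨hs, ?_⟩)), ?_⟩
  · rw [hsb]; exact hb'
  · rw [map_mul, hsb, ← map_mul, hnb']

/-- `A = {x ∈ Z(T_E) | x² = 1}` -/
def OmZ (Q : Subgroup C) : Subgroup C where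
  carrier := {x | x ∈ Q ∧ (∀ y ∈ Q, x * y = y * x) ∧ x * x = 1}
  one_mem' := ⟨one_mem _, fun y _ => by rw [one_mul, mul_one], one_mul 1⟩
  mul_mem' := by
    rintro a b ⟨ha, hac, ha2⟩ ⟨hb, hbc, hb2⟩
    refine ⟨mul_mem ha hb, fun y hy => ?_, ?_⟩
    · rw [mul_assoc, hbc y hy, ← mul_assoc, hac y hy, mul_assoc]
    · have hab : a * b = b * a := hac b hb
      calc a * b * (a * b) = a * b * (b * a) := by rw [hab]
        _ = a * (b * b) * a := by group
        _ = 1 := by rw [hb2, mul_one, ha2]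
  inv_mem' := by
    rintro a ⟨ha, hac, ha2⟩
    have : a⁻¹ = a := inv_eq_of_mul_eq_one_right ha2
    rw [Set.mem_ofPred_eq, this]
    exact ⟨ha, hac, ha2⟩

theorem mem_OmZ {Q : Subgroup C} {x : C} :
    x ∈ OmZ Q ↔ x ∈ Q ∧ (∀ y ∈ Q, x * y = y * x) ∧ x * x = 1 := Iff.rfl

theorem conj_mem_OmZ {Q : Subgroup C} {x n : C} (hn : n ∈ Subgroup.normalizer (Q : Set C))
    (hx : x ∈ OmZ Q) : n * x * n⁻¹ ∈ OmZ Q := by
  obtain ⟨h1, h2, h3⟩ := hx
  refine ⟨(Subgroup.mem_normalizer_iff.mp hn x).mp h1, ?_, ?_⟩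
  · intro y hy
    have hy' : n⁻¹ * y * n ∈ Q := by
      have := (Subgroup.mem_normalizer_iff.mp (inv_mem hn) y).mp hy
      rwa [inv_inv] at this
    have h4 := h2 _ hy'
    calc n * x * n⁻¹ * y = n * (x * (n⁻¹ * y * n)) * n⁻¹ := by group
      _ = n * ((n⁻¹ * y * n) * x) * n⁻¹ := by rw [h4]
      _ = y * (n * x * n⁻¹) := by group
  · calc n * x * n⁻¹ * (n * x * n⁻¹) = n * (x * x) * n⁻¹ := by group
      _ = 1 := by rw [h3]; group

theorem normalizer_le_OmZ {Q : Subgroup C} :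
    Subgroup.normalizer (Q : Set C) ≤ Subgroup.normalizer ((OmZ Q : Subgroup C) : Set C) := by
  intro n hn
  rw [Subgroup.mem_normalizer_iff]
  intro x
  constructor
  · intro hx; exact conj_mem_OmZ hn hx
  · intro hx
    have := conj_mem_OmZ (inv_mem hn) hx
    simpa [mul_assoc] using this

theorem odd_card_map {G G' : Type*} [Group G] [Group G'] (f : G →* G') {R W : Subgroup G}
    (hR : R ≤ f.ker) (h : ¬ 2 ∣ R.relIndex W) : Odd (Nat.card (W.map f)) := by
  rw [← Nat.not_even_iff_odd, even_iff_two_dvd]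
  intro h1
  rw [← Subgroup.relIndex_ker] at h1
  exact h (h1.trans (Subgroup.relIndex_dvd_of_le_left _ hR))

set_option maxHeartbeats 800000 in
/-- **Step (5), inside the centraliser.** -/
theorem five_aux [Finite C] (h : CSetup M t) (T : Sylow 2 C) (hTM : (T : Subgroup C) ≤ M)
    {L : Subgroup (C ⧸ M.normalCore)} (hL : LData M t L) {x₀ : C} (hx₀T : x₀ ∈ T)
    (hx₀2 : orderOf x₀ = 2) (hx₀t : x₀ ≠ t) (hx₀c : ∀ s ∈ T, Commute s x₀)
    {A₀ : Subgroup C} (hA₀ : Dichotomy.Elem.Big A₀) (hA₀T : A₀ ≤ T) :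
    ∃ E : Subgroup C, E ≤ T ∧ (∀ x ∈ E, x * x = 1) ∧ t ∉ E ∧ 4 ≤ Nat.card E ∧
      (∀ x ∈ T, x * x = 1 → x ∈ E ∨ t * x ∈ E) ∧
      ∀ x ∈ E, ∀ y ∈ E, x ≠ 1 → y ≠ 1 → ∃ c : C, c * x * c⁻¹ = y := by
  have hp : Fact (Nat.Prime 2) := ⟨Nat.prime_two⟩
  set π := QuotientGroup.mk' M.normalCore with hπ
  set Q := TE hL (T : Subgroup C) with hQ
  set A := OmZ Q with hA
  have htT : t ∈ T := t_mem_sylow h T
  have htt : t * t = 1 := CentralSetup.sq_eq_one h.ord
  have hπt : π t = 1 := mk_eq_one_iff.mpr h.t_mem_core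
  obtain ⟨D, hDM, hDodd, hDtr⟩ := exists_D hL
  -- involutions of `T` map into `E_L`
  have hEL : ∀ x ∈ T, x * x = 1 → π x ∈ EL hL := by
    intro x hx hxx
    by_cases hx1 : x = 1
    · rw [hx1, map_one]; exact one_mem _
    by_cases hxt : x = t
    · rw [hxt, hπt]; exact one_mem _
    · refine ⟨hL.invol x (hTM hx) (CentralSetup.orderOf_eq_two hxx hx1) hxt,
        mk_mem_iff.mpr (hTM hx), ?_⟩
      rw [← map_mul, hxx, map_one]
  have hTQ : ∀ x ∈ T, x * x = 1 → x ∈ Q := fun x hx hxx => ⟨hx, hEL x hx hxx⟩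
  have hQT : Q ≤ T := inf_le_left
  have hRQ : (T : Subgroup C) ⊓ M.normalCore ≤ Q := by
    rintro x ⟨hxT, hxK⟩
    refine ⟨hxT, ?_⟩
    show π x ∈ EL hL
    rw [mk_eq_one_iff.mpr hxK]; exact one_mem _
  have htA : t ∈ A := ⟨hTQ t htT htt, fun y _ => (h.central y).eq.symm, htt⟩
  have hx₀A : x₀ ∈ A := ⟨hTQ x₀ hx₀T (CentralSetup.sq_eq_one hx₀2),
    fun y hy => (hx₀c y (hQT hy)).eq.symm, CentralSetup.sq_eq_one hx₀2⟩
  have hAK : ∀ x, x ∈ M.normalCore → x * x = 1 → x = 1 ∨ x = t := by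
    intro x hxK hxx
    by_cases hx1 : x = 1
    · exact Or.inl hx1
    · exact Or.inr (h.core_invol hxK (CentralSetup.orderOf_eq_two hxx hx1))
  have hπne : ∀ x, x * x = 1 → x ≠ 1 → x ≠ t → π x ≠ 1 := by
    intro x hxx hx1 hxt hπx
    rcases hAK x (mk_eq_one_iff.mp hπx) hxx with h1 | h1
    · exact hx1 h1
    · exact hxt h1
  -- transitivity
  have htrans : ∀ a ∈ A, ∀ b : C, b ∈ T → b * b = 1 → a ≠ 1 → a ≠ t → b ≠ 1 → b ≠ t →
      ∃ n ∈ Subgroup.normalizer (Q : Set C), π n ∈ D ∧ π (n * a * n⁻¹) = π b := by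
    intro a ha b hb hbb ha1 hat hb1 hbt
    obtain ⟨d, hd, hdab⟩ := hDtr (π a) (hEL a (hQT ha.1) ha.2.2) (π b) (hEL b hb hbb)
      (hπne a ha.2.2 ha1 hat) (hπne b hbb hb1 hbt)
    obtain ⟨m, rfl⟩ := QuotientGroup.mk'_surjective _ d
    obtain ⟨n, hn, hnm⟩ := exists_normalizer hL T hTM (mk_mem_iff.mp (hDM hd))
    refine ⟨n, hn, by rw [hπ, hnm]; exact hd, ?_⟩
    rw [map_mul, map_mul, map_inv, hπ, hnm]
    exact hdab
  -- all involutions of `T` lie in `A`
  have hall : ∀ x ∈ T, x * x = 1 → x ∈ A := by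
    intro x hx hxx
    by_cases hx1 : x = 1
    · rw [hx1]; exact one_mem _
    by_cases hxt : x = t
    · rw [hxt]; exact htA
    obtain ⟨n, hn, -, hnx⟩ := htrans x₀ hx₀A x hx hxx (CentralSetup.ne_one_of_orderOf hx₀2) hx₀t
      hx1 hxt
    have haA := conj_mem_OmZ hn hx₀A
    set a := n * x₀ * n⁻¹ with ha
    have haT : a ∈ T := hQT haA.1
    have hr : a⁻¹ * x ∈ M.normalCore := mk_eq_iff.mp hnx
    have hrT : a⁻¹ * x ∈ T := mul_mem (inv_mem haT) hx
    have hrQ : a⁻¹ * x ∈ Q := hRQ ⟨hrT, hr⟩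
    have hxQ := hTQ x hx hxx
    have hrr : a⁻¹ * x * (a⁻¹ * x) = 1 := by
      have h1 : a⁻¹ = a := inv_eq_of_mul_eq_one_right haA.2.2
      rw [h1]
      calc a * x * (a * x) = (a * x) * (x * a) := by rw [haA.2.1 x hxQ]
        _ = a * (x * x) * a := by group
        _ = 1 := by rw [hxx, mul_one, haA.2.2]
    have hxa : x = a * (a⁻¹ * x) := by group
    rw [hxa]
    rcases hAK _ hr hrr with h1 | h1
    · rw [h1, mul_one]; exact haA
    · rw [h1]; exact mul_mem haA htA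
  have hA8 : 8 ≤ Nat.card A := by
    have h1 : A₀ ≤ A := fun x hx => hall x (hA₀T hx) (Dichotomy.Elem.elem_sq hA₀.1 hx)
    exact le_trans hA₀.2 (Subgroup.card_le_of_le h1)
  -- the group `W`
  set W : Subgroup C := Subgroup.normalizer (Q : Set C) ⊓ D.comap π with hW
  set NA : Subgroup C := Subgroup.normalizer ((A : Subgroup C) : Set C) with hNA
  have hWNA : W ≤ NA := inf_le_left.trans normalizer_le_OmZ
  set R : Subgroup C := (T : Subgroup C) ⊓ M.normalCore with hR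
  have hRW : R ≤ W := by
    intro x hx
    refine ⟨Subgroup.le_normalizer (hRQ hx), ?_⟩
    show π x ∈ D
    rw [mk_eq_one_iff.mpr hx.2]; exact one_mem _
  have hRWodd : ¬ 2 ∣ R.relIndex W := by
    have h1 : R ≤ W ⊓ M.normalCore := le_inf hRW inf_le_right
    have h2 := Subgroup.relIndex_mul_relIndex R (W ⊓ M.normalCore) W h1 inf_le_left
    rw [← h2]
    intro h3
    rcases (Nat.Prime.dvd_mul Nat.prime_two).mp h3 with h4 | h4
    · have h5 : R.relIndex (W ⊓ M.normalCore) ∣ R.relIndex M.normalCore := by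
        have h6 := Subgroup.relIndex_mul_relIndex R (W ⊓ M.normalCore) M.normalCore h1 inf_le_right
        exact ⟨_, h6.symm⟩
      have h7 : R.relIndex M.normalCore = (T : Subgroup C).relIndex M.normalCore :=
        Subgroup.inf_relIndex_right _ _
      rw [h7] at h5
      exact Cfsg.Agent.Lib.SylowNormalInf.not_dvd_relIndex T M.normalCore (h4.trans h5)
    · have h5 : (W ⊓ M.normalCore).relIndex W = M.normalCore.relIndex W :=
        Subgroup.inf_relIndex_left _ _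
      have h6 : M.normalCore.relIndex W = Nat.card (W.map π) := by
        rw [← Subgroup.relIndex_ker, hπ, QuotientGroup.ker_mk']
      have h7 : W.map π ≤ D := by
        rintro _ ⟨w, hw, rfl⟩
        exact hw.2
      rw [h5, h6] at h4
      have h8 := h4.trans (Subgroup.card_dvd_of_le h7)
      exact (Nat.not_even_iff_odd.mpr hDodd) (even_iff_two_dvd.mpr h8)
  -- the action on `A`
  let ρ := A.normalizerMonoidHom
  let W' : Subgroup (MulAut A) := (W.subgroupOf NA).map ρ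
  have hρ : ∀ (w : C) (hw : w ∈ NA) (a : A), ((ρ ⟨w, hw⟩ a : A) : C) = w * a * w⁻¹ :=
    fun w hw a => rfl
  have hW'odd : Odd (Nat.card W') := by
    refine odd_card_map ρ (R := R.subgroupOf NA) (W := W.subgroupOf NA) ?_ ?_
    · rintro ⟨r, hrN⟩ hr
      have hr' : r ∈ R := hr
      rw [MonoidHom.mem_ker]
      ext a
      rw [hρ]
      show r * a * r⁻¹ = a
      have := a.2.2.1 r (hRQ hr')
      rw [← this, mul_inv_cancel_right]
    · rw [Subgroup.relIndex_subgroupOf hWNA]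
      exact hRWodd
  let _ : CommGroup A := { (inferInstance : Group A) with
    mul_comm := by
      rintro ⟨a, ha⟩ ⟨b, hb⟩
      exact Subtype.ext (ha.2.1 b hb.1) }
  obtain ⟨E', htE', hE'all, hE'W⟩ := exists_complement (A := A) W' hW'odd ⟨t, htA⟩
    (Subtype.ext htt) (fun h1 => CentralSetup.ne_one_of_orderOf h.ord (congrArg Subtype.val h1))
    (by
      rintro w' ⟨⟨w, hwN⟩, hw, rfl⟩
      apply Subtype.ext
      rw [hρ]
      show w * t * w⁻¹ = t
      rw [(h.central w).eq, mul_inv_cancel_right])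
    (by
      rintro ⟨a, ha⟩ ⟨b, hb⟩ ha1 hat hb1 hbt
      obtain ⟨n, hn, hnD, hnab⟩ := htrans a ha b (hQT hb.1) hb.2.2
        (fun h1 => ha1 (Subtype.ext h1)) (fun h1 => hat (Subtype.ext h1))
        (fun h1 => hb1 (Subtype.ext h1)) (fun h1 => hbt (Subtype.ext h1))
      have hnW : n ∈ W := ⟨hn, hnD⟩
      refine ⟨ρ ⟨n, hWNA hnW⟩, ⟨⟨n, hWNA hnW⟩, hnW, rfl⟩, ?_⟩
      have haA := conj_mem_OmZ hn ha
      have hk : b⁻¹ * (n * a * n⁻¹) ∈ M.normalCore := mk_eq_iff.mp hnab.symm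
      have hkA : b⁻¹ * (n * a * n⁻¹) ∈ A := mul_mem (inv_mem hb) haA
      rcases hAK _ hk hkA.2.2 with h1 | h1
      · left
        apply Subtype.ext
        rw [hρ]
        show n * a * n⁻¹ = b
        calc n * a * n⁻¹ = b * (b⁻¹ * (n * a * n⁻¹)) := by group
          _ = b := by rw [h1, mul_one]
      · right
        apply Subtype.ext
        rw [hρ]
        show n * a * n⁻¹ = b * t
        calc n * a * n⁻¹ = b * (b⁻¹ * (n * a * n⁻¹)) := by group
          _ = b * t := by rw [h1])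
    hA8
  set E := E'.map A.subtype with hE
  have hmemE : ∀ x : C, ∀ hx : x ∈ A, x ∈ E ↔ (⟨x, hx⟩ : A) ∈ E' := by
    intro x hx
    constructor
    · rintro ⟨y, hy, hyx⟩
      have : y = ⟨x, hx⟩ := Subtype.ext hyx
      rwa [← this]
    · intro hx'; exact ⟨_, hx', rfl⟩
  have hEA : E ≤ A := by
    rintro _ ⟨y, -, rfl⟩
    exact y.2
  refine ⟨E, fun x hx => hQT (hEA hx).1, fun x hx => (hEA hx).2.2, ?_, ?_, ?_, ?_⟩
  · intro htE
    exact htE' ((hmemE t htA).mp htE)
  · have h1 : Nat.card A ≤ 2 * Nat.card E := by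
      refine BigCent.card_le_two t ?_
      intro a ha
      rcases hE'all ⟨a, ha⟩ with h2 | h2
      · left; exact (hmemE a ha).mpr h2
      · right; exact (hmemE (t * a) (mul_mem htA ha)).mpr h2
    omega
  · intro x hx hxx
    have hxA := hall x hx hxx
    rcases hE'all ⟨x, hxA⟩ with h2 | h2
    · left; exact (hmemE x hxA).mpr h2
    · right; exact (hmemE (t * x) (mul_mem htA hxA)).mpr h2
  · intro x hx y hy hx1 hy1
    have hxA := hEA hx
    have hyA := hEA hy
    have hxt : x ≠ t := by rintro rfl; exact htE' ((hmemE _ htA).mp hx)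
    have hyt : y ≠ t := by rintro rfl; exact htE' ((hmemE _ htA).mp hy)
    obtain ⟨n, hn, hnD, hnxy⟩ := htrans x hxA y (hQT hyA.1) hyA.2.2 hx1 hxt hy1 hyt
    refine ⟨n, ?_⟩
    have hnW : n ∈ W := ⟨hn, hnD⟩
    have hnE : n * x * n⁻¹ ∈ E := by
      have h1 := hE'W (ρ ⟨n, hWNA hnW⟩) ⟨⟨n, hWNA hnW⟩, hnW, rfl⟩ ⟨x, hxA⟩ ((hmemE x hxA).mp hx)
      exact ⟨_, h1, rfl⟩
    have hk : y⁻¹ * (n * x * n⁻¹) ∈ M.normalCore := mk_eq_iff.mp hnxy.symm
    have hkE : y⁻¹ * (n * x * n⁻¹) ∈ E := mul_mem (inv_mem hy) hnE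
    rcases hAK _ hk (hEA hkE).2.2 with h1 | h1
    · calc n * x * n⁻¹ = y * (y⁻¹ * (n * x * n⁻¹)) := by group
        _ = y := by rw [h1, mul_one]
    · exfalso
      rw [h1] at hkE
      exact htE' ((hmemE _ htA).mp hkE)

end Cfsg.Agent.TwoGenCore.CentralFive
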