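import Mathlib
import Cfsg.Agent.TwoGenCore.Involution
import Cfsg.Agent.TwoGenCore.GoodFusion
import Cfsg.Agent.AschCrit.NonIso
import Cfsg.Agent.Lib.SylowNormalInf

/-!
# Proper 2-generated cores: finite groups with a central involution and a closed proper subgroup

`CSetup M t` : `M` is a proper closed subgroup of the finite group `C`, `t ∈ M` an involution central in
`C`.  With `K = M.normalCore`, `X = C ⧸ K`, `M̄ = M.map (mk' K)`:

* every involution `x ≠ t` of `M` fixes exactly one coset (`CSetup.mem_of_conj`), `t` is the only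
  involution of `K`;
* `CSetup.setup` : if `x` is such an involution, contained in a Sylow 2-subgroup `T ≤ M` with
  `s x s⁻¹ ∈ {x, x t}` for `s ∈ T`, and either `x ∈ Z(T)` or `T ∩ K` contains an element of order `4`,
  then the hypotheses of Aschbacher's criterion hold for the image of `x` in `X` acting on the cosets
  of `M̄`.
-/

set_option autoImplicit false

open scoped Pointwise

namespace Cfsg.Agent.TwoGenCore.CentralSetup

open Cfsg Cfsg.Agent.TwoGenCore.Involution

universe u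

variable {C : Type u} [Group C]

/-- `M` is a proper closed subgroup of `C`, `t ∈ M` is an involution central in `C`. -/
structure CSetup (M : Subgroup C) (t : C) : Prop where
  closed : Closed M
  ne_top : M ≠ ⊤
  mem : t ∈ M
  ord : orderOf t = 2
  central : ∀ g : C, Commute g t

theorem sq_eq_one {x : C} (h : orderOf x = 2) : x * x = 1 := by
  rw [← pow_two, ← h]; exact pow_orderOf_eq_one x

theorem orderOf_eq_two {x : C} (h : x * x = 1) (h1 : x ≠ 1) : orderOf x = 2 :=
  orderOf_eq_prime (by rw [pow_two]; exact h) h1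

theorem ne_one_of_orderOf {x : C} (h : orderOf x = 2) : x ≠ 1 := by
  rintro rfl; simp at h

theorem orderOf_conj (g x : C) : orderOf (g * x * g⁻¹) = orderOf x := by
  have := orderOf_injective (MulAut.conj g).toMonoidHom (MulAut.conj g).injective x
  simpa [MulAut.conj_apply] using this

variable {M : Subgroup C} {t : C}

section

variable [Finite C]

namespace CSetup

theorem mem_of_conj (h : CSetup M t) {g x : C} (hx : x ∈ M) (hx2 : orderOf x = 2) (hxt : x ≠ t)
    (hg : g * x * g⁻¹ ∈ M) : g ∈ M := by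
  have h1 : g⁻¹ ∈ M := by
    refine h.closed.mem_of_commute hx h.mem (by rwa [inv_inv]) ?_ hx2 h.ord (h.central x) hxt
    have : g⁻¹⁻¹ * t * g⁻¹ = t := by
      rw [inv_inv, (h.central g).eq, mul_inv_cancel_right]
    rw [this]; exact h.mem
  simpa using M.inv_mem h1

theorem mem_of_commute (h : CSetup M t) {g x : C} (hx : x ∈ M) (hx2 : orderOf x = 2) (hxt : x ≠ t)
    (hg : Commute g x) : g ∈ M := by
  refine h.mem_of_conj hx hx2 hxt ?_
  rw [hg.eq, mul_inv_cancel_right]; exact hx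

omit [Finite C] in
theorem t_mem_core (h : CSetup M t) : t ∈ M.normalCore := by
  intro g
  have : g * t * g⁻¹ = t := by rw [(h.central g).eq, mul_inv_cancel_right]
  rw [this]; exact h.mem

theorem core_invol (h : CSetup M t) {x : C} (hx : x ∈ M.normalCore) (hx2 : orderOf x = 2) :
    x = t := by
  by_contra hxt
  apply h.ne_top
  rw [eq_top_iff]
  intro g _
  exact h.mem_of_conj (Subgroup.normalCore_le M hx) hx2 hxt (hx g)

/-- the image of `M` in `C ⧸ K` -/
abbrev Mbar (M : Subgroup C) : Subgroup (C ⧸ M.normalCore) := M.map (QuotientGroup.mk' M.normalCore)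

omit [Finite C] in
theorem mk_mem_iff {g : C} : QuotientGroup.mk' M.normalCore g ∈ Mbar M ↔ g ∈ M := by
  constructor
  · rintro ⟨m, hm, hmg⟩
    have h1 : m⁻¹ * g ∈ M.normalCore := by
      rw [← QuotientGroup.ker_mk' M.normalCore, MonoidHom.mem_ker, map_mul, map_inv, hmg,
        inv_mul_cancel]
    have := M.mul_mem hm (Subgroup.normalCore_le M h1)
    simpa using this
  · intro hg
    exact ⟨g, hg, rfl⟩

omit [Finite C] in
theorem mk_eq_one_iff {g : C} : QuotientGroup.mk' M.normalCore g = 1 ↔ g ∈ M.normalCore := by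
  rw [← MonoidHom.mem_ker, QuotientGroup.ker_mk']

omit [Finite C] in
theorem mk_eq_iff {a b : C} : QuotientGroup.mk' M.normalCore a = QuotientGroup.mk' M.normalCore b ↔
    a⁻¹ * b ∈ M.normalCore := by
  rw [← mk_eq_one_iff, map_mul, map_inv, inv_mul_eq_one]

omit [Finite C] in
theorem Mbar_ne_top (h : CSetup M t) : Mbar M ≠ ⊤ := by
  intro htop
  apply h.ne_top
  rw [eq_top_iff]
  intro g _
  rw [← mk_mem_iff, htop]; trivial

omit [Finite C] in
/-- `C ⧸ K` is faithful on the cosets of `M̄`. -/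
theorem faithful {g : C ⧸ M.normalCore} (hg : ∀ k : C ⧸ M.normalCore, k * g * k⁻¹ ∈ Mbar M) :
    g = 1 := by
  obtain ⟨g, rfl⟩ := QuotientGroup.mk'_surjective _ g
  rw [mk_eq_one_iff]
  intro k
  have := hg (QuotientGroup.mk' _ k)
  rw [← map_inv, ← map_mul, ← map_mul, mk_mem_iff] at this
  exact this

theorem mk_ord (h : CSetup M t) {x : C} (hx2 : orderOf x = 2) (hxt : x ≠ t) :
    orderOf (QuotientGroup.mk' M.normalCore x) = 2 := by
  apply orderOf_eq_two
  · rw [← map_mul, sq_eq_one hx2, map_one]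
  · rw [Ne, mk_eq_one_iff]
    intro hx
    exact hxt (h.core_invol hx hx2)

theorem mk_mem_of_conj (h : CSetup M t) {x : C} (hx : x ∈ M) (hx2 : orderOf x = 2) (hxt : x ≠ t)
    {g : C ⧸ M.normalCore} (hg : g * QuotientGroup.mk' M.normalCore x * g⁻¹ ∈ Mbar M) :
    g ∈ Mbar M := by
  obtain ⟨g, rfl⟩ := QuotientGroup.mk'_surjective _ g
  rw [← map_inv, ← map_mul, ← map_mul, mk_mem_iff] at hg
  rw [mk_mem_iff]
  exact h.mem_of_conj hx hx2 hxt hg

theorem mk_mem_of_commute (h : CSetup M t) {x : C} (hx : x ∈ M) (hx2 : orderOf x = 2) (hxt : x ≠ t)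
    {g : C ⧸ M.normalCore} (hg : Commute g (QuotientGroup.mk' M.normalCore x)) : g ∈ Mbar M := by
  refine h.mk_mem_of_conj hx hx2 hxt ?_
  rw [hg.eq, mul_inv_cancel_right]
  exact mk_mem_iff.mpr hx

/-- a 2-element `q ≠ 1, t` of the core has a power whose square is `t` -/
theorem exists_pow_sq (h : CSetup M t) {q : C} (hq : q ∈ M.normalCore) (hq2 : ∃ k : ℕ, q ^ 2 ^ k = 1)
    (hq1 : q ≠ 1) (hqt : q ≠ t) : ∃ k : ℕ, q ^ k * q ^ k = t := by
  obtain ⟨k, hk⟩ := hq2
  obtain ⟨m, -, hm⟩ := (Nat.dvd_prime_pow Nat.prime_two).mp (orderOf_dvd_of_pow_eq_one hk)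
  rcases Nat.lt_or_ge m 2 with hm2 | hm2
  · interval_cases m
    · rw [pow_zero, orderOf_eq_one_iff] at hm
      exact absurd hm hq1
    · rw [pow_one] at hm
      exact absurd (h.core_invol hq hm) hqt
  · obtain ⟨j, rfl⟩ : ∃ j, m = j + 2 := ⟨m - 2, by omega⟩
    refine ⟨2 ^ j, ?_⟩
    rw [← pow_add]
    have h1 : orderOf (q ^ (2 ^ j + 2 ^ j)) = 2 := by
      have h2 : 2 ^ j + 2 ^ j ∣ orderOf q := by
        rw [hm]; exact ⟨2, by ring⟩
      rw [orderOf_pow_of_dvd (by positivity) h2, hm]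
      have h3 : (2 : ℕ) ^ (j + 2) = (2 ^ j + 2 ^ j) * 2 := by ring
      rw [h3]
      exact Nat.mul_div_cancel_left 2 (by positivity)
    exact h.core_invol (Subgroup.pow_mem _ hq _) h1

/-- **Criterion.**  The third hypothesis of Aschbacher's criterion for the image of `x`. -/
theorem criterion (h : CSetup M t) (T : Sylow 2 C) (hTM : (T : Subgroup C) ≤ M) {x : C}
    (hxT : x ∈ T) (hx2 : orderOf x = 2) (hxt : x ≠ t)
    (hTx : ∀ s ∈ T, s * x * s⁻¹ = x ∨ s * x * s⁻¹ = x * t)
    (hor : (∀ s ∈ T, Commute s x) ∨ ∃ r ∈ T, r ∈ M.normalCore ∧ r * r = t)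
    (g : C ⧸ M.normalCore)
    (hg1 : Commute (QuotientGroup.mk' M.normalCore x) (g * QuotientGroup.mk' M.normalCore x * g⁻¹))
    (hg2 : g * QuotientGroup.mk' M.normalCore x * g⁻¹ ≠ QuotientGroup.mk' M.normalCore x)
    (c : C ⧸ M.normalCore)
    (hc : Commute c (QuotientGroup.mk' M.normalCore x *
      (g * QuotientGroup.mk' M.normalCore x * g⁻¹))) : c ∈ Mbar M := by
  have hp : Fact (Nat.Prime 2) := ⟨Nat.prime_two⟩
  have hxM : x ∈ M := hTM hxT
  have htt : t * t = 1 := sq_eq_one h.ord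
  have hxx : x * x = 1 := sq_eq_one hx2
  set π := QuotientGroup.mk' M.normalCore with hπ
  have hπt : π t = 1 := mk_eq_one_iff.mpr h.t_mem_core
  -- `T̄` centralises `x̄`
  have hTc : ∀ s ∈ T, Commute (π s) (π x) := by
    intro s hs
    have h1 : π (s * x * s⁻¹) = π x := by
      rcases hTx s hs with h1 | h1
      · rw [h1]
      · rw [h1, map_mul, hπt, mul_one]
    rw [map_mul, map_mul, map_inv] at h1
    show π s * π x = π x * π s
    calc π s * π x = π s * π x * (π s)⁻¹ * π s := by group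
      _ = π x * π s := by rw [h1]
  let Tb : Sylow 2 (C ⧸ M.normalCore) := T.mapSurjective (QuotientGroup.mk'_surjective M.normalCore)
  have hTb : (Tb : Subgroup (C ⧸ M.normalCore)) = (T : Subgroup C).map π := rfl
  set Cx : Subgroup (C ⧸ M.normalCore) := Subgroup.centralizer ({π x} : Set (C ⧸ M.normalCore))
    with hCx
  have hTbC : (Tb : Subgroup (C ⧸ M.normalCore)) ≤ Cx := by
    rw [hTb]
    rintro _ ⟨s, hs, rfl⟩
    exact Subgroup.mem_centralizer_singleton_iff.mpr (hTc s hs).eq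
  have hCxM : Cx ≤ Mbar M := by
    intro y hy
    exact h.mk_mem_of_commute hxM hx2 hxt (Subgroup.mem_centralizer_singleton_iff.mp hy)
  have hgM : g ∈ Mbar M := by
    apply h.mk_mem_of_conj hxM hx2 hxt
    exact hCxM (Subgroup.mem_centralizer_singleton_iff.mpr hg1.symm.eq)
  set e := g * π x * g⁻¹ with he
  have he2 : orderOf e = 2 := by rw [he, orderOf_conj]; exact h.mk_ord hx2 hxt
  -- conjugate `e` into `T̄`
  obtain ⟨c₁, hc₁, hc₁le⟩ := GoodFusion.exists_conj_le (p := 2) (K := Cx) (Tb.subtype hTbC)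
    (GoodFusion.isPGroup_zpowers he2)
    (by rw [Subgroup.zpowers_le]; exact Subgroup.mem_centralizer_singleton_iff.mpr hg1.symm.eq)
  have hc₁e : c₁ * e * c₁⁻¹ ∈ (T : Subgroup C).map π := by
    have h1 := hc₁le ⟨e, Subgroup.mem_zpowers e, rfl⟩
    rw [Sylow.coe_subtype, Subgroup.subgroupOf_map_subtype] at h1
    exact h1.1
  -- Frattini
  set R : Subgroup C := (T : Subgroup C) ⊓ M.normalCore with hR
  set N : Subgroup C := Subgroup.normalizer (R : Set C) with hN
  have hfrat := Cfsg.Agent.Lib.SylowNormalInf.normalizer_inf_sup_eq_top T M.normalCore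
  have hTN : (T : Subgroup C) ≤ N := by
    intro s hs
    rw [hN, Subgroup.mem_normalizer_iff]
    intro r
    constructor
    · rintro ⟨h1, h2⟩
      exact ⟨(T : Subgroup C).mul_mem ((T : Subgroup C).mul_mem hs h1) ((T : Subgroup C).inv_mem hs),
        (inferInstance : M.normalCore.Normal).conj_mem r h2 s⟩
    · rintro ⟨h1, h2⟩
      constructor
      · have h3 := (T : Subgroup C).mul_mem ((T : Subgroup C).mul_mem ((T : Subgroup C).inv_mem hs) h1) hs
        have h4 : s⁻¹ * (s * r * s⁻¹) * s = r := by group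
        rwa [h4] at h3
      · have := (inferInstance : M.normalCore.Normal).conj_mem _ h2 s⁻¹
        simpa [mul_assoc] using this
  obtain ⟨n, hnN, hn⟩ : ∃ n ∈ N, π n = c₁ * g := by
    obtain ⟨a, ha⟩ := QuotientGroup.mk'_surjective M.normalCore (c₁ * g)
    have h1 : a ∈ N ⊔ M.normalCore := by rw [hN, hR, hfrat]; trivial
    obtain ⟨n, hn, k, hk, hnk⟩ := Subgroup.mem_sup_of_normal_right.mp h1
    refine ⟨n, hn, ?_⟩
    rw [← ha, ← hnk, map_mul]
    have : (QuotientGroup.mk' M.normalCore) k = 1 := mk_eq_one_iff.mpr hk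
    rw [this, mul_one]
  have hxN : x ∈ N := hTN hxT
  have he1 : π (n * x * n⁻¹) = c₁ * e * c₁⁻¹ := by
    rw [map_mul, map_mul, map_inv, hn, he]; group
  obtain ⟨s, hs, hse⟩ := hc₁e
  have hse1 : s⁻¹ * (n * x * n⁻¹) ∈ M.normalCore := by
    rw [← mk_eq_iff, hse, ← he1]
  have he1N : n * x * n⁻¹ ∈ N := mul_mem (mul_mem hnN hxN) (inv_mem hnN)
  set P : Subgroup C := (T : Subgroup C) ⊔ (N ⊓ M.normalCore) with hP
  have he1P : n * x * n⁻¹ ∈ P := by
    have h1 : s⁻¹ * (n * x * n⁻¹) ∈ N ⊓ M.normalCore :=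
      ⟨N.mul_mem (N.inv_mem (hTN hs)) he1N, hse1⟩
    have h2 := mul_mem (Subgroup.mem_sup_left (T := N ⊓ M.normalCore) hs)
      (Subgroup.mem_sup_right (S := (T : Subgroup C)) h1)
    rwa [mul_inv_cancel_left] at h2
  have hPN : P ≤ N := sup_le hTN inf_le_left
  have hPT : ∀ y ∈ P, π y ∈ (T : Subgroup C).map π := by
    have : P ≤ ((T : Subgroup C).map π).comap π := by
      refine sup_le ?_ ?_
      · intro y hy; exact ⟨y, hy, rfl⟩
      · intro y hy
        rw [Subgroup.mem_comap]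
        have h1 : π y = 1 := mk_eq_one_iff.mpr hy.2
        rw [h1]; exact one_mem _
    exact fun y hy => this hy
  obtain ⟨y, hyP, hyle⟩ := GoodFusion.exists_conj_le (p := 2) (K := P)
    (T.subtype (le_sup_left : (T : Subgroup C) ≤ P))
    (GoodFusion.isPGroup_zpowers (t := n * x * n⁻¹) (by rw [orderOf_conj]; exact hx2))
    (by rw [Subgroup.zpowers_le]; exact he1P)
  have hyb : y * (n * x * n⁻¹) * y⁻¹ ∈ T := by
    have h1 := hyle ⟨n * x * n⁻¹, Subgroup.mem_zpowers _, rfl⟩
    rw [Sylow.coe_subtype, Subgroup.subgroupOf_map_subtype] at h1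
    exact h1.1
  -- `b = k x k⁻¹`
  set k := y * n with hk
  have hkN : k ∈ N := mul_mem (hPN hyP) hnN
  set b := k * x * k⁻¹ with hb
  have hbT : b ∈ T := by
    have : b = y * (n * x * n⁻¹) * y⁻¹ := by rw [hb, hk]; group
    rw [this]; exact hyb
  have hb2 : orderOf b = 2 := by rw [hb, orderOf_conj]; exact hx2
  have hbb : b * b = 1 := sq_eq_one hb2
  -- `c₂ = ȳ c₁`
  have hyC : π y ∈ Cx := hTbC (by rw [hTb]; exact hPT y hyP)
  set c₂ := π y * c₁ with hc₂
  have hc₂C : c₂ ∈ Cx := mul_mem hyC hc₁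
  have hc₂x : c₂ * π x = π x * c₂ := Subgroup.mem_centralizer_singleton_iff.mp hc₂C
  have hπb : π b = c₂ * e * c₂⁻¹ := by
    rw [hb, hk, map_mul, map_mul, map_inv, map_mul, hn, hc₂, he]; group
  have hπv : π (x * b) = c₂ * (π x * e) * c₂⁻¹ := by
    rw [map_mul, hπb]
    calc π x * (c₂ * e * c₂⁻¹) = (π x * c₂) * e * c₂⁻¹ := by group
      _ = (c₂ * π x) * e * c₂⁻¹ := by rw [hc₂x]
      _ = _ := by group
  have hπv1 : π (x * b) ≠ 1 := by
    intro h1
    rw [hπv] at h1
    have h2 : π x * e = 1 := by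
      have h3 : c₂⁻¹ * (c₂ * (π x * e) * c₂⁻¹) * c₂ = c₂⁻¹ * 1 * c₂ := by rw [h1]
      have h4 : c₂⁻¹ * (c₂ * (π x * e) * c₂⁻¹) * c₂ = π x * e := by group
      rw [h4] at h3
      rw [h3]; group
    apply hg2
    have h3 : π x * π x = 1 := by rw [← map_mul, hxx, map_one]
    calc e = (π x * π x) * e := by rw [h3, one_mul]
      _ = π x * (π x * e) := by group
      _ = π x := by rw [h2, mul_one]
  -- it is enough to find an involution `w ∈ M` over `π v`
  suffices hw : ∃ w ∈ M, orderOf w = 2 ∧ w ≠ t ∧ π w = π (x * b) by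
    obtain ⟨w, hwM, hw2, hwt, hwv⟩ := hw
    have h1 : Commute (c₂ * c * c₂⁻¹) (π w) := by
      rw [hwv, hπv]
      show c₂ * c * c₂⁻¹ * (c₂ * (π x * e) * c₂⁻¹) = c₂ * (π x * e) * c₂⁻¹ * (c₂ * c * c₂⁻¹)
      calc c₂ * c * c₂⁻¹ * (c₂ * (π x * e) * c₂⁻¹) = c₂ * (c * (π x * e)) * c₂⁻¹ := by group
        _ = c₂ * ((π x * e) * c) * c₂⁻¹ := by rw [hc.eq]
        _ = _ := by group
    have h2 := h.mk_mem_of_commute hwM hw2 hwt h1
    have h3 := mul_mem (mul_mem (inv_mem (hCxM hc₂C)) h2) (hCxM hc₂C)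
    have h4 : c₂⁻¹ * (c₂ * c * c₂⁻¹) * c₂ = c := by group
    rwa [h4] at h3
  have hfin : ∀ w : C, w ∈ M → w * w = 1 → π w = π (x * b) →
      ∃ w ∈ M, orderOf w = 2 ∧ w ≠ t ∧ π w = π (x * b) := by
    intro w hwM hww hwv
    refine ⟨w, hwM, orderOf_eq_two hww ?_, ?_, hwv⟩
    · rintro rfl
      apply hπv1
      rw [← hwv, map_one]
    · rintro rfl
      apply hπv1
      rw [← hwv, hπt]
  have hvM : x * b ∈ M := mul_mem hxM (hTM hbT)
  by_cases hcomm : b * x * b⁻¹ = x
  · refine hfin (x * b) hvM ?_ rfl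
    have h1 : b * x = x * b := by
      calc b * x = b * x * b⁻¹ * b := by group
        _ = x * b := by rw [hcomm]
    calc x * b * (x * b) = x * (b * x) * b := by group
      _ = (x * x) * (b * b) := by rw [h1]; group
      _ = 1 := by rw [hxx, hbb, one_mul]
  · have hbx : b * x * b⁻¹ = x * t := (hTx b hbT).resolve_left hcomm
    have hor' : ∃ r ∈ T, r ∈ M.normalCore ∧ r * r = t := by
      refine hor.resolve_left ?_
      intro h1
      apply hcomm
      rw [(h1 b hbT).eq, mul_inv_cancel_right]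
    have hvv : x * b * (x * b) = t := by
      calc x * b * (x * b) = x * (b * x * b⁻¹) * (b * b) := by group
        _ = (x * x) * t := by rw [hbx, hbb]; group
        _ = t := by rw [hxx, one_mul]
    -- an element `r` with `r² = t` commuting with `v`
    suffices hr : ∃ r ∈ M.normalCore, r * r = t ∧ Commute r (x * b) by
      obtain ⟨r, hrK, hrt, hrv⟩ := hr
      refine hfin (r * (x * b)) (mul_mem (Subgroup.normalCore_le M hrK) hvM) ?_ ?_
      · calc r * (x * b) * (r * (x * b)) = r * ((x * b) * r) * (x * b) := by group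
          _ = r * (r * (x * b)) * (x * b) := by rw [hrv.eq]
          _ = (r * r) * (x * b * (x * b)) := by group
          _ = 1 := by rw [hrt, hvv, htt]
      · rw [map_mul, (mk_eq_one_iff.mpr hrK : π r = 1), one_mul]
    have htc : ∀ a : C, a * t = t * a := fun a => (h.central a).eq
    -- the action of `x` on `R`
    have hxr : ∀ r ∈ R, x * r * x⁻¹ = r ∨ x * r * x⁻¹ = r * t := by
      intro r hr
      rcases hTx r hr.1 with h1 | h1
      · left
        have h2 : r * x = x * r := by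
          calc r * x = r * x * r⁻¹ * r := by group
            _ = x * r := by rw [h1]
        rw [← h2, mul_inv_cancel_right]
      · right
        have h2 : r * x = x * r * t := by
          calc r * x = r * x * r⁻¹ * r := by group
            _ = x * (t * r) := by rw [h1]; group
            _ = x * r * t := by rw [← htc r]; group
        calc x * r * x⁻¹ = x * r * (t * t) * x⁻¹ := by rw [htt, mul_one]
          _ = (x * r * t) * t * x⁻¹ := by group
          _ = r * x * t * x⁻¹ := by rw [← h2]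
          _ = r * (x * t) * x⁻¹ := by group
          _ = r * (t * x) * x⁻¹ := by rw [htc x]
          _ = r * t := by group
    have hkR : ∀ r ∈ R, k⁻¹ * r * k ∈ R := by
      intro r hr
      have := (Subgroup.mem_normalizer_iff.mp (inv_mem hkN) r).mp hr
      rwa [inv_inv] at this
    have hbr : ∀ r ∈ R, (x * (k⁻¹ * r * k) * x⁻¹ = k⁻¹ * r * k → b * r * b⁻¹ = r) ∧
        (x * (k⁻¹ * r * k) * x⁻¹ = k⁻¹ * r * k * t → b * r * b⁻¹ = r * t) := by
      intro r hr
      have h1 : b * r * b⁻¹ = k * (x * (k⁻¹ * r * k) * x⁻¹) * k⁻¹ := by rw [hb]; group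
      constructor
      · intro h2
        rw [h1, h2]; group
      · intro h2
        rw [h1, h2]
        calc k * (k⁻¹ * r * k * t) * k⁻¹ = r * (k * t) * k⁻¹ := by group
          _ = r * (t * k) * k⁻¹ := by rw [htc k]
          _ = r * t := by group
    by_contra hcon
    push Not at hcon
    -- every `r ∈ R` with `r² = t` is moved to `r t` by `v`
    have hmove : ∀ r ∈ R, r * r = t → x * b * r * (x * b)⁻¹ = r * t := by
      intro r hr hrt
      have h1 : x * b * r * (x * b)⁻¹ = r ∨ x * b * r * (x * b)⁻¹ = r * t := by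
        have h2 : x * b * r * (x * b)⁻¹ = x * (b * r * b⁻¹) * x⁻¹ := by group
        have hxt' : x * (r * t) * x⁻¹ = (x * r * x⁻¹) * t := by
          calc x * (r * t) * x⁻¹ = x * r * (t * x⁻¹) := by group
            _ = x * r * (x⁻¹ * t) := by rw [← htc x⁻¹]
            _ = _ := by group
        have hrtt : r * t * t = r := by rw [mul_assoc, htt, mul_one]
        rcases hxr _ (hkR r hr) with h3 | h3
        · rw [h2, (hbr r hr).1 h3]
          exact hxr r hr
        · rw [h2, (hbr r hr).2 h3, hxt']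
          rcases hxr r hr with h4 | h4
          · right; rw [h4]
          · left; rw [h4, hrtt]
      rcases h1 with h1 | h1
      · exfalso
        apply hcon r hr.2 hrt
        show r * (x * b) = x * b * r
        calc r * (x * b) = (x * b * r * (x * b)⁻¹) * (x * b) := by rw [h1]
          _ = x * b * r := by group
      · exact h1
    obtain ⟨r₀, hr₀T, hr₀K, hr₀t⟩ := hor'
    have hr₀R : r₀ ∈ R := ⟨hr₀T, hr₀K⟩
    have hr₁R := hkR r₀ hr₀R
    set r₁ := k⁻¹ * r₀ * k with hr₁
    have hr₁t : r₁ * r₁ = t := by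
      calc r₁ * r₁ = k⁻¹ * (r₀ * r₀) * k := by rw [hr₁]; group
        _ = k⁻¹ * (t * k) := by rw [hr₀t]; group
        _ = k⁻¹ * (k * t) := by rw [htc k]
        _ = t := by group
    -- `r₀ r₁` commutes with `v`
    have hq : Commute (r₀ * r₁) (x * b) := by
      have h1 : x * b * (r₀ * r₁) * (x * b)⁻¹ = r₀ * r₁ := by
        calc x * b * (r₀ * r₁) * (x * b)⁻¹ = (x * b * r₀ * (x * b)⁻¹) * (x * b * r₁ * (x * b)⁻¹) := by
              group
          _ = (r₀ * t) * (r₁ * t) := by rw [hmove r₀ hr₀R hr₀t, hmove r₁ hr₁R hr₁t]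
          _ = r₀ * (t * r₁) * t := by group
          _ = r₀ * (r₁ * t) * t := by rw [htc r₁]
          _ = r₀ * r₁ * (t * t) := by group
          _ = r₀ * r₁ := by rw [htt, mul_one]
      show r₀ * r₁ * (x * b) = x * b * (r₀ * r₁)
      calc r₀ * r₁ * (x * b) = (x * b * (r₀ * r₁) * (x * b)⁻¹) * (x * b) := by rw [h1]
        _ = _ := by group
    have hqR : r₀ * r₁ ∈ R := mul_mem hr₀R hr₁R
    have hq01 : r₀ * r₁ = 1 ∨ r₀ * r₁ = t := by
      by_contra hno
      push Not at hno
      obtain ⟨m, hm⟩ := T.isPGroup' ⟨r₀ * r₁, hqR.1⟩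
      obtain ⟨j, hj⟩ := h.exists_pow_sq hqR.2 ⟨m, by simpa using congrArg Subtype.val hm⟩
        hno.1 hno.2
      exact hcon _ (Subgroup.pow_mem _ hqR.2 j) hj (hq.pow_left j)
    -- so `r₁ ∈ {r₀, r₀⁻¹}`
    have hr₁' : r₁ = r₀ ∨ r₁ = r₀⁻¹ := by
      rcases hq01 with h1 | h1
      · right; exact eq_inv_of_mul_eq_one_right h1
      · left
        rw [← hr₀t] at h1
        exact mul_left_cancel h1
    -- `x` acts on `r₁` as on `r₀`
    have hfinal : x * b * r₀ * (x * b)⁻¹ = r₀ := by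
      have h2 : x * b * r₀ * (x * b)⁻¹ = x * (b * r₀ * b⁻¹) * x⁻¹ := by group
      have htinv : t⁻¹ = t := inv_eq_of_mul_eq_one_right htt
      have hxt' : x * (r₀ * t) * x⁻¹ = (x * r₀ * x⁻¹) * t := by
        calc x * (r₀ * t) * x⁻¹ = x * r₀ * (t * x⁻¹) := by group
          _ = x * r₀ * (x⁻¹ * t) := by rw [← htc x⁻¹]
          _ = _ := by group
      have hinv : x * r₀⁻¹ * x⁻¹ = (x * r₀ * x⁻¹)⁻¹ := by group
      rcases hxr r₀ hr₀R with h3 | h3
      · have h4 : x * r₁ * x⁻¹ = r₁ := by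
          rcases hr₁' with h5 | h5
          · rw [h5]; exact h3
          · rw [h5, hinv, h3]
        rw [h2, (hbr r₀ hr₀R).1 h4, h3]
      · have h4 : x * r₁ * x⁻¹ = r₁ * t := by
          rcases hr₁' with h5 | h5
          · rw [h5]; exact h3
          · rw [h5, hinv, h3, mul_inv_rev, htinv]
            exact (htc _).symm
        rw [h2, (hbr r₀ hr₀R).2 h4, hxt', h3, mul_assoc, htt, mul_one]
    have h5 := hmove r₀ hr₀R hr₀t
    rw [hfinal] at h5
    have h6 : t = 1 := by
      have : r₀ * 1 = r₀ * t := by rw [mul_one]; exact h5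
      exact (mul_left_cancel this).symm
    exact ne_one_of_orderOf h.ord h6

/-- the coset space of `M̄` in `C ⧸ K` -/
abbrev Om (M : Subgroup C) : Type u := (C ⧸ M.normalCore) ⧸ Mbar M

omit [Finite C] in
theorem smul_mk_eq_iff {g k : C ⧸ M.normalCore} :
    g • (QuotientGroup.mk k : Om M) = QuotientGroup.mk k ↔ k⁻¹ * g * k ∈ Mbar M := by
  have h1 : g • (QuotientGroup.mk k : Om M) = QuotientGroup.mk (g * k) := rfl
  rw [h1, eq_comm, QuotientGroup.eq, mul_assoc]

omit [Finite C] in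
theorem faithful_smul (g : C ⧸ M.normalCore) (hg : ∀ a : Om M, g • a = a) : g = 1 := by
  apply faithful
  intro k
  have := smul_mk_eq_iff.mp (hg (QuotientGroup.mk k⁻¹))
  rwa [inv_inv] at this

/-- an involution `x ≠ t` of `M` fixes only the base point -/
theorem fix_iff (h : CSetup M t) {x : C} (hx : x ∈ M) (hx2 : orderOf x = 2) (hxt : x ≠ t)
    {a : Om M} : (QuotientGroup.mk' M.normalCore x) • a = a ↔ a = QuotientGroup.mk 1 := by
  constructor
  · obtain ⟨k, rfl⟩ := QuotientGroup.mk_surjective a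
    intro ha
    have h1 := smul_mk_eq_iff.mp ha
    have h2 : k⁻¹ ∈ Mbar M := by
      apply h.mk_mem_of_conj hx hx2 hxt
      rwa [inv_inv]
    rw [QuotientGroup.eq, mul_one]
    exact h2
  · rintro rfl
    rw [smul_mk_eq_iff, inv_one, one_mul, mul_one, mk_mem_iff]
    exact hx

/-- **Set-up of Aschbacher's criterion** in `C ⧸ K`. -/
theorem setup (h : CSetup M t) (T : Sylow 2 C) (hTM : (T : Subgroup C) ≤ M) {x : C}
    (hxT : x ∈ T) (hx2 : orderOf x = 2) (hxt : x ≠ t)
    (hTx : ∀ s ∈ T, s * x * s⁻¹ = x ∨ s * x * s⁻¹ = x * t)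
    (hor : (∀ s ∈ T, Commute s x) ∨ ∃ r ∈ T, r ∈ M.normalCore ∧ r * r = t) :
    AschCrit.Basic.Setup (C ⧸ M.normalCore) (Om M) (QuotientGroup.mk' M.normalCore x) where
  invol := h.mk_ord hx2 hxt
  central := by
    have hp : Fact (Nat.Prime 2) := ⟨Nat.prime_two⟩
    refine ⟨T.mapSurjective (QuotientGroup.mk'_surjective M.normalCore), ⟨x, hxT, rfl⟩, ?_⟩
    rintro _ ⟨s, hs, rfl⟩
    have hπt : QuotientGroup.mk' M.normalCore t = 1 := mk_eq_one_iff.mpr h.t_mem_core
    have h1 : QuotientGroup.mk' M.normalCore (s * x * s⁻¹) = QuotientGroup.mk' M.normalCore x := by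
      rcases hTx s hs with h1 | h1
      · rw [h1]
      · rw [h1, map_mul, hπt, mul_one]
    rw [map_mul, map_mul, map_inv] at h1
    exact mul_inv_eq_iff_eq_mul.mp h1
  nontriv := by
    by_contra hcon
    push Not at hcon
    apply h.Mbar_ne_top
    rw [eq_top_iff]
    intro g _
    have := hcon (QuotientGroup.mk 1) (QuotientGroup.mk g)
    rw [QuotientGroup.eq, inv_one, one_mul] at this
    exact this
  trans := by
    intro a b
    obtain ⟨a, rfl⟩ := QuotientGroup.mk_surjective a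
    obtain ⟨b, rfl⟩ := QuotientGroup.mk_surjective b
    refine ⟨b * a⁻¹, ?_⟩
    show (QuotientGroup.mk (b * a⁻¹ * a) : Om M) = QuotientGroup.mk b
    rw [inv_mul_cancel_right]
  exists_fix := ⟨QuotientGroup.mk 1, (h.fix_iff (hTM hxT) hx2 hxt).mpr rfl⟩
  fix_unique := fun a b ha hb => by
    rw [(h.fix_iff (hTM hxT) hx2 hxt).mp ha, (h.fix_iff (hTM hxT) hx2 hxt).mp hb]
  comm := by
    intro g hg1 hg2 c hc a ha
    rw [(h.fix_iff (hTM hxT) hx2 hxt).mp ha, smul_mk_eq_iff, inv_one, one_mul, mul_one]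
    exact h.criterion T hTM hxT hx2 hxt hTx hor g hg1 hg2 c hc

end CSetup

end

end Cfsg.Agent.TwoGenCore.CentralSetup
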