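import Cfsg.Agent.TwoGenCore.Basic

/-!
# Proper 2-generated core: elements normalising a four-group of a closed subgroup

Used to show that explicit matrix groups have no proper 2-generated core.
-/

set_option autoImplicit false

namespace Cfsg.Agent.TwoGenCore.Conj

open Cfsg Subgroup Cfsg.Agent.TwoGenCore

variable {G : Type*} [Group G]

/-- An element normalising a four-group of a closed subgroup `H` lies in `H`. -/
theorem mem_of_conj [Finite G] {H : Subgroup G} (hH : Closed H) {x y g : G} (hx : x ∈ H)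
    (hy : y ∈ H) (h1 : x ≠ 1) (h2 : y ≠ 1) (h3 : x ≠ y) (hx2 : x * x = 1) (hy2 : y * y = 1)
    (hxy : x * y = y * x) (hgx : g * x * g⁻¹ ∈ fourSub x y hx2 hy2 hxy)
    (hgy : g * y * g⁻¹ ∈ fourSub x y hx2 hy2 hxy) : g ∈ H := by
  refine hH.2 (fourSub x y hx2 hy2 hxy) (fourSub_le _ _ _ hx hy) (fourSub_isPGroup _ _ _)
    ⟨x, left_mem_fourSub _ _ _, y, right_mem_fourSub _ _ _, h1, h2, h3, hx2, hy2, hxy⟩ ?_
  refine mem_normalizer_fintype ?_
  rintro n (rfl | rfl | rfl | rfl)
  · rw [mul_one, mul_inv_cancel]; exact one_mem _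
  · exact hgx
  · exact hgy
  · have : g * (x * y) * g⁻¹ = (g * x * g⁻¹) * (g * y * g⁻¹) := by group
    rw [this]
    exact mul_mem hgx hgy

/-- The special case of an element swapping the two generating involutions. -/
theorem mem_of_swap [Finite G] {H : Subgroup G} (hH : Closed H) {x y g : G} (hx : x ∈ H)
    (hy : y ∈ H) (h1 : x ≠ 1) (h2 : y ≠ 1) (h3 : x ≠ y) (hx2 : x * x = 1) (hy2 : y * y = 1)
    (hxy : x * y = y * x) (hgx : g * x * g⁻¹ = y) (hgy : g * y * g⁻¹ = x) : g ∈ H :=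
  mem_of_conj hH hx hy h1 h2 h3 hx2 hy2 hxy (hgx ▸ right_mem_fourSub _ _ _)
    (hgy ▸ left_mem_fourSub _ _ _)

/-- If `G` has a proper 2-generated core, each 2-subgroup lies in a closed subgroup. -/
theorem exists_closed_ge [Finite G] (h : HasProperTwoGeneratedCore G) {V : Subgroup G}
    (hV : IsPGroup 2 V) : ∃ H : Subgroup G, Closed H ∧ V ≤ H := by
  obtain ⟨S, H, hS, -, hH⟩ := exists_closed h
  obtain ⟨P, hP⟩ := hV.exists_le_sylow
  obtain ⟨g, hg⟩ := MulAction.exists_smul_eq G S P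
  refine ⟨H.map (MulAut.conj g).toMonoidHom, hH.conj g, ?_⟩
  intro v hv
  have h1 : v ∈ ((g • S : Sylow 2 G) : Subgroup G) := by rw [hg]; exact hP hv
  rw [Sylow.coe_subgroup_smul, Subgroup.mem_pointwise_smul_iff_inv_smul_mem] at h1
  rw [mem_map_conj]
  apply hS
  simpa [MulAut.smul_def, MulAut.conj_apply, mul_assoc] using h1

end Cfsg.Agent.TwoGenCore.Conj
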