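import Cfsg.Agent.TwoGenCore.Basic

/-!
# A criterion excluding a proper 2-generated core

If `E` is a four-group of the simple group `G` and `G` is generated by the elements `g` with
`gEg⁻¹ ≤ N_G(E)`, then `G` has no proper 2-generated core.
-/

set_option autoImplicit false

namespace Cfsg.Agent.TwoGenCore.Connected

open Cfsg Subgroup Cfsg.Agent.TwoGenCore

variable {G : Type*} [Group G]

/-- The elements conjugating `E` into its normalizer. -/
def moveSet (E : Subgroup G) : Set G :=
  {g | E.map (MulAut.conj g).toMonoidHom ≤ normalizer (E : Set G)}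

theorem mem_moveSet_of_normalizer {E : Subgroup G} {g : G} (hg : g ∈ normalizer (E : Set G)) :
    g ∈ moveSet E := by
  rintro _ ⟨e, he, rfl⟩
  exact le_normalizer ((mem_normalizer_iff.1 hg e).1 he)

theorem conj_le_of_mem_closure [Finite G] {H E : Subgroup G} (hH : Closed H) (hE : E ≤ H)
    (h2 : IsPGroup 2 E) (h4 : Four E) {g : G} (hg : g ∈ closure (moveSet E)) :
    E.map (MulAut.conj g).toMonoidHom ≤ H := by
  have key : ∀ g ∈ closure (moveSet E), ∀ f : G, E.map (MulAut.conj f).toMonoidHom ≤ H →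
      E.map (MulAut.conj (f * g)).toMonoidHom ≤ H := by
    intro g hg
    have hg' : g ∈ Submonoid.closure (moveSet E) := by
      rw [← Subgroup.closure_toSubmonoid_of_finite]
      exact hg
    clear hg
    induction hg' using Submonoid.closure_induction with
    | mem g hg =>
      intro f hf
      have h5 := hH.2 _ hf (h2.map _) (h4.conj f)
      rw [normalizer_map_conj] at h5
      rintro _ ⟨e, he, rfl⟩
      apply h5
      rw [mem_map_conj]
      have hg' : E.map (MulAut.conj g).toMonoidHom ≤ normalizer (E : Set G) := hg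
      have h6 : (MulAut.conj g).toMonoidHom e ∈ normalizer (E : Set G) := hg' ⟨e, he, rfl⟩
      have e1 : f⁻¹ * ((MulAut.conj (f * g)).toMonoidHom e) * f = (MulAut.conj g).toMonoidHom e := by
        simp [mul_assoc]
      rw [e1]; exact h6
    | one => intro f hf; simpa using hf
    | mul x y hx hy ihx ihy =>
      intro f hf
      rw [← mul_assoc]
      exact ihy _ (ihx f hf)
  have := key g hg 1 (by
    rintro _ ⟨e, he, rfl⟩
    simpa using hE he)
  simpa using this

/-- The criterion. -/
theorem not_hasProperTwoGeneratedCore [Finite G] [IsSimpleGroup G] {E : Subgroup G}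
    (h2 : IsPGroup 2 E) (h4 : Four E) (hgen : closure (moveSet E) = ⊤) :
    ¬ HasProperTwoGeneratedCore G := by
  intro h
  have : Fact (Nat.Prime 2) := ⟨Nat.prime_two⟩
  obtain ⟨S, H, hSH, -, hH⟩ := exists_closed h
  obtain ⟨P, hP⟩ := h2.exists_le_sylow
  obtain ⟨g, hg⟩ := MulAction.exists_smul_eq G S P
  have hEH : E ≤ H.map (MulAut.conj g).toMonoidHom := by
    intro e he
    rw [mem_map_conj]
    apply hSH
    have h1 : e ∈ (P : Subgroup G) := hP he
    rw [← hg, Sylow.coe_subgroup_smul, Subgroup.mem_pointwise_smul_iff_inv_smul_mem] at h1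
    simpa [MulAut.smul_def, MulAut.conj_apply, mul_assoc] using h1
  have hH' := hH.conj g
  have hall : ∀ x : G, E.map (MulAut.conj x).toMonoidHom ≤ H.map (MulAut.conj g).toMonoidHom :=
    fun x => conj_le_of_mem_closure hH' hEH h2 h4 (by rw [hgen]; trivial)
  have hnc : normalClosure (E : Set G) ≤ H.map (MulAut.conj g).toMonoidHom := by
    rw [normalClosure, closure_le]
    intro y hy
    rw [Group.mem_conjugatesOfSet_iff] at hy
    obtain ⟨e, he, c⟩ := hy
    obtain ⟨x, rfl⟩ := isConj_iff.1 c
    exact hall x ⟨e, he, rfl⟩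
  rcases (inferInstance : (normalClosure (E : Set G)).Normal).eq_bot_or_eq_top with h0 | h0
  · obtain ⟨x, hx, -, -, hx1, -⟩ := h4
    have : x ∈ normalClosure (E : Set G) := subset_normalClosure hx
    rw [h0, mem_bot] at this
    exact hx1 this
  · rw [h0, top_le_iff] at hnc
    exact hH'.1 hnc

theorem mem_normalizer_fourSub [Finite G] {x y n : G} (hx : x * x = 1) (hy : y * y = 1)
    (hxy : x * y = y * x) (h1 : n * x * n⁻¹ ∈ fourSub x y hx hy hxy)
    (h2 : n * y * n⁻¹ ∈ fourSub x y hx hy hxy) :
    n ∈ normalizer (fourSub x y hx hy hxy : Set G) := by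
  have : Finite (fourSub x y hx hy hxy : Set G) := Set.toFinite _
  refine Subgroup.mem_normalizer_fintype ?_
  rintro a (rfl | rfl | rfl | rfl)
  · simp [(fourSub x y hx hy hxy).one_mem]
  · exact h1
  · exact h2
  · have := (fourSub x y hx hy hxy).mul_mem h1 h2
    have e : n * x * n⁻¹ * (n * y * n⁻¹) = n * (x * y) * n⁻¹ := by group
    rwa [e] at this

theorem mem_moveSet_fourSub [Finite G] {x y n : G} (hx : x * x = 1) (hy : y * y = 1)
    (hxy : x * y = y * x) (h1 : n * x * n⁻¹ ∈ normalizer (fourSub x y hx hy hxy : Set G))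
    (h2 : n * y * n⁻¹ ∈ normalizer (fourSub x y hx hy hxy : Set G)) :
    n ∈ moveSet (fourSub x y hx hy hxy) := by
  rintro _ ⟨a, ha, rfl⟩
  rcases ha with rfl | rfl | rfl | rfl
  · simp [one_mem]
  · exact h1
  · exact h2
  · have := mul_mem h1 h2
    have e : n * x * n⁻¹ * (n * y * n⁻¹) = n * (x * y) * n⁻¹ := by group
    rw [e] at this
    exact this

/-- The criterion for a group given as a quotient. -/
theorem not_hasProper_of_surjective {Γ : Type*} [Group Γ] [Finite Γ] [Finite G] [IsSimpleGroup G]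
    (π : Γ →* G) (hπ : Function.Surjective π) {x y : Γ} (hx : x * x = 1) (hy : y * y = 1)
    (hxy : x * y = y * x) (hx1 : π x ≠ 1) (hy1 : π y ≠ 1) (hne : π x ≠ π y)
    (hgen : closure (moveSet (fourSub x y hx hy hxy)) = ⊤) :
    ¬ HasProperTwoGeneratedCore G := by
  set E := fourSub x y hx hy hxy with hE
  have h2 : IsPGroup 2 (E.map π) := (fourSub_isPGroup hx hy hxy).map π
  have h4 : Four (E.map π) :=
    ⟨π x, ⟨x, left_mem_fourSub hx hy hxy, rfl⟩, π y, ⟨y, right_mem_fourSub hx hy hxy, rfl⟩,
      hx1, hy1, hne, by rw [← map_mul, hx, map_one], by rw [← map_mul, hy, map_one],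
      by rw [← map_mul, hxy, map_mul]⟩
  have h5 : ∀ n ∈ normalizer (E : Set Γ), π n ∈ normalizer (E.map π : Set G) := by
    intro n hn
    have : Finite (E.map π : Set G) := Set.toFinite _
    refine Subgroup.mem_normalizer_fintype ?_
    rintro _ ⟨e, he, rfl⟩
    exact ⟨n * e * n⁻¹, (mem_normalizer_iff.1 hn e).1 he, by simp⟩
  refine not_hasProperTwoGeneratedCore h2 h4 ?_
  rw [eq_top_iff]
  intro g _
  obtain ⟨γ, rfl⟩ := hπ g
  have h6 : γ ∈ closure (moveSet E) := by rw [hgen]; trivial
  have h7 : (closure (moveSet E)).map π ≤ closure (moveSet (E.map π)) := by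
    rw [MonoidHom.map_closure, closure_le]
    rintro _ ⟨a, ha, rfl⟩
    apply Subgroup.subset_closure
    rintro _ ⟨_, ⟨e, he, rfl⟩, rfl⟩
    have ha' : E.map (MulAut.conj a).toMonoidHom ≤ normalizer (E : Set Γ) := ha
    have h8 : a * e * a⁻¹ ∈ normalizer (E : Set Γ) := ha' ⟨e, he, rfl⟩
    have := h5 _ h8
    simpa using this
  exact h7 ⟨γ, h6, rfl⟩

end Cfsg.Agent.TwoGenCore.Connected
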