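import Cfsg.Agent.TwoGenCore.GenCrit
import Cfsg.Agent.TwoGenCore.W2Lem
import Cfsg.Agent.StrongEmb.Frame
import Cfsg.Agent.Lib.KleinGen
import Cfsg.Agent.Lib.Cores

/-!
# S1728, section 4: the action of `Y` on `D` when there is no `BadInv` element

`Base D t` is assumed, and that no element `w` of order 4 with square `t` and two fixed points is
inverted by an involution `≠ t` (`hno`).

* `one_or_t` : a 2-element trivial on `D` inverted by an involution `≠ t` is `1` or `t`
* `isConj_of_trivial` : involutions `≠ t` with the same image in `Sym(D)` are conjugate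
* `setup` : the image `X` of `Y` in `Sym(D)` is in the set-up of the general Aschbacher criterion
* `isConj` : all involutions `≠ t` of `Y` are conjugate
* `sq_mem` : `(ij)^2 ∈ {1, t}` for involutions `i, j ≠ t` in a common 2-subgroup
-/

set_option autoImplicit false

universe u v

namespace Cfsg.Agent.TwoGenCore.ExistsBadQuot

open Cfsg Cfsg.Agent.TwoGenCore.W2Base Cfsg.Agent.TwoGenCore.W2Lem
open Cfsg.Agent.AschCrit.Basic Cfsg.Agent.AschCrit.NonIso
open Cfsg.Agent.StrongEmb.TwoRank Cfsg.Agent.StrongEmb.Split Cfsg.Agent.StrongEmb.Basic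

/-- The image of `Y` in `Sym(D)`, as a quotient of `Y`. -/
def Q (Y : Type u) (D : Type v) [Group Y] [MulAction Y D] : Type u :=
  Y ⧸ (MulAction.toPermHom Y D).ker

section Q

variable (Y : Type u) (D : Type v) [Group Y] [MulAction Y D]

instance : Group (Q Y D) := inferInstanceAs (Group (Y ⧸ (MulAction.toPermHom Y D).ker))

instance [Finite Y] : Finite (Q Y D) :=
  inferInstanceAs (Finite (Y ⧸ (MulAction.toPermHom Y D).ker))

/-- The projection. -/
def pr : Y →* Q Y D := QuotientGroup.mk' (MulAction.toPermHom Y D).ker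

/-- The embedding in `Sym(D)`. -/
def emb : Q Y D →* Equiv.Perm D := QuotientGroup.kerLift (MulAction.toPermHom Y D)

instance : MulAction (Q Y D) D := MulAction.compHom D (emb Y D)

variable {Y D}

theorem pr_surjective : Function.Surjective (pr Y D) := QuotientGroup.mk'_surjective _

theorem pr_smul (y : Y) (a : D) : pr Y D y • a = y • a := rfl

theorem faithful (g : Q Y D) (h : ∀ a : D, g • a = a) : g = 1 := by
  have h1 : emb Y D g = 1 := by
    ext a
    exact h a
  have h2 : emb Y D g = emb Y D 1 := by rw [h1, map_one]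
  exact QuotientGroup.kerLift_injective (MulAction.toPermHom Y D) h2

theorem pr_eq_one {y : Y} : pr Y D y = 1 ↔ ∀ a : D, y • a = a := by
  constructor
  · intro h a
    rw [← pr_smul, h, one_smul]
  · intro h
    apply faithful
    intro a
    rw [pr_smul]; exact h a

end Q

section Elem

variable {Y : Type u} {D : Type v} [Group Y] [MulAction Y D] {t : Y}

/-- A 2-element trivial on `D` inverted by an involution `≠ t` is `1` or `t`. -/
theorem one_or_t [Finite Y] (hB : Base D t) (hno : ∀ w : Y, ¬ BadInv D t w) {k i : Y} {n : ℕ}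
    (hk : k ^ (2 ^ n) = 1) (htr : ∀ a : D, k • a = a) (hi : Inv t i) (hik : i * k * i⁻¹ = k⁻¹) :
    k = 1 ∨ k = t := by
  obtain ⟨a, b, hab⟩ := hB.nontriv
  -- an involution trivial on `D` is `t`
  have hinv : ∀ x : Y, x * x = 1 → (∀ a : D, x • a = a) → x = 1 ∨ x = t := by
    intro x hx htx
    by_contra hcon
    push Not at hcon
    exact hab ((hB.one x hx hcon.1 hcon.2).unique (htx a) (htx b))
  have hpow : ∀ (x : Y) (m : ℕ), (∀ a : D, x • a = a) → ∀ a : D, (x ^ m) • a = a := by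
    intro x m hx a
    induction m with
    | zero => rw [pow_zero, one_smul]
    | succ m ih => rw [pow_succ, mul_smul, hx, ih]
  by_contra hcon
  -- the order of `k` is `2 ^ m` with `m ≥ 2`
  obtain ⟨m, -, hm⟩ := (Nat.dvd_prime_pow Nat.prime_two).mp (orderOf_dvd_of_pow_eq_one hk)
  have hm2 : 2 ≤ m := by
    by_contra hlt
    apply hcon
    apply hinv k _ htr
    have h1 : orderOf k ∣ 2 := by
      rw [hm]
      have h2 : (2 : ℕ) ^ 1 = 2 := by norm_num
      have : 2 ^ m ∣ 2 ^ 1 := Nat.pow_dvd_pow 2 (by omega)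
      rwa [h2] at this
    have h2 := orderOf_dvd_iff_pow_eq_one.mp h1
    rwa [pow_two] at h2
  obtain ⟨r, rfl⟩ : ∃ r, m = r + 2 := ⟨m - 2, by omega⟩
  set w := k ^ (2 ^ r) with hw
  have hww4 : orderOf w = 4 := by
    rw [hw, orderOf_pow, hm]
    have h1 : Nat.gcd (2 ^ (r + 2)) (2 ^ r) = 2 ^ r := by
      rw [Nat.gcd_eq_right_iff_dvd]
      exact Nat.pow_dvd_pow 2 (by omega)
    rw [h1, pow_add]
    have : 0 < 2 ^ r := by positivity
    rw [Nat.mul_div_cancel_left _ this]; norm_num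
  have hwtr : ∀ a : D, w • a = a := hpow k _ htr
  have hww : w * w = t := by
    have h1 : w * w * (w * w) = 1 := by
      have h2 := pow_orderOf_eq_one w
      rw [hww4] at h2
      rw [← h2]
      simp only [pow_succ, pow_zero, one_mul, mul_assoc]
    have h3 : w * w ≠ 1 := by
      intro h4
      have h5 : orderOf w ∣ 2 := orderOf_dvd_of_pow_eq_one (by rw [pow_two]; exact h4)
      rw [hww4] at h5
      exact absurd h5 (by norm_num)
    rcases hinv (w * w) h1 (fun a => by rw [mul_smul, hwtr, hwtr]) with h4 | h4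
    · exact absurd h4 h3
    · exact h4
  refine hno w ⟨⟨hww, a, b, hab, hwtr a, hwtr b⟩, i, hi, ?_⟩
  rw [hw, ← conj_pow, hik, inv_pow]

/-- An element trivial on `D` and inverted by an involution `≠ t` has odd order up to `t`. -/
theorem odd_or_odd [Finite Y] (hB : Base D t) (hno : ∀ w : Y, ¬ BadInv D t w) {k i : Y}
    (htr : ∀ a : D, k • a = a) (hi : Inv t i) (hik : i * k * i⁻¹ = k⁻¹) :
    Odd (orderOf k) ∨ Odd (orderOf (k * t)) := by
  obtain ⟨a, m, hm, hkm⟩ := Nat.exists_eq_two_pow_mul_odd (orderOf_pos k).ne'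
  have htr' : ∀ a : D, (k ^ m) • a = a := by
    intro a
    clear hkm hm
    induction m with
    | zero => rw [pow_zero, one_smul]
    | succ m ih => rw [pow_succ, mul_smul, htr, ih]
  have h1 : (k ^ m) ^ (2 ^ a) = 1 := by
    rw [← pow_mul, mul_comm, ← hkm, pow_orderOf_eq_one]
  rcases one_or_t hB hno h1 htr' hi (by rw [← conj_pow, hik, inv_pow]) with h2 | h2
  · left
    exact Odd.of_dvd_nat hm (orderOf_dvd_of_pow_eq_one h2)
  · right
    refine Odd.of_dvd_nat hm (orderOf_dvd_of_pow_eq_one ?_)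
    have hc : Commute k t := hB.central k
    obtain ⟨r, rfl⟩ := hm
    rw [hc.mul_pow, h2, pow_succ, pow_mul, pow_two, hB.sq, one_pow, one_mul, hB.sq]

/-- Involutions `≠ t` with the same action on `D` are conjugate. -/
theorem isConj_of_trivial [Finite Y] (hB : Base D t) (hno : ∀ w : Y, ¬ BadInv D t w) {i j : Y}
    (hi : Inv t i) (hj : Inv t j) (htr : ∀ a : D, (i * j) • a = a) : IsConj i j := by
  have hinv : i * (i * j) * i⁻¹ = (i * j)⁻¹ := by
    rw [mul_inv_rev, hi.inv_eq, hj.inv_eq, ← mul_assoc, hi.1, one_mul]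
  rcases odd_or_odd hB hno htr hi hinv with h | h
  · obtain ⟨g, -, hg⟩ := conj_of_odd hi.1 hj.1 h
    exact (isConj_iff.mpr ⟨g, hg⟩ : IsConj j i).symm
  · rw [mul_assoc] at h
    obtain ⟨g, -, hg⟩ := conj_of_odd hi.1 (hj.mul_t hB).1 h
    exact ((hB.conj j hj.1 hj.2.1 hj.2.2).trans (isConj_iff.mpr ⟨g, hg⟩)).symm

/-- Two involutions `i, j ≠ t` with commuting different images in `Sym(D)`: `ij` has at most one
fixed point. -/
theorem fix_mul_unique [Finite Y] (hB : Base D t) (hno : ∀ w : Y, ¬ BadInv D t w) {i j : Y}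
    (hi : Inv t i) (hj : Inv t j) (htr : ∀ a : D, ((i * j) * (i * j)) • a = a)
    (hne : ∃ a : D, (i * j) • a ≠ a) {a b : D} (ha : (i * j) • a = a) (hb : (i * j) • b = b) :
    a = b := by
  set v := i * j with hv
  obtain ⟨n, m, hm, hvm⟩ := Nat.exists_eq_two_pow_mul_odd (orderOf_pos v).ne'
  have hsq : ∀ (r : ℕ) (c : D), (v ^ (2 * r)) • c = c := by
    intro r c
    induction r with
    | zero => rw [mul_zero, pow_zero, one_smul]
    | succ r ih => rw [mul_add, pow_add, mul_one, mul_smul, pow_two, htr, ih]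
  have hact : ∀ c : D, (v ^ m) • c = v • c := by
    intro c
    obtain ⟨r, rfl⟩ := hm
    rw [pow_succ, mul_smul, hsq]
  have hpow : (v ^ m) ^ (2 ^ n) = 1 := by
    rw [← pow_mul, mul_comm, ← hvm, pow_orderOf_eq_one]
  have hinv : i * (v ^ m) * i⁻¹ = (v ^ m)⁻¹ := by
    rw [← conj_pow, ← inv_pow]
    congr 1
    rw [hv, mul_inv_rev, hi.inv_eq, hj.inv_eq, ← mul_assoc, hi.1, one_mul]
  have htr2 : ∀ c : D, (v ^ m * v ^ m) • c = c := by
    intro c
    rw [mul_smul, hact, hact, ← mul_smul, htr]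
  have hinv2 : i * (v ^ m * v ^ m) * i⁻¹ = (v ^ m * v ^ m)⁻¹ := by
    calc i * (v ^ m * v ^ m) * i⁻¹ = (i * (v ^ m) * i⁻¹) * (i * (v ^ m) * i⁻¹) := by group
      _ = (v ^ m * v ^ m)⁻¹ := by rw [hinv, mul_inv_rev]
  have hpow2 : (v ^ m * v ^ m) ^ (2 ^ n) = 1 := by
    rw [(Commute.refl (v ^ m)).mul_pow, hpow, one_mul]
  rcases one_or_t hB hno hpow2 htr2 hi hinv2 with h2 | h2
  · -- an involution
    have hI : Inv t (v ^ m) := by
      refine ⟨h2, ?_, ?_⟩
      · intro h3
        obtain ⟨c, hc⟩ := hne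
        apply hc
        rw [← hact, h3, one_smul]
      · intro h3
        obtain ⟨c, hc⟩ := hne
        apply hc
        rw [← hact, h3, hB.triv]
    exact fix_unique hB hI (by rw [hact]; exact ha) (by rw [hact]; exact hb)
  · by_contra hab
    exact hno (v ^ m) ⟨⟨h2, a, b, hab, by rw [hact]; exact ha, by rw [hact]; exact hb⟩, i, hi, hinv⟩

end Elem

section Main

variable {Y : Type u} {D : Type v} [Group Y] [Finite Y] [MulAction Y D] {t : Y}

theorem pr_ne_one (hB : Base D t) {i : Y} (hi : Inv t i) : pr Y D i ≠ 1 := by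
  intro h
  obtain ⟨a, b, hab⟩ := hB.nontriv
  exact hab (fix_unique hB hi (pr_eq_one.mp h a) (pr_eq_one.mp h b))

theorem orderOf_pr (hB : Base D t) {i : Y} (hi : Inv t i) : orderOf (pr Y D i) = 2 :=
  orderOf_eq_prime (by rw [pow_two, ← map_mul, hi.1, map_one]) (pr_ne_one hB hi)

/-- The set-up of the general Aschbacher criterion. -/
theorem setup (hB : Base D t) (hno : ∀ w : Y, ¬ BadInv D t w) {S : Sylow 2 Y} {e : Y} (heS : e ∈ S)
    (he : Inv t e) (hconj : ∀ s ∈ S, s * e * s⁻¹ = e ∨ s * e * s⁻¹ = e * t) :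
    Setup (Q Y D) D (pr Y D e) := by
  have hprt : pr Y D t = 1 := pr_eq_one.mpr hB.triv
  refine ⟨orderOf_pr hB he, ?_, hB.nontriv, ?_, ?_, ?_, ?_⟩
  · refine ⟨S.mapSurjective pr_surjective, ⟨e, heS, rfl⟩, ?_⟩
    rintro _ ⟨s, hs, rfl⟩
    have h1 : pr Y D (s * e * s⁻¹) = pr Y D e := by
      rcases hconj s hs with h | h
      · rw [h]
      · rw [h, map_mul, hprt, mul_one]
    rw [map_mul, map_mul, map_inv, mul_inv_eq_iff_eq_mul] at h1
    exact h1
  · intro a b
    obtain ⟨g, hg⟩ := hB.trans a b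
    exact ⟨pr Y D g, hg⟩
  · obtain ⟨a, ha⟩ := exists_fix_inv hB he
    exact ⟨a, ha⟩
  · intro a b ha hb
    exact fix_unique hB he ha hb
  · intro g hc hne c hcc a ha
    obtain ⟨y, rfl⟩ := pr_surjective g
    set j := y * e * y⁻¹ with hj
    have hjI : Inv t j := he.conj hB.central y
    have hprj : pr Y D j = pr Y D y * pr Y D e * (pr Y D y)⁻¹ := by
      rw [hj, map_mul, map_mul, map_inv]
    rw [← hprj] at hc hne hcc
    have hee : pr Y D e * pr Y D e = 1 := by rw [← map_mul, he.1, map_one]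
    have hjj : pr Y D j * pr Y D j = 1 := by rw [← map_mul, hjI.1, map_one]
    have htr : ∀ a : D, ((e * j) * (e * j)) • a = a := by
      apply pr_eq_one.mp
      rw [map_mul, map_mul, hc.symm.mul_mul_mul_comm, hee, hjj, one_mul]
    have hmov : ∃ a : D, (e * j) • a ≠ a := by
      by_contra hcon
      push Not at hcon
      have h1 := pr_eq_one.mpr hcon
      rw [map_mul] at h1
      apply hne
      calc pr Y D j = (pr Y D e * pr Y D e) * pr Y D j := by rw [hee, one_mul]
        _ = pr Y D e * (pr Y D e * pr Y D j) := by rw [mul_assoc]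
        _ = pr Y D e := by rw [h1, mul_one]
    have hja : pr Y D j • a = a := by
      apply fix_unique hB he _ ha
      rw [← pr_smul, ← mul_smul, hc.eq, mul_smul, ha]
    have hva : (e * j) • a = a := by
      rw [← pr_smul, map_mul, mul_smul, hja, ha]
    refine fix_mul_unique hB hno he hjI htr hmov ?_ hva
    rw [← pr_smul, map_mul, ← mul_smul, ← hcc.eq, mul_smul, ← map_mul, pr_smul, hva]

/-- `O(X) = 1`. -/
theorem core_eq_bot (hB : Base D t) (hno : ∀ w : Y, ¬ BadInv D t w) :
    pPrimeCore 2 (Q Y D) = ⊥ := by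
  obtain ⟨S⟩ : Nonempty (Sylow 2 Y) := inferInstance
  obtain ⟨e, heS, he1, he2, he3, hconj⟩ := hB.four S
  have hS := setup hB hno heS ⟨he1, he2, he3⟩ hconj
  obtain ⟨x, hx, y, hy, hxx, hyy, hxy, hx1, hxt, hy1, hyt, hyx, hyxt⟩ := hB.eight S
  have hxI : Inv t x := ⟨hxx, hx1, hxt⟩
  have hyI : Inv t y := ⟨hyy, hy1, hyt⟩
  have hxyI : Inv t (x * y) := by
    refine ⟨?_, ?_, ?_⟩
    · calc x * y * (x * y) = x * (y * x) * y := by group
        _ = (x * x) * (y * y) := by rw [← hxy]; group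
        _ = 1 := by rw [hxx, hyy, one_mul]
    · intro h
      apply hyx
      calc y = (x * x) * y := by rw [hxx, one_mul]
        _ = x * (x * y) := by rw [mul_assoc]
        _ = x := by rw [h, mul_one]
    · intro h
      apply hyxt
      calc y = (x * x) * y := by rw [hxx, one_mul]
        _ = x * (x * y) := by rw [mul_assoc]
        _ = x * t := by rw [h]
  obtain ⟨a, ha⟩ := exists_fix_inv hB hxI
  have hya : y • a = a := by
    refine fix_unique hB hxI ?_ ha
    rw [← mul_smul, hxy, mul_smul, ha]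
  have hxya : (x * y) • a = a := by rw [mul_smul, hya, ha]
  have hfix : ∀ i : Y, Inv t i → i • a = a → ∀ g : Q Y D,
      g ∈ Subgroup.centralizer ({pr Y D i} : Set (Q Y D)) → g ∈ MulAction.stabilizer (Q Y D) a := by
    intro i hi hia g hg
    rw [Subgroup.mem_centralizer_singleton_iff] at hg
    rw [MulAction.mem_stabilizer_iff]
    refine fix_unique hB hi ?_ hia
    rw [← pr_smul, ← mul_smul, ← hg, mul_smul, pr_smul, hia]
  have hp : (2 : ℕ).Prime := Nat.prime_two
  have : Fact (Nat.Prime 2) := ⟨hp⟩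
  have hN : (pPrimeCore 2 (Q Y D)).Normal := Cfsg.Agent.Lib.Cores.pPrimeCore_normal 2
  refine GenCrit.eq_bot_of_normal hS faithful hN (a := a) ?_
  have hle : pPrimeCore 2 (Q Y D) ≤ MulAction.stabilizer (Q Y D) a := by
    refine Cfsg.Agent.Lib.KleinGen.le_of_klein _ _
      (Nat.coprime_two_right.mp (Cfsg.Agent.Lib.Cores.pPrimeCore_coprime 2)) (pr Y D x) (pr Y D y)
      (by rw [← map_mul, hxx, map_one]) (by rw [← map_mul, hyy, map_one])
      (by rw [← map_mul, hxy, map_mul]) (fun g hg => hN.conj_mem g hg _)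
      (fun g hg => hN.conj_mem g hg _) ?_ ?_ ?_
    · rintro g ⟨-, hg⟩
      exact hfix x hxI ha g hg
    · rintro g ⟨-, hg⟩
      exact hfix y hyI hya g hg
    · rintro g ⟨-, hg⟩
      rw [← map_mul] at hg
      exact hfix (x * y) hxyI hxya g hg
  exact fun g hg => hle hg

/-- All involutions `≠ t` are conjugate. -/
theorem isConj (hAC : GenCrit.CritHolds.{u}) (hB : Base D t) (hno : ∀ w : Y, ¬ BadInv D t w)
    {i j : Y} (hi : Inv t i) (hj : Inv t j) : IsConj i j := by
  obtain ⟨S⟩ : Nonempty (Sylow 2 Y) := inferInstance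
  obtain ⟨e, heS, he1, he2, he3, hconj⟩ := hB.four S
  have hS := setup hB hno heS ⟨he1, he2, he3⟩ hconj
  obtain ⟨L, -, -, -, -, hL1, hL2, -⟩ := GenCrit.main hAC hS faithful (core_eq_bot hB hno)
  have key : ∀ i : Y, Inv t i → IsConj e i := by
    intro i hi
    have h1 : IsConj (pr Y D e) (pr Y D i) :=
      hL2 _ (hL1 _ (orderOf_pr hB hi) (fun a b ha hb => fix_unique hB hi ha hb)) (orderOf_pr hB hi)
    obtain ⟨g, hg⟩ := isConj_iff.mp h1
    obtain ⟨y, rfl⟩ := pr_surjective g
    have h2 : Inv t (y * e * y⁻¹) := Inv.conj ⟨he1, he2, he3⟩ hB.central y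
    have h3 : IsConj (y * e * y⁻¹) i := by
      apply isConj_of_trivial hB hno h2 hi
      apply pr_eq_one.mp
      rw [map_mul, map_mul, map_mul, map_inv, hg, ← map_mul, hi.1, map_one]
    exact (isConj_iff.mpr ⟨y, rfl⟩ : IsConj e (y * e * y⁻¹)).trans h3
  exact (key i hi).symm.trans (key j hj)

end Main

section Comm

variable {Y : Type u} {D : Type v} [Group Y] [Finite Y] [MulAction Y D] {t : Y}

/-- Involutions `≠ t` with the same fixed point have commuting images in `Sym(D)`. -/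
theorem commute_pr (hAC : GenCrit.CritHolds.{u})
    (hBen : ∀ (K : Type u) [Group K] [Finite K], BenderHolds K)
    (hB : Base D t) (hno : ∀ w : Y, ¬ BadInv D t w)
    {i j : Y} (hi : Inv t i) (hj : Inv t j) {a : D} (hia : i • a = a) (hja : j • a = a) :
    Commute (pr Y D i) (pr Y D j) := by
  obtain ⟨S⟩ : Nonempty (Sylow 2 Y) := inferInstance
  obtain ⟨e, heS, he1, he2, he3, hconj⟩ := hB.four S
  have hS := setup hB hno heS ⟨he1, he2, he3⟩ hconj
  have hO := core_eq_bot hB hno
  obtain ⟨L, hLn, hLs, -, -, hL1, hL2, -, -, hL3⟩ := GenCrit.main hAC hS faithful hO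
  have hiL : pr Y D i ∈ L :=
    hL1 _ (orderOf_pr hB hi) (fun a b ha hb => fix_unique hB hi ha hb)
  have hjL : pr Y D j ∈ L :=
    hL1 _ (orderOf_pr hB hj) (fun a b ha hb => fix_unique hB hj ha hb)
  have heL : pr Y D e ∈ L :=
    hL1 _ hS.invol (fun a b ha hb => hS.fix_unique a b ha hb)
  have hSE := hL3 a
  have hcp : CommPair L := by
    obtain ⟨d, hd, hzd, hne⟩ := GenCrit.nonIso hS hO
    obtain ⟨g, hg⟩ := isConj_iff.mp hd
    have hdL : d ∈ L := by rw [← hg]; exact hLn.conj_mem _ heL g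
    refine ⟨⟨_, heL⟩, ⟨d, hdL⟩, ?_, ?_, ?_, Subtype.ext hzd.eq⟩
    · rw [Subgroup.orderOf_mk]; exact hS.invol
    · rw [Subgroup.orderOf_mk]; exact hS.orderOf_eq hd
    · intro h; exact hne (congrArg Subtype.val h).symm
  set M := (MulAction.stabilizer (Q Y D) a).subgroupOf L with hM
  have hcore : M.normalCore = ⊥ := by
    rcases (inferInstance : M.normalCore.Normal).eq_bot_or_eq_top with h1 | h1
    · exact h1
    · exact absurd (top_le_iff.mp (h1 ▸ Subgroup.normalCore_le _)) hSE.1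
  obtain ⟨P, hP, -⟩ := hBen L _ hSE hcp hcore
  have hiM : (⟨_, hiL⟩ : L) ∈ M := hia
  have hjM : (⟨_, hjL⟩ : L) ∈ M := hja
  have hio : orderOf (⟨_, hiL⟩ : L) = 2 := by rw [Subgroup.orderOf_mk]; exact orderOf_pr hB hi
  have hjo : orderOf (⟨_, hjL⟩ : L) = 2 := by rw [Subgroup.orderOf_mk]; exact orderOf_pr hB hj
  have hjP := Cfsg.Agent.StrongEmb.Frame.mem_of_two_element hSE hP hjM ⟨1, by rw [hjo, pow_one]⟩
  have := Cfsg.Agent.StrongEmb.Frame.involution_comm hSE hcp hcore hP hiM hio hjP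
  exact congrArg Subtype.val this

/-- `(ij)² ∈ {1, t}` for involutions `i, j ≠ t` in a common 2-subgroup. -/
theorem sq_mem (hAC : GenCrit.CritHolds.{u})
    (hBen : ∀ (K : Type u) [Group K] [Finite K], BenderHolds K)
    (hB : Base D t) (hno : ∀ w : Y, ¬ BadInv D t w) {T : Subgroup Y} (hT : IsPGroup 2 T)
    {i j : Y} (hi : Inv t i) (hj : Inv t j) (hiT : i ∈ T) (hjT : j ∈ T) :
    (i * j) * (i * j) = 1 ∨ (i * j) * (i * j) = t := by
  obtain ⟨a, ha⟩ := exists_fix hB hT
  have hc := commute_pr hAC hBen hB hno hi hj (ha i hiT) (ha j hjT)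
  have htr : ∀ a : D, ((i * j) * (i * j)) • a = a := by
    apply pr_eq_one.mp
    rw [map_mul, map_mul, hc.symm.mul_mul_mul_comm, ← map_mul, ← map_mul, hi.1, hj.1, map_one,
      one_mul]
  obtain ⟨n, hn⟩ := exists_pow_eq_one hT (T.mul_mem (T.mul_mem hiT hjT) (T.mul_mem hiT hjT))
  refine one_or_t hB hno hn htr hi ?_
  rw [mul_inv_rev, mul_inv_rev, hi.inv_eq, hj.inv_eq]
  calc i * (i * j * (i * j)) * i = (i * i) * j * i * (j * i) := by group
    _ = _ := by rw [hi.1, one_mul]

end Comm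

end Cfsg.Agent.TwoGenCore.ExistsBadQuot
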