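import Cfsg.Agent.TwoGenCore.CentralSetup
import Cfsg.Agent.TwoGenCore.GoodCentral
import Cfsg.Agent.TwoGenCore.W2Base
import Cfsg.Agent.Involutions.NormalFour
import Cfsg.Agent.Involutions.RankThree

/-!
# Proper 2-generated cores: Lemma K and the structure `Base` for the coset space

Let `M` be a closed proper subgroup of `C`, containing the central involution `t` and a Sylow
2-subgroup `T` of `C`.

* `isConj_or` (Lemma K) : if the involution `e ≠ t` is not conjugate to `e t` then every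
  involution `f ≠ t` is conjugate to `e` or to `e t`;
* `isConj_mul` : hence if `e ~ e t` for one involution `e ≠ t`, then for all;
* `base` : if `T` has rank at least 3 and `t` is the only involution of `Z(T)`, then `W2Base.Base`
  holds for the coset space `C ⧸ M`.
-/

set_option autoImplicit false
set_option linter.unusedSectionVars false

open scoped Pointwise

namespace Cfsg.Agent.TwoGenCore.GoodBase

open Cfsg Cfsg.Agent.TwoGenCore.Involution Cfsg.Agent.TwoGenCore.GoodFusion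
open Cfsg.Agent.TwoGenCore.CentralSetup Cfsg.Agent.TwoGenCore.W2Base

universe u

section

variable {C : Type u} [Group C] [Finite C] {M : Subgroup C} {t : C}

/-- Every involution is conjugate to an element of `M`. -/
theorem exists_conj_mem (_h : CSetup M t) (T : Sylow 2 C) (hTM : (T : Subgroup C) ≤ M) {f : C}
    (hf : orderOf f = 2) : ∃ g : C, g * f * g⁻¹ ∈ M := by
  have hfact : Fact (Nat.Prime 2) := ⟨Nat.prime_two⟩
  obtain ⟨c, -, hle⟩ := exists_conj_le (K := (⊤ : Subgroup C)) (T.subtype le_top)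
    (isPGroup_zpowers hf) le_top
  obtain ⟨s, hs, hsc⟩ := hle ⟨f, Subgroup.mem_zpowers f, rfl⟩
  refine ⟨c, ?_⟩
  have h1 : (s : C) = c * f * c⁻¹ := hsc
  rw [← h1]
  exact hTM hs

theorem conj_ne (h : CSetup M t) {f : C} (hft : f ≠ t) (g : C) : g * f * g⁻¹ ≠ t := by
  intro h1
  apply hft
  have h2 : f = g⁻¹ * (g * f * g⁻¹) * g := by group
  rw [h2, h1, mul_assoc, ← (h.central g).eq, inv_mul_cancel_left]

theorem isConj_mul_right (h : CSetup M t) {a b : C} (hab : IsConj a b) : IsConj (a * t) (b * t) := by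
  obtain ⟨c, rfl⟩ := isConj_iff.mp hab
  refine isConj_iff.mpr ⟨c, ?_⟩
  calc c * (a * t) * c⁻¹ = c * a * (t * c⁻¹) := by group
    _ = c * a * (c⁻¹ * t) := by rw [(h.central c⁻¹).eq]
    _ = c * a * c⁻¹ * t := by group

theorem isConj_of_mul (h : CSetup M t) {a b : C} (hab : IsConj a (b * t)) : IsConj (a * t) b := by
  have h1 := isConj_mul_right h hab
  rwa [mul_assoc, sq_eq_one h.ord, mul_one] at h1

/-- **Lemma K**, for `e ∈ M`. -/
theorem isConj_or_of_mem (h : CSetup M t) (T : Sylow 2 C) (hTM : (T : Subgroup C) ≤ M) {e f : C}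
    (heM : e ∈ M) (he : orderOf e = 2) (het : e ≠ t) (hf : orderOf f = 2) (hft : f ≠ t) :
    IsConj e (e * t) ∨ IsConj e f ∨ IsConj e (f * t) := by
  obtain ⟨g, hg⟩ : ∃ g : C, g ∉ M := by
    by_contra hcon
    push Not at hcon
    exact h.ne_top (eq_top_iff.mpr fun x _ => hcon x)
  obtain ⟨k, hk⟩ := exists_conj_mem h T hTM hf
  set f₁ := k * f * k⁻¹ with hf₁
  have hf₁2 : orderOf f₁ = 2 := by rw [hf₁, CentralSetup.orderOf_conj]; exact hf
  have hf₁t : f₁ ≠ t := conj_ne h hft k
  set f₂ := g * f₁ * g⁻¹ with hf₂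
  have hf₂2 : orderOf f₂ = 2 := by rw [hf₂, CentralSetup.orderOf_conj]; exact hf₁2
  have hff₂ : IsConj f f₂ := isConj_iff.mpr ⟨g * k, by rw [hf₂, hf₁]; group⟩
  by_cases hodd : Odd (orderOf (e * f₂))
  · obtain ⟨j, -, -, hj, -⟩ := Cfsg.Agent.TwoFusion.StronglyEmbeddedBasic.exists_swap e f₂ he hf₂2 hodd
    right; left
    exact (isConj_iff.mpr ⟨j, hj⟩ : IsConj e f₂).trans hff₂.symm
  · obtain ⟨w, -, hw2, hwe, hwf, hor⟩ := Cfsg.Agent.AschCrit.Basic.exists_central e f₂ he hf₂2
      (orderOf_pos _) hodd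
    have hwt : w = t := by
      by_contra hwt
      have hwM : w ∈ M := h.mem_of_commute heM he het hwe
      have h1 : Commute (g⁻¹ * w * g) f₁ := by
        have h2 : w * f₂ = f₂ * w := hwf.eq
        show g⁻¹ * w * g * f₁ = f₁ * (g⁻¹ * w * g)
        calc g⁻¹ * w * g * f₁ = g⁻¹ * (w * f₂) * g := by rw [hf₂]; group
          _ = g⁻¹ * (f₂ * w) * g := by rw [h2]
          _ = f₁ * (g⁻¹ * w * g) := by rw [hf₂]; group
      have h2 : g⁻¹ * w * g ∈ M := h.mem_of_commute hk hf₁2 hf₁t h1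
      have h3 : g⁻¹ ∈ M := h.mem_of_conj hwM hw2 hwt (by rwa [inv_inv])
      exact hg (by simpa using M.inv_mem h3)
    rw [hwt] at hor
    rcases hor with hor | hor
    · exact Or.inl hor
    · right; right
      -- `f₂ ~ e t`
      have h1 : IsConj (f₂ * t) e := isConj_of_mul h hor
      exact ((isConj_mul_right h hff₂).trans h1).symm

/-- **Lemma K**: if `e` is not conjugate to `e t` then every involution `f ≠ t` is conjugate to `e`
or to `e t`. -/
theorem isConj_or (h : CSetup M t) (T : Sylow 2 C) (hTM : (T : Subgroup C) ≤ M) {e f : C}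
    (he : orderOf e = 2) (het : e ≠ t) (hf : orderOf f = 2) (hft : f ≠ t) :
    IsConj e (e * t) ∨ IsConj e f ∨ IsConj e (f * t) := by
  obtain ⟨k, hk⟩ := exists_conj_mem h T hTM he
  have hc : IsConj e (k * e * k⁻¹) := isConj_iff.mpr ⟨k, rfl⟩
  rcases isConj_or_of_mem h T hTM hk (by rw [CentralSetup.orderOf_conj]; exact he)
    (conj_ne h het k) hf hft with h1 | h1 | h1
  · exact Or.inl (hc.trans (h1.trans (isConj_mul_right h hc).symm))
  · exact Or.inr (Or.inl (hc.trans h1))
  · exact Or.inr (Or.inr (hc.trans h1))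

/-- If `e ~ e t` for one involution `e ≠ t`, then for all. -/
theorem isConj_mul (h : CSetup M t) (T : Sylow 2 C) (hTM : (T : Subgroup C) ≤ M) {e i : C}
    (he : orderOf e = 2) (het : e ≠ t) (hc : IsConj e (e * t)) (hi : orderOf i = 2) (hit : i ≠ t) :
    IsConj i (i * t) := by
  rcases isConj_or h T hTM hi hit he het with h1 | h1 | h1
  · exact h1
  · exact h1.trans (hc.trans (isConj_mul_right h h1).symm)
  · -- `i ~ e t ~ e`, so `i t ~ e t ~ i`
    have h2 : IsConj i e := h1.trans hc.symm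
    exact h2.trans (hc.trans (isConj_mul_right h h2).symm)

/-- A 2-group of rank at least 3 contains an elementary abelian subgroup of order 8. -/
theorem exists_card_eight {T : Type*} [Group T] [Finite T] (hT : IsPGroup 2 T)
    (hr : ¬ PRankLE 2 2 T) : ∃ E : Subgroup T, Nat.card E = 8 ∧ IsMulCommutative E ∧
      ∀ e ∈ E, e ^ 2 = 1 := by
  have hfact : Fact (Nat.Prime 2) := ⟨Nat.prime_two⟩
  have hex : ∃ A : Subgroup T, IsMulCommutative A ∧ (∀ a ∈ A, a ^ 2 = 1) ∧
      2 ^ 2 < Nat.card A := by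
    by_contra hcon
    push Not at hcon
    exact hr (fun A hA hA2 => hcon A hA hA2)
  obtain ⟨A, hA, hA2, hcard⟩ := hex
  obtain ⟨k, hk⟩ := IsPGroup.iff_card.mp (hT.to_subgroup A)
  have h3 : 3 ≤ k := by
    by_contra hlt
    have h4 : 2 ^ k ≤ 2 ^ 2 := Nat.pow_le_pow_right (by norm_num) (by omega)
    omega
  obtain ⟨K, hK⟩ := Sylow.exists_subgroup_card_pow_prime (G := A) 2 (n := 3)
    (by rw [hk]; exact pow_dvd_pow 2 h3)
  refine ⟨K.map A.subtype, ?_, ⟨⟨?_⟩⟩, ?_⟩
  · rw [Nat.card_congr (Subgroup.equivMapOfInjective K _ A.subtype_injective).symm.toEquiv, hK]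
    norm_num
  · rintro ⟨_, a, -, rfl⟩ ⟨_, b, -, rfl⟩
    apply Subtype.ext
    have h1 : a * b = b * a := hA.is_comm.comm a b
    have h2 : (a : T) * b = b * a := congrArg Subtype.val h1
    exact h2
  · rintro _ ⟨a, -, rfl⟩
    exact hA2 a a.2

theorem exists_eight (T : Sylow 2 C) (hr : ¬ PRankLE 2 2 (T : Subgroup C)) (t : C) :
    ∃ e ∈ T, ∃ f ∈ T, e * e = 1 ∧ f * f = 1 ∧ e * f = f * e ∧
      e ≠ 1 ∧ e ≠ t ∧ f ≠ 1 ∧ f ≠ t ∧ f ≠ e ∧ f ≠ e * t := by
  obtain ⟨E, hE8, hEc, hE2⟩ := exists_card_eight T.2 hr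
  have key : ∀ a b c d : C, ∃ x : (T : Subgroup C), x ∈ E ∧ (x : C) ≠ a ∧ (x : C) ≠ b ∧
      (x : C) ≠ c ∧ (x : C) ≠ d := by
    classical
    intro a b c d
    by_contra hcon
    push Not at hcon
    let Φ : E → C := fun x => ((x : (T : Subgroup C)) : C)
    have hΦ : Function.Injective Φ := fun x y hxy => Subtype.ext (Subtype.ext hxy)
    have hsub : Set.range Φ ⊆ {a, b, c, d} := by
      rintro _ ⟨x, rfl⟩
      by_cases h1 : ((x : (T : Subgroup C)) : C) = a
      · left; exact h1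
      by_cases h2 : ((x : (T : Subgroup C)) : C) = b
      · right; left; exact h2
      by_cases h3 : ((x : (T : Subgroup C)) : C) = c
      · right; right; left; exact h3
      · right; right; right
        exact hcon x x.2 h1 h2 h3
    have h1 := Set.ncard_le_ncard hsub (Set.toFinite _)
    have h2 : (Set.range Φ).ncard = 8 := by
      rw [← Nat.card_coe_set_eq, Nat.card_range_of_injective hΦ, hE8]
    have h3 : ({a, b, c, d} : Set C).ncard ≤ 4 := by
      refine (Set.ncard_insert_le _ _).trans ?_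
      have h4 : ({b, c, d} : Set C).ncard ≤ 3 := by
        refine (Set.ncard_insert_le _ _).trans ?_
        have h5 : ({c, d} : Set C).ncard ≤ 2 := by
          refine (Set.ncard_insert_le _ _).trans ?_
          rw [Set.ncard_singleton]
        omega
      omega
    omega
  obtain ⟨e, heE, he1, het, -, -⟩ := key 1 t 1 1
  obtain ⟨f, hfE, hf1, hft, hfe, hfet⟩ := key 1 t e (e * t)
  refine ⟨e, e.2, f, f.2, ?_, ?_, ?_, he1, het, hf1, hft, hfe, hfet⟩
  · have := congrArg Subtype.val (hE2 e heE)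
    rw [pow_two] at this
    exact this
  · have := congrArg Subtype.val (hE2 f hfE)
    rw [pow_two] at this
    exact this
  · have h1 : e * f = f * e := congrArg Subtype.val (hEc.is_comm.comm ⟨e, heE⟩ ⟨f, hfE⟩)
    exact congrArg Subtype.val h1

theorem exists_four (h : CSetup M t) (T : Sylow 2 C) (hr : ¬ PRankLE 2 2 (T : Subgroup C))
    (hcyc : ∀ x ∈ T, orderOf x = 2 → (∀ s ∈ T, Commute s x) → x = t) :
    ∃ e ∈ T, e * e = 1 ∧ e ≠ 1 ∧ e ≠ t ∧ ∀ s ∈ T, s * e * s⁻¹ = e ∨ s * e * s⁻¹ = e * t := by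
  obtain ⟨E, hE8, hEc, hE2⟩ := exists_card_eight T.2 hr
  obtain ⟨U, hUn, hU, hU2⟩ := Cfsg.Agent.Involutions.NormalFour.exists_normal_four T.2 E hE8 hE2
  obtain ⟨z, u, hzU, huU, hzc, hz1, hu1, huz, -, hconj⟩ :=
    Cfsg.Agent.Involutions.RankThree.four_desc T.2 U hU hU2
  have hzt : (z : C) = t := by
    refine hcyc z z.2 ?_ ?_
    · refine CentralSetup.orderOf_eq_two ?_ (fun h1 => hz1 (Subtype.ext h1))
      have := congrArg Subtype.val (hU2 z hzU)
      rw [pow_two] at this
      exact this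
    · intro s hs
      exact congrArg Subtype.val (Subgroup.mem_center_iff.mp hzc ⟨s, hs⟩)
  refine ⟨u, u.2, ?_, fun h1 => hu1 (Subtype.ext h1), ?_, ?_⟩
  · have := congrArg Subtype.val (hU2 u huU)
    rw [pow_two] at this
    exact this
  · intro h1
    exact huz (Subtype.ext (h1.trans hzt.symm))
  · intro s hs
    rcases hconj ⟨s, hs⟩ with h1 | h1
    · left; exact congrArg Subtype.val h1
    · right
      have h2 : s * (u : C) * s⁻¹ = z * u := congrArg Subtype.val h1
      rw [h2, hzt, (h.central (u : C)).eq]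

/-- **The structure `Base`** for the coset space. -/
theorem base (h : CSetup M t) (T : Sylow 2 C) (hTM : (T : Subgroup C) ≤ M)
    (hr : ¬ PRankLE 2 2 (T : Subgroup C))
    (hcyc : ∀ x ∈ T, orderOf x = 2 → (∀ s ∈ T, Commute s x) → x = t) : Base (C ⧸ M) t := by
  have hfact : Fact (Nat.Prime 2) := ⟨Nat.prime_two⟩
  have hsmul : ∀ i k : C, i • (QuotientGroup.mk k : C ⧸ M) = QuotientGroup.mk k ↔
      k⁻¹ * i * k ∈ M := by
    intro i k
    have h1 : i • (QuotientGroup.mk k : C ⧸ M) = QuotientGroup.mk (i * k) := rfl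
    rw [h1, eq_comm, QuotientGroup.eq, mul_assoc]
  have htt := CentralSetup.sq_eq_one h.ord
  have ht1 := CentralSetup.ne_one_of_orderOf h.ord
  -- an element `e` with `e ~ e t`
  obtain ⟨e, heT, he2, he1, het, hes⟩ := exists_four h T hr hcyc
  have heo : orderOf e = 2 := CentralSetup.orderOf_eq_two he2 he1
  have hec : IsConj e (e * t) := by
    by_contra hcon
    apply het
    refine hcyc e heT heo ?_
    intro s hs
    rcases hes s hs with h1 | h1
    · show s * e = e * s
      calc s * e = s * e * s⁻¹ * s := by group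
        _ = e * s := by rw [h1]
    · exact absurd (isConj_iff.mpr ⟨s, h1⟩) hcon
  -- Sylow 2-subgroups are conjugate
  have hsyl' : ∀ S : Sylow 2 C, ∃ g : C, (∀ x, x ∈ T → g * x * g⁻¹ ∈ S) ∧
      ∀ x, x ∈ S → g⁻¹ * x * g ∈ T := by
    intro S
    obtain ⟨g, hg⟩ := MulAction.exists_smul_eq C T S
    have key : ∀ x, x ∈ S ↔ g⁻¹ * x * g ∈ T := by
      intro x
      have h1 : x ∈ S ↔ x ∈ ((g • T : Sylow 2 C) : Subgroup C) := by rw [hg]; rfl
      rw [h1, Sylow.coe_subgroup_smul, Subgroup.mem_pointwise_smul_iff_inv_smul_mem]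
      show (MulAut.conj g)⁻¹ x ∈ (T : Subgroup C) ↔ _
      rw [← map_inv, MulAut.conj_apply, inv_inv]
      rfl
    refine ⟨g, fun x hx => ?_, fun x hx => (key x).mp hx⟩
    rw [key]
    have : g⁻¹ * (g * x * g⁻¹) * g = x := by group
    rw [this]; exact hx
  have hcinj : ∀ g x y : C, g * x * g⁻¹ = g * y * g⁻¹ → x = y := by
    intro g x y hxy
    exact mul_left_cancel (mul_right_cancel hxy)
  have hct : ∀ g : C, g * t * g⁻¹ = t := by
    intro g
    rw [(h.central g).eq, mul_inv_cancel_right]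
  refine ⟨fun g => (h.central g).eq, ht1, htt, ?_, ?_, ?_, ?_, ?_, ?_, ?_⟩
  · intro a
    obtain ⟨k, rfl⟩ := QuotientGroup.mk_surjective a
    rw [hsmul]
    have h1 : k⁻¹ * t * k = t := by rw [mul_assoc, ← (h.central k).eq, inv_mul_cancel_left]
    rw [h1]; exact h.mem
  · intro i hi hi1 hit
    have hi2 : orderOf i = 2 := CentralSetup.orderOf_eq_two hi hi1
    obtain ⟨g, hg⟩ := exists_conj_mem h T hTM hi2
    refine ⟨QuotientGroup.mk g⁻¹, ?_, ?_⟩
    · show i • (QuotientGroup.mk g⁻¹ : C ⧸ M) = QuotientGroup.mk g⁻¹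
      rw [hsmul, inv_inv]
      exact hg
    · intro a ha
      obtain ⟨k, rfl⟩ := QuotientGroup.mk_surjective a
      have ha' : k⁻¹ * i * k ∈ M := (hsmul i k).mp ha
      rw [QuotientGroup.eq]
      -- `k⁻¹ g⁻¹ ∈ M`
      refine h.mem_of_conj (x := g * i * g⁻¹) hg (by rw [CentralSetup.orderOf_conj]; exact hi2)
        (conj_ne h hit g) ?_
      have h1 : k⁻¹ * g⁻¹ * (g * i * g⁻¹) * (k⁻¹ * g⁻¹)⁻¹ = k⁻¹ * i * k := by group
      rw [h1]; exact ha'
  · intro a b
    obtain ⟨k, rfl⟩ := QuotientGroup.mk_surjective a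
    obtain ⟨l, rfl⟩ := QuotientGroup.mk_surjective b
    refine ⟨l * k⁻¹, ?_⟩
    show (QuotientGroup.mk (l * k⁻¹ * k) : C ⧸ M) = QuotientGroup.mk l
    rw [inv_mul_cancel_right]
  · obtain ⟨g, hg⟩ : ∃ g : C, g ∉ M := by
      by_contra hcon
      push Not at hcon
      exact h.ne_top (eq_top_iff.mpr fun x _ => hcon x)
    refine ⟨QuotientGroup.mk 1, QuotientGroup.mk g, ?_⟩
    intro h1
    rw [QuotientGroup.eq, inv_one, one_mul] at h1
    exact hg h1
  · intro i hi hi1 hit
    exact isConj_mul h T hTM heo het hec (CentralSetup.orderOf_eq_two hi hi1) hit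
  · intro S
    obtain ⟨g, hg, -⟩ := hsyl' S
    obtain ⟨e, he, f, hf, h1, h2, h3, h4, h5, h6, h7, h8, h9⟩ := exists_eight T hr t
    refine ⟨g * e * g⁻¹, hg e he, g * f * g⁻¹, hg f hf, ?_, ?_, ?_, ?_, ?_, ?_, ?_, ?_, ?_⟩
    · calc g * e * g⁻¹ * (g * e * g⁻¹) = g * (e * e) * g⁻¹ := by group
        _ = 1 := by rw [h1]; group
    · calc g * f * g⁻¹ * (g * f * g⁻¹) = g * (f * f) * g⁻¹ := by group
        _ = 1 := by rw [h2]; group
    · calc g * e * g⁻¹ * (g * f * g⁻¹) = g * (e * f) * g⁻¹ := by group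
        _ = g * (f * e) * g⁻¹ := by rw [h3]
        _ = _ := by group
    · intro h10; apply h4; apply hcinj g; rw [h10]; group
    · intro h10; apply h5; apply hcinj g; rw [h10, hct]
    · intro h10; apply h6; apply hcinj g; rw [h10]; group
    · intro h10; apply h7; apply hcinj g; rw [h10, hct]
    · intro h10; apply h8; exact hcinj g _ _ h10
    · intro h10; apply h9; apply hcinj g; rw [h10]
      calc g * e * g⁻¹ * t = g * e * (g⁻¹ * t) := by group
        _ = g * e * (t * g⁻¹) := by rw [(h.central g⁻¹).eq]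
        _ = g * (e * t) * g⁻¹ := by group
  · intro S
    obtain ⟨g, hg, hg'⟩ := hsyl' S
    refine ⟨g * e * g⁻¹, hg e heT, ?_, ?_, ?_, ?_⟩
    · calc g * e * g⁻¹ * (g * e * g⁻¹) = g * (e * e) * g⁻¹ := by group
        _ = 1 := by rw [he2]; group
    · intro h10; apply he1; apply hcinj g; rw [h10]; group
    · intro h10; apply het; apply hcinj g; rw [h10, hct]
    · intro s hs
      have h1 := hes _ (hg' s hs)
      have h2 : s * (g * e * g⁻¹) * s⁻¹ = g * ((g⁻¹ * s * g) * e * (g⁻¹ * s * g)⁻¹) * g⁻¹ := by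
        group
      rcases h1 with h1 | h1
      · left; rw [h2, h1]
      · right
        rw [h2, h1]
        calc g * (e * t) * g⁻¹ = g * e * (t * g⁻¹) := by group
          _ = g * e * (g⁻¹ * t) := by rw [(h.central g⁻¹).eq]
          _ = g * e * g⁻¹ * t := by group

end

end Cfsg.Agent.TwoGenCore.GoodBase
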