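import Cfsg.Agent.TwoGenCore.NonCycAlt
import Cfsg.Prelude.Def_TwoFusion
import Cfsg.Prelude.Def_Spor_J1
import Cfsg.Prelude.Def_Sporadic

/-!
# Proper 2-generated cores: the centre of a Sylow 2-subgroup is cyclic

Step (7) of helper463's proof (bb 1602).
-/

set_option autoImplicit false
set_option linter.unusedSectionVars false

open scoped Pointwise

namespace Cfsg.Agent.TwoGenCore.NonCycMain

open Cfsg Cfsg.Agent.TwoGenCore.Involution Cfsg.Agent.TwoGenCore.GoodFusion
open Cfsg.Agent.TwoGenCore.GoodCentral Cfsg.Agent.TwoGenCore.NonCycFour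
open Cfsg.Agent.TwoGenCore.NonCycAlt

universe u

variable {G : Type u} [Group G]

/-- S1169 for the group `G`. -/
def Goldschmidt (G : Type u) [Group G] : Prop :=
  ∀ (S : Sylow 2 G) (A : Subgroup G), A ≠ ⊥ → IsMulCommutative A →
    IsStronglyClosed A (S : Subgroup G) →
    IsMulCommutative (S : Subgroup G) ∨ ∃ H : Subgroup G, IsStronglyEmbedded H

/-- S0506 for the group `G`. -/
def AbelianSylow (G : Type u) [Group G] : Prop :=
  ∀ S : Sylow 2 G, IsMulCommutative (S : Subgroup G) →
    (∃ a : ℕ, 2 ≤ a ∧ ∃ (F : Type) (_ : Field F) (_ : Fintype F), Fintype.card F = 2 ^ a ∧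
      Nonempty (G ≃* Matrix.ProjectiveSpecialLinearGroup (Fin 2) F)) ∨
    (∃ (F : Type) (_ : Field F) (_ : Fintype F),
      (Fintype.card F % 8 = 3 ∨ Fintype.card F % 8 = 5) ∧
      Nonempty (G ≃* Matrix.ProjectiveSpecialLinearGroup (Fin 2) F)) ∨
    Cfsg.IsRee G ∨ Cfsg.IsJ1 G

/-- S1644 for the group `G`. -/
def JOneThm (G : Type u) [Group G] : Prop :=
  ∀ S : Sylow 2 G, IsMulCommutative (S : Subgroup G) → Nat.card S = 8 → ∀ t : G,
    orderOf t = 2 →
    Nonempty ((Subgroup.centralizer ({t} : Set G)) ≃*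
      Multiplicative (ZMod 2) × alternatingGroup (Fin 5)) → Cfsg.Spor.IsoJ1 G

/-- An index 2 subgroup is the kernel of a homomorphism onto `ℤ/2`. -/
theorem exists_indexTwo_hom {Y : Type*} [Group Y] {L : Subgroup Y} (hL : L.index = 2) :
    ∃ φ : Y →* Multiplicative (ZMod 2), ∀ x, φ x = 1 ↔ x ∈ L := by
  classical
  let φ : Y →* Multiplicative (ZMod 2) :=
    { toFun := fun x => if x ∈ L then 1 else Multiplicative.ofAdd 1
      map_one' := by simp [one_mem]
      map_mul' := by
        intro x y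
        have h := Subgroup.mul_mem_iff_of_index_two hL (a := x) (b := y)
        by_cases hx : x ∈ L <;> by_cases hy : y ∈ L <;> simp [h, hx, hy]
        decide }
  refine ⟨φ, fun x => ?_⟩
  show (if x ∈ L then (1 : Multiplicative (ZMod 2)) else Multiplicative.ofAdd 1) = 1 ↔ x ∈ L
  by_cases hx : x ∈ L
  · simp [hx]
  · simp only [hx, if_false, iff_false]
    decide

variable [Finite G]

section

variable {H : Subgroup G} {S : Sylow 2 G} {z : G}

/-- The set-up: `z` is a central involution of `S`, `S` is elementary abelian of order 8, and `z`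
is bad. -/
structure Setup (H : Subgroup G) (S : Sylow 2 G) (z : G) : Prop where
  closed : Closed H
  le : (S : Subgroup G) ≤ H
  ord : orderOf z = 2
  mem : z ∈ S
  comm : ∀ s ∈ S, Commute s z
  exp : ∀ s ∈ S, s * s = 1
  card : Nat.card S = 8
  bad : Bad H z

/-- The core of `H ∩ C(z)` in `C(z)`. -/
noncomputable def core (H : Subgroup G) (z : G) : Subgroup (Subgroup.centralizer ({z} : Set G)) :=
  (H.subgroupOf (Subgroup.centralizer ({z} : Set G))).normalCore

instance (H : Subgroup G) (z : G) : (core H z).Normal := by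
  unfold core; infer_instance

theorem Setup.le_centralizer (h : Setup H S z) :
    (S : Subgroup G) ≤ Subgroup.centralizer ({z} : Set G) := fun s hs =>
  mem_centralizer_singleton.mpr (h.comm s hs)

theorem core_le (H : Subgroup G) (z : G) :
    core H z ≤ H.subgroupOf (Subgroup.centralizer ({z} : Set G)) := Subgroup.normalCore_le _

theorem self_mem (z : G) : z ∈ Subgroup.centralizer ({z} : Set G) :=
  mem_centralizer_singleton.mpr (Commute.refl _)

theorem Setup.mem_core (h : Setup H S z) : (⟨z, self_mem z⟩ : Subgroup.centralizer ({z} : Set G)) ∈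
    core H z := by
  intro b
  show (b : G) * z * (b : G)⁻¹ ∈ H
  have h1 : (b : G) * z = z * b := (mem_centralizer_singleton.mp b.2).eq
  rw [h1, mul_inv_cancel_right]
  exact h.le h.mem

/-- `S ∩ K = ⟨z⟩`. -/
theorem Setup.eq_of_mem_core (h : Setup H S z) {s : Subgroup.centralizer ({z} : Set G)}
    (hs : (s : G) ∈ S) (hsK : s ∈ core H z) (hs1 : s ≠ 1) : (s : G) = z := by
  by_contra hne
  obtain ⟨c, hc, hcH⟩ := h.bad
  apply hcH
  have hs1' : (s : G) ≠ 1 := fun h1 => hs1 (Subtype.ext h1)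
  refine h.closed.mem_of_commute (s := (s : G)) (t := z) (h.le hs) (h.le h.mem) ?_ ?_
    (orderOf_eq_two (h.exp _ hs) hs1') h.ord (h.comm _ hs) hne
  · have hc' : c⁻¹ ∈ Subgroup.centralizer ({z} : Set G) :=
      mem_centralizer_singleton.mpr hc.inv_left
    have h1 : c⁻¹ * (s : G) * c⁻¹⁻¹ ∈ H := hsK ⟨c⁻¹, hc'⟩
    rwa [inv_inv] at h1
  · have h1 : c⁻¹ * z * c = z := by
      rw [mul_assoc, ← hc.eq, ← mul_assoc, inv_mul_cancel, one_mul]
    rw [h1]; exact h.le h.mem

theorem Setup.card_map (h : Setup H S z) :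
    Nat.card (((S.subtype h.le_centralizer : Sylow 2 (Subgroup.centralizer ({z} : Set G))) :
      Subgroup (Subgroup.centralizer ({z} : Set G))).map (QuotientGroup.mk' (core H z))) = 4 := by
  set C := Subgroup.centralizer ({z} : Set G) with hC
  set S' : Subgroup C := ((S.subtype h.le_centralizer : Sylow 2 C) : Subgroup C) with hS'
  have hS'8 : Nat.card S' = 8 := by
    have h1 : Nat.card (S : Subgroup G) = 8 := h.card
    rw [← h1]
    exact Nat.card_congr (Subgroup.subgroupOfEquivOfLe h.le_centralizer).toEquiv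
  let f : S' →* C ⧸ core H z := (QuotientGroup.mk' (core H z)).comp S'.subtype
  have hrange : f.range = S'.map (QuotientGroup.mk' (core H z)) := by
    rw [MonoidHom.range_comp, Subgroup.range_subtype]
  have hker : Nat.card f.ker = 2 := by
    have hz' : (⟨⟨z, self_mem z⟩, h.mem⟩ : S') ∈ f.ker := by
      rw [MonoidHom.mem_ker]
      exact (QuotientGroup.eq_one_iff _).mpr h.mem_core
    have h1 : f.ker = Subgroup.zpowers (⟨⟨z, self_mem z⟩, h.mem⟩ : S') := by
      apply le_antisymm
      · intro s hs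
        by_cases hs1 : s = 1
        · rw [hs1]; exact one_mem _
        · have hsK : (s : C) ∈ core H z := (QuotientGroup.eq_one_iff _).mp hs
          have h2 := h.eq_of_mem_core (s := (s : C)) s.2 hsK (fun h3 => hs1 (Subtype.ext h3))
          have h3 : s = ⟨⟨z, self_mem z⟩, h.mem⟩ := Subtype.ext (Subtype.ext h2)
          rw [h3]; exact Subgroup.mem_zpowers _
      · rw [Subgroup.zpowers_le]; exact hz'
    rw [h1, Nat.card_zpowers, ← Subgroup.orderOf_coe, ← Subgroup.orderOf_coe]
    exact h.ord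
  have h2 := Subgroup.card_mul_index f.ker
  rw [Subgroup.index_ker, hker, hS'8, hrange] at h2
  have h3 : 2 * Nat.card (S'.map (QuotientGroup.mk' (core H z))) = 2 * 4 := h2
  exact Nat.eq_of_mul_eq_mul_left (by norm_num) h3

/-- `C(z) / K` satisfies the hypotheses of Lemma Four. -/
theorem Setup.emb (h : Setup H S z) :
    Emb ((H.subgroupOf (Subgroup.centralizer ({z} : Set G))).map (QuotientGroup.mk' (core H z)))
      ((S.subtype h.le_centralizer).mapSurjective (QuotientGroup.mk'_surjective (core H z))) := by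
  set C := Subgroup.centralizer ({z} : Set G) with hC
  set K := core H z with hK
  have hKM : K ≤ H.subgroupOf C := core_le H z
  have hmem : ∀ c : C, QuotientGroup.mk' K c ∈ (H.subgroupOf C).map (QuotientGroup.mk' K) →
      (c : G) ∈ H := by
    rintro c ⟨m, hm, hmc⟩
    have h1 : m⁻¹ * c ∈ K := QuotientGroup.eq.mp hmc
    have h2 : m * (m⁻¹ * c) ∈ H.subgroupOf C := mul_mem hm (hKM h1)
    rw [mul_inv_cancel_left] at h2
    exact h2
  refine ⟨?_, ?_, h.card_map, ?_, ?_, ?_⟩
  · rintro _ ⟨s, hs, rfl⟩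
    exact ⟨s, h.le hs, rfl⟩
  · intro h1
    obtain ⟨c, hc, hcH⟩ := h.bad
    apply hcH
    refine hmem ⟨c, mem_centralizer_singleton.mpr hc⟩ ?_
    rw [h1]; trivial
  · rintro _ ⟨s, hs, rfl⟩
    rw [← map_mul]
    have h1 : s * s = 1 := Subtype.ext (h.exp _ hs)
    rw [h1, map_one]
  · rintro _ ⟨s, hs, rfl⟩ hs1 g hg
    obtain ⟨c, rfl⟩ := QuotientGroup.mk'_surjective K g
    have h1 : c⁻¹ * s * c ∈ H.subgroupOf C := by
      refine hmem (c⁻¹ * s * c) ?_
      rwa [map_mul, map_mul, map_inv]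
    refine ⟨c, ?_, rfl⟩
    have hsK : s ∉ K := fun h2 => hs1 ((QuotientGroup.eq_one_iff _).mpr h2)
    have hs1 : (s : G) ≠ 1 := by
      intro h2
      apply hsK
      have h3 : s = 1 := Subtype.ext h2
      rw [h3]; exact one_mem _
    have hsz : (s : G) ≠ z := by
      intro h2
      apply hsK
      have h3 : s = ⟨z, self_mem z⟩ := Subtype.ext h2
      rw [h3]; exact h.mem_core
    show (c : G) ∈ H
    refine h.closed.mem_of_commute (s := (s : G)) (t := z) (h.le hs) (h.le h.mem) h1 ?_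
      (orderOf_eq_two (h.exp _ hs) hs1) h.ord (h.comm _ hs) hsz
    have h2 : (c : G) * z = z * c := (mem_centralizer_singleton.mp c.2).eq
    rw [mul_assoc, ← h2, inv_mul_cancel_left]
    exact h.le h.mem
  · rw [eq_bot_iff]
    intro y hy
    obtain ⟨c, rfl⟩ := QuotientGroup.mk'_surjective K y
    rw [Subgroup.mem_bot]
    refine (QuotientGroup.eq_one_iff _).mpr ?_
    intro b
    refine hmem (b * c * b⁻¹) ?_
    rw [map_mul, map_mul, map_inv]
    exact hy (QuotientGroup.mk' K b)

/-- There is a surjection `C(z) → A₅` with kernel `K`. -/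
theorem Setup.exists_hom (hB : BenderThm.{u}) (h : Setup H S z) :
    ∃ π : Subgroup.centralizer ({z} : Set G) →* alternatingGroup (Fin 5),
      Function.Surjective π ∧ π.ker = core H z := by
  obtain ⟨e⟩ := Emb.equiv hB h.emb
  refine ⟨e.toMonoidHom.comp (QuotientGroup.mk' (core H z)),
    e.surjective.comp (QuotientGroup.mk'_surjective _), ?_⟩
  ext x
  rw [MonoidHom.mem_ker]
  show e (QuotientGroup.mk' (core H z) x) = 1 ↔ _
  rw [map_eq_one_iff e e.injective]
  exact QuotientGroup.eq_one_iff x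

/-- A homomorphism `C(z) → ℤ/2` not killing `z` (transfer). -/
theorem Setup.exists_transfer (h : Setup H S z) {E : Subgroup G} (hE : E ≤ S)
    (hE4 : Nat.card E = 4) (hzE : z ∉ E) :
    ∃ τ : Subgroup.centralizer ({z} : Set G) →* Multiplicative (ZMod 2),
      τ ⟨z, self_mem z⟩ ≠ 1 := by
  set C := Subgroup.centralizer ({z} : Set G) with hC
  set S' : Sylow 2 C := S.subtype h.le_centralizer with hS'
  have hSC : (S : Subgroup G) ≤ C := h.le_centralizer
  have hS'8 : Nat.card (S' : Subgroup C) = 8 := by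
    have h1 : Nat.card (S : Subgroup G) = 8 := h.card
    rw [← h1]
    exact Nat.card_congr (Subgroup.subgroupOfEquivOfLe h.le_centralizer).toEquiv
  -- the subgroup `E` inside `S'`
  let E1 : Subgroup C := E.subgroupOf C
  let E' : Subgroup (S' : Subgroup C) := E1.subgroupOf (S' : Subgroup C)
  have hE1 : E1 ≤ (S' : Subgroup C) := fun x hx => hE hx
  have hE'4 : Nat.card E' = 4 := by
    rw [← hE4, Nat.card_congr (Subgroup.subgroupOfEquivOfLe hE1).toEquiv]
    exact Nat.card_congr (Subgroup.subgroupOfEquivOfLe (hE.trans hSC)).toEquiv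
  have hidx : E'.index = 2 := by
    have h1 := Subgroup.card_mul_index E'
    rw [hE'4] at h1
    have h2 : 4 * E'.index = 4 * 2 := h1.trans hS'8
    exact Nat.eq_of_mul_eq_mul_left (by norm_num) h2
  obtain ⟨φ, hφ⟩ := exists_indexTwo_hom hidx
  have hkey : ∀ (k : ℕ) (g₀ : C), g₀⁻¹ * (⟨z, self_mem z⟩ : C) ^ k * g₀ ∈ (S' : Subgroup C) →
      g₀⁻¹ * (⟨z, self_mem z⟩ : C) ^ k * g₀ = (⟨z, self_mem z⟩ : C) ^ k := by
    intro k g₀ _
    have h1 : Commute (⟨z, self_mem z⟩ : C) g₀ := Subtype.ext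
      (mem_centralizer_singleton.mp g₀.2).eq.symm
    have h2 : Commute ((⟨z, self_mem z⟩ : C) ^ k) g₀ := h1.pow_left k
    rw [mul_assoc, h2.eq, inv_mul_cancel_left]
  refine ⟨MonoidHom.transfer φ, ?_⟩
  rw [MonoidHom.transfer_eq_pow φ _ hkey]
  intro h1
  rw [hφ] at h1
  have h2 : z ^ (S' : Subgroup C).index ∈ E := h1
  have hodd : Odd (S' : Subgroup C).index := by
    rw [← Nat.not_even_iff_odd, even_iff_two_dvd]
    exact S'.not_dvd_index
  obtain ⟨m, hm⟩ := hodd
  have hz2 : z ^ 2 = 1 := by rw [← h.ord]; exact pow_orderOf_eq_one z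
  rw [hm, pow_add, pow_mul, hz2, one_pow, one_mul, pow_one] at h2
  exact hzE h2

/-- **The centralizer of `z`**, if `|G| = 175560`. -/
theorem Setup.equiv (hB : BenderThm.{u}) [IsSimpleGroup G] (h : Setup H S z) {E : Subgroup G}
    (hE : E ≤ S) (hE4 : Nat.card E = 4) (hzE : z ∉ E) (hcard : Nat.card G = 175560) :
    Nonempty ((Subgroup.centralizer ({z} : Set G)) ≃*
      Multiplicative (ZMod 2) × alternatingGroup (Fin 5)) := by
  classical
  have hfact : Fact (Nat.Prime 2) := ⟨Nat.prime_two⟩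
  have hex := h.exists_hom hB
  have hex' := h.exists_transfer hE hE4 hzE
  set C := Subgroup.centralizer ({z} : Set G) with hC
  obtain ⟨π, hπ, hker⟩ := hex
  obtain ⟨τ, hτ⟩ := hex'
  let f : C →* Multiplicative (ZMod 2) × alternatingGroup (Fin 5) := τ.prod π
  have hSC : (S : Subgroup G) ≤ C := h.le_centralizer
  have hz1 : z ≠ 1 := ne_one_of_orderOf h.ord
  -- the kernel has odd order
  have hodd : Odd (Nat.card f.ker) := by
    by_contra hev
    rw [Nat.not_odd_iff_even, even_iff_two_dvd] at hev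
    obtain ⟨y, hy⟩ := exists_prime_orderOf_dvd_card' 2 hev
    have hy2 : orderOf ((y : C) : G) = 2 := by
      rw [Subgroup.orderOf_coe, Subgroup.orderOf_coe]; exact hy
    obtain ⟨c, hc, hle⟩ := exists_conj_le (K := C) (S.subtype hSC) (isPGroup_zpowers hy2)
      (by rw [Subgroup.zpowers_le]; exact (y : C).2)
    obtain ⟨s, hs, hsc⟩ := hle ⟨((y : C) : G), Subgroup.mem_zpowers _, rfl⟩
    have hsc' : (s : G) = c * (y : C) * c⁻¹ := hsc
    have hsS : (s : G) ∈ S := hs
    have hseq : s = ⟨c, hc⟩ * (y : C) * ⟨c, hc⟩⁻¹ := Subtype.ext hsc'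
    have hsker : s ∈ f.ker := by
      rw [hseq]
      exact (inferInstance : f.ker.Normal).conj_mem _ y.2 _
    have hfs : f s = 1 := hsker
    have hπs : π s = 1 := congrArg Prod.snd hfs
    have hτs : τ s = 1 := congrArg Prod.fst hfs
    have hsK : s ∈ core H z := by rw [← hker]; exact hπs
    have hs1 : s ≠ 1 := by
      intro h1
      have h2 : (s : G) = 1 := congrArg Subtype.val h1
      have h3 : orderOf (c * ((y : C) : G) * c⁻¹) = 2 := by rw [orderOf_conj]; exact hy2
      rw [← hsc', h2, orderOf_one] at h3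
      omega
    have hsz := h.eq_of_mem_core hsS hsK hs1
    have : s = ⟨z, self_mem z⟩ := Subtype.ext hsz
    rw [this] at hτs
    exact hτ hτs
  -- surjectivity
  have hsurj : Function.Surjective f := by
    rw [← MonoidHom.range_eq_top]
    have h8 : 8 ∣ Nat.card C := by
      have h1 : Nat.card (S : Subgroup G) = 8 := h.card
      rw [← h1]
      exact Subgroup.card_dvd_of_le hSC
    have hmul := Subgroup.card_mul_index f.ker
    rw [Subgroup.index_ker] at hmul
    have h8r : 8 ∣ Nat.card f.range := by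
      rw [← hmul] at h8
      have hcop : Nat.Coprime 8 (Nat.card f.ker) :=
        Nat.Coprime.pow_left 3 (Nat.coprime_two_left.mpr hodd)
      exact hcop.dvd_of_dvd_mul_left h8
    have h60r : 60 ∣ Nat.card f.range := by
      let g : f.range →* alternatingGroup (Fin 5) :=
        (MonoidHom.snd (Multiplicative (ZMod 2)) (alternatingGroup (Fin 5))).comp f.range.subtype
      have hg : Function.Surjective g := by
        intro a
        obtain ⟨c, hc⟩ := hπ a
        exact ⟨⟨f c, c, rfl⟩, hc⟩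
      have h1 := Subgroup.card_dvd_of_surjective g hg
      have h2 : Nat.card (alternatingGroup (Fin 5)) = 60 := by
        rw [Nat.card_eq_fintype_card]; decide
      rwa [h2] at h1
    have h120 : 120 ∣ Nat.card f.range := by
      have := Nat.lcm_dvd h8r h60r
      exact this
    have hQ : Nat.card (Multiplicative (ZMod 2) × alternatingGroup (Fin 5)) = 120 :=
      JOneEnd.card_Q
    apply Subgroup.eq_top_of_le_card
    rw [hQ]
    exact Nat.le_of_dvd Nat.card_pos h120
  have hinj := JOneEnd.injective hcard hz1 (C := C) (self_mem z)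
    (fun y hy => (mem_centralizer_singleton.mp hy).eq) f hsurj hodd (sq_eq_one h.ord)
  exact ⟨MulEquiv.ofBijective f ⟨hinj, hsurj⟩⟩

end

theorem ree_mod (m : ℕ) :
    ((3 ^ (2 * m + 1)) ^ 3 * ((3 ^ (2 * m + 1)) ^ 3 + 1) * (3 ^ (2 * m + 1) - 1)) % 80 = 72 := by
  have h : 3 ^ (2 * m + 1) % 80 = 3 ∨ 3 ^ (2 * m + 1) % 80 = 27 := by
    induction m with
    | zero => left; rfl
    | succ m ih =>
      have e : 3 ^ (2 * (m + 1) + 1) = 3 ^ (2 * m + 1) * 9 := by
        rw [show 2 * (m + 1) + 1 = (2 * m + 1) + 2 by ring, pow_add]; norm_num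
      rw [e]
      omega
  generalize 3 ^ (2 * m + 1) = q at h
  rcases h with h | h
  · obtain ⟨k, rfl⟩ : ∃ k, q = 80 * k + 3 := ⟨q / 80, by omega⟩
    rw [show 80 * k + 3 - 1 = 80 * k + 2 by omega]
    simp [Nat.pow_mod, Nat.mul_mod, Nat.add_mod]
  · obtain ⟨k, rfl⟩ : ∃ k, q = 80 * k + 27 := ⟨q / 80, by omega⟩
    rw [show 80 * k + 27 - 1 = 80 * k + 26 by omega]
    simp [Nat.pow_mod, Nat.mul_mod, Nat.add_mod]

theorem card_sylow_eq (S : Sylow 2 G) (h8 : 8 ∣ Nat.card G) (h16 : ¬ 16 ∣ Nat.card G) :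
    Nat.card S = 8 := by
  have hfact : Fact (Nat.Prime 2) := ⟨Nat.prime_two⟩
  have h1 := Subgroup.card_mul_index (S : Subgroup G)
  have h2 := S.not_dvd_index
  obtain ⟨k, hk⟩ := IsPGroup.iff_card.mp S.2
  rw [← h1] at h8 h16
  have h3 : 8 ∣ Nat.card (S : Subgroup G) := by
    have hcop : Nat.Coprime 8 (S : Subgroup G).index := by
      have hc2 : Nat.Coprime 2 (S : Subgroup G).index := by
        rwa [Nat.Prime.coprime_iff_not_dvd Nat.prime_two]
      exact Nat.Coprime.pow_left 3 hc2
    exact hcop.dvd_of_dvd_mul_right h8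
  have h4 : ¬ 16 ∣ Nat.card (S : Subgroup G) := fun h => h16 (h.mul_right _)
  rw [hk] at h3 h4
  have h5 : 3 ≤ k := (Nat.pow_dvd_pow_iff_le_right (x := 2) (by norm_num)).mp (by
    show 2 ^ 3 ∣ 2 ^ k
    exact h3)
  have h6 : ¬ 4 ≤ k := by
    intro h
    exact h4 (pow_dvd_pow 2 h)
  have h7 : k = 3 := by omega
  rw [h7] at hk
  exact hk

/-- **Step (7)**: if the central involution `z` of `S` satisfies `FiveOut` then `G` is known. -/
theorem of_fiveOut [IsSimpleGroup G] (hG : Goldschmidt G) (hA : AbelianSylow G)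
    (hB : BenderThm.{u}) (hJ : JOneThm G) {H : Subgroup G} (hH : Closed H) {S : Sylow 2 G}
    (hSH : (S : Subgroup G) ≤ H) {z : G} (hz : orderOf z = 2) (hzS : z ∈ S)
    (hzc : ∀ s ∈ S, Commute s z) (hbad : Bad H z) (hfive : FiveOut (S : Subgroup G) z) :
    (∃ L : Subgroup G, IsStronglyEmbedded L) ∨
    (∃ (F : Type) (_ : Field F) (_ : Fintype F), 3 ≤ Fintype.card F ∧
      Nonempty (G ≃* Matrix.ProjectiveSpecialLinearGroup (Fin 2) F)) ∨
    Cfsg.Spor.IsoJ1 G := by
  classical
  have hfact : Fact (Nat.Prime 2) := ⟨Nat.prime_two⟩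
  obtain ⟨E, hES, hEz, hE2, hzE, hE4, hEall, -⟩ := hfive
  have hEcomm : ∀ a ∈ E, ∀ b ∈ E, Commute a b := by
    intro a ha b hb
    have h1 := hE2 a ha
    have h2 := hE2 b hb
    have h3 := hE2 _ (mul_mem ha hb)
    show a * b = b * a
    have h4 : b * a = (a * b)⁻¹ := by
      rw [mul_inv_rev, inv_eq_of_mul_eq_one_left h1, inv_eq_of_mul_eq_one_left h2]
    rw [h4]
    exact eq_inv_of_mul_eq_one_left h3
  have hz2 := sq_eq_one hz
  have hAcomm : ∀ x ∈ S, x * x = 1 → ∀ y ∈ S, y * y = 1 → Commute x y := by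
    intro x hx hx2 y hy hy2
    have h1 := hEall x hx (hzc x hx) hx2
    have h2 := hEall y hy (hzc y hy) hy2
    have key : ∀ a ∈ S, z * a ∈ E → ∀ b, Commute (z * a) b → b ∈ S → Commute a b := by
      intro a _ _ b hab hb
      have h3 : a = z * (z * a) := by rw [← mul_assoc, hz2, one_mul]
      rw [h3]
      exact (hzc b hb).symm.mul_left hab
    rcases h1 with h1 | h1 <;> rcases h2 with h2 | h2
    · exact hEcomm x h1 y h2
    · exact (key y hy h2 x (hEcomm _ h2 x h1) hx).symm
    · exact key x hx h1 y (hEcomm _ h1 y h2) hy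
    · refine key x hx h1 y ?_ hy
      exact (key y hy h2 _ (hEcomm _ h2 _ h1) (mul_mem hzS hx)).symm
  let A : Subgroup G :=
    { carrier := {x | x ∈ S ∧ x * x = 1}
      one_mem' := ⟨one_mem _, one_mul 1⟩
      mul_mem' := by
        rintro a b ⟨ha, ha2⟩ ⟨hb, hb2⟩
        refine ⟨mul_mem ha hb, ?_⟩
        have hab : a * b = b * a := hAcomm a ha ha2 b hb hb2
        calc a * b * (a * b) = a * b * (b * a) := by rw [hab]
          _ = a * (b * b) * a := by group
          _ = 1 := by rw [hb2, mul_one, ha2]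
      inv_mem' := by
        rintro a ⟨ha, ha2⟩
        refine ⟨inv_mem ha, ?_⟩
        have : a⁻¹ = a := inv_eq_of_mul_eq_one_right ha2
        rw [this, ha2] }
  have hAS : A ≤ S := fun x hx => hx.1
  have hEA : E ≤ A := fun x hx => ⟨hES hx, hE2 x hx⟩
  have hzA : z ∈ A := ⟨hzS, hz2⟩
  have hAbot : A ≠ ⊥ := by
    intro h1
    rw [h1, Subgroup.mem_bot] at hzA
    exact ne_one_of_orderOf hz hzA
  have hAc : IsMulCommutative A := ⟨⟨fun a b => Subtype.ext
    (hAcomm a a.2.1 a.2.2 b b.2.1 b.2.2)⟩⟩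
  have hsc : IsStronglyClosed A (S : Subgroup G) := by
    refine ⟨hAS, ?_⟩
    rintro x ⟨-, hx2⟩ g hg
    refine ⟨hg, ?_⟩
    calc g * x * g⁻¹ * (g * x * g⁻¹) = g * (x * x) * g⁻¹ := by group
      _ = 1 := by rw [hx2]; group
  rcases hG S A hAbot hAc hsc with hSc | hse
  swap
  · exact Or.inl hse
  right
  -- the set-up in the two remaining cases
  have hsetup : Nat.card S = 8 → Setup H S z ∧ Nat.card E = 4 := by
    intro h8
    have h8' : Nat.card (S : Subgroup G) = 8 := h8
    have h1 : Nat.card E ∣ Nat.card A := Subgroup.card_dvd_of_le hEA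
    have h2 : Nat.card A ∣ 8 := by rw [← h8']; exact Subgroup.card_dvd_of_le hAS
    have h3 : Nat.card E < Nat.card A := by
      refine lt_of_le_of_ne (Nat.le_of_dvd Nat.card_pos h1) ?_
      intro h4
      have h5 : E = A := Subgroup.eq_of_le_of_card_ge hEA h4.ge
      rw [h5] at hzE
      exact hzE hzA
    have hA8 : Nat.card A = 8 := by
      have h5 := Nat.le_of_dvd (by norm_num) h2
      have h6 : Nat.card A ∈ Nat.divisors 8 := Nat.mem_divisors.mpr ⟨h2, by norm_num⟩
      have h7 : Nat.divisors 8 = {1, 2, 4, 8} := by decide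
      rw [h7] at h6
      simp only [Finset.mem_insert, Finset.mem_singleton] at h6
      omega
    have hAeq : A = (S : Subgroup G) :=
      Subgroup.eq_of_le_of_card_ge hAS (by rw [hA8, h8'])
    have hE4' : Nat.card E = 4 := by
      rw [hA8] at h1 h3
      have h6 : Nat.card E ∈ Nat.divisors 8 := Nat.mem_divisors.mpr ⟨h1, by norm_num⟩
      have h7 : Nat.divisors 8 = {1, 2, 4, 8} := by decide
      rw [h7] at h6
      simp only [Finset.mem_insert, Finset.mem_singleton] at h6
      omega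
    refine ⟨⟨hH, hSH, hz, hzS, hzc, ?_, h8, hbad⟩, hE4'⟩
    intro s hs
    have h8 : s ∈ A := by rw [hAeq]; exact hs
    exact h8.2
  rcases hA S hSc with ⟨a, ha, F, _, _, hF, e⟩ | ⟨F, _, _, hF, e⟩ | ⟨-, m, -, hcard⟩ | ⟨-, hcard⟩
  · left
    refine ⟨F, inferInstance, inferInstance, ?_, e⟩
    rw [hF]
    calc 3 ≤ 2 ^ 2 := by norm_num
      _ ≤ 2 ^ a := Nat.pow_le_pow_right (by norm_num) ha
  · left
    refine ⟨F, inferInstance, inferInstance, ?_, e⟩
    omega
  · exfalso
    have hmod := ree_mod m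
    rw [← hcard] at hmod
    have h8 : Nat.card S = 8 := card_sylow_eq S (by omega) (by omega)
    obtain ⟨hset, -⟩ := hsetup h8
    obtain ⟨π, hπ, -⟩ := hset.exists_hom hB
    have h1 := Subgroup.card_dvd_of_surjective π hπ
    have h2 : Nat.card (alternatingGroup (Fin 5)) = 60 := by
      rw [Nat.card_eq_fintype_card]; decide
    rw [h2] at h1
    have h3 := h1.trans (Subgroup.card_subgroup_dvd_card _)
    omega
  · right
    have h8 : Nat.card S = 8 := card_sylow_eq S (by rw [hcard]; norm_num) (by rw [hcard]; norm_num)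
    obtain ⟨hset, hE4'⟩ := hsetup h8
    exact hJ S hSc h8 z hz (hset.equiv hB hES hE4' hzE hcard)

end Cfsg.Agent.TwoGenCore.NonCycMain
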