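import Cfsg.Agent.TwoGenCore.GoodBase
import Cfsg.Agent.TwoGenCore.NonCycMain

/-!
# Proper 2-generated cores, 2-rank at least 3: reduction to the structure `Base`

Sections 1-3 of `blueprints/S1728-rank3.md` at the level of the simple group `G`.
-/

set_option autoImplicit false
set_option linter.unusedSectionVars false

open scoped Pointwise

namespace Cfsg.Agent.TwoGenCore.GoodMain

open Cfsg Cfsg.Agent.TwoGenCore.Involution Cfsg.Agent.TwoGenCore.GoodFusion
open Cfsg.Agent.TwoGenCore.GoodCentral Cfsg.Agent.TwoGenCore.GoodBase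
open Cfsg.Agent.TwoGenCore.CentralSetup Cfsg.Agent.TwoGenCore.W2Base
open Cfsg.Agent.TwoGenCore.NonCycMain Cfsg.Agent.TwoGenCore.NonCycAlt

universe u

variable {G : Type u} [Group G] [Finite G]

/-- A bad involution `t` of the closed subgroup `H` gives a `CSetup` in `C(t)`. -/
theorem cSetup {H : Subgroup G} (hH : Closed H) {t : G} (ht : orderOf t = 2) (htH : t ∈ H)
    (hbad : Bad H t) : CSetup (H.subgroupOf (Subgroup.centralizer ({t} : Set G)))
      (⟨t, self_mem t⟩ : Subgroup.centralizer ({t} : Set G)) where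
  closed := hH.subgroupOf _
  ne_top := by
    intro h1
    obtain ⟨c, hc, hcH⟩ := hbad
    rw [Subgroup.subgroupOf_eq_top] at h1
    exact hcH (h1 (mem_centralizer_singleton.mpr hc))
  mem := htH
  ord := by rw [Subgroup.orderOf_mk]; exact ht
  central := fun g => Subtype.ext (mem_centralizer_singleton.mp g.2).eq

/-- **`Base` for the centralizer of a bad involution `t`, if `t` is the only involution of
`Z(S)`**. -/
theorem base_of_closed {H : Subgroup G} (hH : Closed H) (S : Sylow 2 G)
    (hSH : (S : Subgroup G) ≤ H) (hr : ¬ PRankLE 2 2 (S : Subgroup G)) {t : G}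
    (ht : orderOf t = 2) (htS : t ∈ S) (htc : ∀ s ∈ S, Commute s t) (hbad : Bad H t)
    (hcyc : ¬ NonCyc (S : Subgroup G) t) :
    Base (Subgroup.centralizer ({t} : Set G) ⧸
      H.subgroupOf (Subgroup.centralizer ({t} : Set G)))
      (⟨t, self_mem t⟩ : Subgroup.centralizer ({t} : Set G)) := by
  have hSC : (S : Subgroup G) ≤ Subgroup.centralizer ({t} : Set G) := fun s hs =>
    mem_centralizer_singleton.mpr (htc s hs)
  refine base (cSetup hH ht (hSH htS) hbad) (S.subtype hSC) (fun s hs => hSH hs) ?_ ?_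
  · intro h1
    apply hr
    refine pRankLE_of_injective
      (Subgroup.subgroupOfEquivOfLe hSC).symm.toMonoidHom
      (Subgroup.subgroupOfEquivOfLe hSC).symm.injective h1
  · intro x hx hx2 hxc
    by_contra hxt
    apply hcyc
    refine ⟨x, hx, ?_, fun h1 => hxt (Subtype.ext h1), ?_, ?_⟩
    · rw [← hx2]; exact Subgroup.orderOf_coe x
    · exact mem_centralizer_singleton.mp x.2
    · intro s hs _
      exact congrArg Subtype.val (hxc ⟨s, hSC hs⟩ hs)

/-- A nontrivial Sylow 2-subgroup has a central involution. -/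
theorem exists_central_involution (S : Sylow 2 G) (hr : ¬ PRankLE 2 2 (S : Subgroup G)) :
    ∃ t ∈ S, orderOf t = 2 ∧ ∀ s ∈ S, Commute s t := by
  have hfact : Fact (Nat.Prime 2) := ⟨Nat.prime_two⟩
  have hne : Nontrivial (S : Subgroup G) := by
    by_contra hcon
    rw [not_nontrivial_iff_subsingleton] at hcon
    apply hr
    intro A _ _
    have h1 : Nat.card A ≤ Nat.card (S : Subgroup G) := Nat.card_le_card_of_injective _
      A.subtype_injective
    rw [Nat.card_of_subsingleton (1 : (S : Subgroup G))] at h1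
    omega
  have hnt : Nontrivial (Subgroup.center (S : Subgroup G)) := S.2.center_nontrivial
  obtain ⟨n, hn, hcard⟩ := (S.2.to_subgroup (Subgroup.center (S : Subgroup G))).nontrivial_iff_card.mp hnt
  have hdvd : 2 ∣ Nat.card (Subgroup.center (S : Subgroup G)) := by
    rw [hcard]; exact dvd_pow_self 2 (by omega)
  obtain ⟨z, hz⟩ := exists_prime_orderOf_dvd_card' 2 hdvd
  refine ⟨((z : (S : Subgroup G)) : G), (z : (S : Subgroup G)).2, ?_, ?_⟩
  · rw [Subgroup.orderOf_coe, Subgroup.orderOf_coe]; exact hz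
  · intro s hs
    exact congrArg Subtype.val (Subgroup.mem_center_iff.mp z.2 ⟨s, hs⟩)

theorem not_pRankLE_one {X : Subgroup G} (hr : ¬ PRankLE 2 2 X) : ¬ PRankLE 2 1 X := by
  intro h1
  apply hr
  intro A hA hA2
  exact (h1 A hA hA2).trans (by norm_num)

/-- **Sections 1-3**: `G` is known, or `Z(S)` has a unique involution `t`, `t` is bad, and `Base`
holds for `C(t)`. -/
theorem main [IsSimpleGroup G] {H : Subgroup G} (hH : Closed H) (htop : H ≠ ⊤) (S : Sylow 2 G)
    (hSH : (S : Subgroup G) ≤ H) (hr : ¬ PRankLE 2 2 (S : Subgroup G))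
    (hSE : ¬ ∃ M : Subgroup G, IsStronglyEmbedded M) (hcrit : Criterion G)
    (hfive : Five H (S : Subgroup G)) (hG : Goldschmidt G) (hA : AbelianSylow G)
    (hB : BenderThm.{u}) (hJ : JOneThm G) :
    (∃ (F : Type) (_ : Field F) (_ : Fintype F), 3 ≤ Fintype.card F ∧
      Nonempty (G ≃* Matrix.ProjectiveSpecialLinearGroup (Fin 2) F)) ∨
    Cfsg.Spor.IsoJ1 G ∨
    ∃ t ∈ S, orderOf t = 2 ∧ (∀ s ∈ S, Commute s t) ∧
      (∀ x ∈ S, orderOf x = 2 → (∀ s ∈ S, Commute s x) → x = t) ∧
      Base (Subgroup.centralizer ({t} : Set G) ⧸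
        H.subgroupOf (Subgroup.centralizer ({t} : Set G)))
        (⟨t, self_mem t⟩ : Subgroup.centralizer ({t} : Set G)) := by
  obtain ⟨t, htS, ht, htc⟩ := exists_central_involution S hr
  have hbad : Bad H t := bad_of_two_central hH htop S hSH (not_pRankLE_one hr) hSE hcrit hfive
    ht htS htc
  by_cases hcyc : NonCyc (S : Subgroup G) t
  · -- `Z(S)` is not cyclic
    have hext : Ext (S : Subgroup G) t := by
      refine ⟨htS, ?_⟩
      intro Q hQ hQp
      have hfact : Fact (Nat.Prime 2) := ⟨Nat.prime_two⟩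
      have hSC : (S : Subgroup G) ≤ Subgroup.centralizer ({t} : Set G) := fun s hs =>
        mem_centralizer_singleton.mpr (htc s hs)
      obtain ⟨c, hc, hle⟩ := exists_conj_le (K := Subgroup.centralizer ({t} : Set G))
        (S.subtype hSC) hQp hQ
      refine ⟨c, hc, hle.trans ?_⟩
      rintro _ ⟨x, hx, rfl⟩
      exact ⟨hx, x.2⟩
    have h1 := of_fiveOut hG hA hB hJ hH hSH ht htS htc hbad (hfive t htS ht hext hbad hcyc)
    rcases h1 with h1 | h1 | h1
    · exact absurd h1 hSE
    · exact Or.inl h1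
    · exact Or.inr (Or.inl h1)
  · right; right
    refine ⟨t, htS, ht, htc, ?_, base_of_closed hH S hSH hr ht htS htc hbad hcyc⟩
    intro x hx hx2 hxc
    by_contra hxt
    exact hcyc ⟨x, hx, hx2, hxt, htc x hx, fun s hs _ => hxc s hs⟩

end Cfsg.Agent.TwoGenCore.GoodMain
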