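import Cfsg.Agent.LieClassical.GUOrder
import Cfsg.Agent.LieClassical.HermBasic
import Mathlib.NumberTheory.LegendreSymbol.QuadraticChar.Basic

/-!
# Connectedness of orthogonal frames in a three dimensional Hermitian space, `q` odd

`P` is a property of vectors which is invariant under scalars and such that if `a`, `b` are orthogonal
of the same non-zero norm and have `P`, then `a + γ b` has `P` for all `γ` of norm one.
If the three basis vectors have `P` then all non-isotropic vectors have `P`.
-/

set_option autoImplicit false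

namespace Cfsg.Agent.TwoGenCore.HermConn

open Cfsg Cfsg.Agent.LieClassical.GUOrder

/-! ### A counting lemma -/

section Count

variable {F : Type*} [Field F] [Fintype F]

/-- Let `A = ε □` be a class of non-zero elements modulo squares not containing `β` and `-1/δ`. Then some
`η ∈ A` has `(β - η) / (1 + δ η) ∈ A`. -/
theorem exists_good (h2 : (2 : F) ≠ 0) {ε β δ : F} (hε : ε ≠ 0) (hβ0 : β ≠ 0)
    (hβ : ¬ IsSquare (β / ε)) (hδ : ∀ η : F, η ≠ 0 → IsSquare (η / ε) → 1 + δ * η ≠ 0)
    (hβδ : 1 + β * δ ≠ 0) :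
    ∃ η : F, η ≠ 0 ∧ IsSquare (η / ε) ∧ (β - η) / (1 + δ * η) ≠ 0 ∧
      IsSquare ((β - η) / (1 + δ * η) / ε) := by
  classical
  by_contra hcon
  push Not at hcon
  let A : Finset F := Finset.univ.filter fun η => η ≠ 0 ∧ IsSquare (η / ε)
  let B : Finset F := Finset.univ.filter fun η => η ≠ 0 ∧ ¬ IsSquare (η / ε)
  have hchar : ringChar F ≠ 2 := by
    intro h
    apply h2
    have := ringChar.spec F 2
    exact_mod_cast (this.2 (by rw [h]))
  have hmul : ∀ a b : F, a ≠ 0 → b ≠ 0 → ¬ IsSquare a → ¬ IsSquare b → IsSquare (a * b) := by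
    intro a b ha hb ha' hb'
    rw [← quadraticChar_neg_one_iff_not_isSquare] at ha' hb'
    have := map_mul (quadraticChar F) a b
    rw [ha', hb'] at this
    rw [← quadraticChar_one_iff_isSquare (mul_ne_zero ha hb), this]
    norm_num
  -- `|B| ≤ |A|`
  have hBA : B.card ≤ A.card := by
    refine Finset.card_le_card_of_injOn (fun η => η * (β / ε)) ?_ ?_
    · intro η hη
      simp only [B, Finset.coe_filter, Finset.mem_univ, true_and, Set.mem_ofPred_eq] at hη
      simp only [A, Finset.coe_filter, Finset.mem_univ, true_and, Set.mem_ofPred_eq]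
      refine ⟨mul_ne_zero hη.1 (div_ne_zero hβ0 hε), ?_⟩
      have : η * (β / ε) / ε = (η / ε) * (β / ε) := by ring
      rw [this]
      exact hmul _ _ (div_ne_zero hη.1 hε) (div_ne_zero hβ0 hε) hη.2 hβ
    · intro a _ b _ hab
      exact mul_right_cancel₀ (div_ne_zero hβ0 hε) hab
  -- `|A| < |B|`
  have hAB : A.card < B.card := by
    have hβB : β ∈ B := by simp [B, hβ0, hβ]
    refine lt_of_le_of_lt (Finset.card_le_card_of_injOn (t := B.erase β)
      (fun η => (β - η) / (1 + δ * η)) ?_ ?_) (Finset.card_erase_lt_of_mem hβB)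
    · intro η hη
      simp only [A, Finset.coe_filter, Finset.mem_univ, true_and, Set.mem_ofPred_eq] at hη
      have hd := hδ η hη.1 hη.2
      have hne : (β - η) / (1 + δ * η) ≠ 0 := by
        refine div_ne_zero ?_ hd
        intro h0
        rw [sub_eq_zero] at h0
        exact hβ (h0 ▸ hη.2)
      have hsq := hcon η hη.1 hη.2 hne
      simp only [Finset.coe_erase, Set.mem_sdiff, Set.mem_singleton_iff, B, Finset.coe_filter,
        Finset.mem_univ, true_and, Set.mem_ofPred_eq]
      refine ⟨⟨hne, hsq⟩, ?_⟩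
      intro h0
      rw [div_eq_iff hd] at h0
      have : η * (1 + β * δ) = 0 := by linear_combination -h0
      rcases mul_eq_zero.1 this with h | h
      · exact hη.1 h
      · exact hβδ h
    · intro a ha b hb hab
      simp only [A, Finset.coe_filter, Finset.mem_univ, true_and, Set.mem_ofPred_eq] at ha hb
      have hda := hδ a ha.1 ha.2
      have hdb := hδ b hb.1 hb.2
      simp only at hab
      rw [div_eq_div_iff hda hdb] at hab
      have : (b - a) * (1 + β * δ) = 0 := by linear_combination hab
      rcases mul_eq_zero.1 this with h | h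
      · exact (sub_eq_zero.1 h).symm
      · exact absurd h hβδ
  omega

end Count

variable {F : Type*} [Field F] [Fintype F] {q : ℕ}

section Conn

variable (hF : Fintype.card F = q ^ 2) (h2 : (2 : F) ≠ 0) {P : (Fin 3 → F) → Prop}
  (hsm : ∀ (c : F) (x : Fin 3 → F), c ≠ 0 → P x → P (c • x))
  (hS : ∀ (a b : Fin 3 → F) (γ : F), hermForm 3 F q a a ≠ 0 → hermForm 3 F q b b = hermForm 3 F q a a → hermForm 3 F q a b = 0 → hermForm 3 F q b a = 0 →
    γ * frob hF γ = 1 → P a → P b → P (a + γ • b))

include h2 hsm hS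

theorem step_two {a b : Fin 3 → F} (ha : hermForm 3 F q a a ≠ 0) (hab : hermForm 3 F q b b = hermForm 3 F q a a) (h0 : hermForm 3 F q a b = 0)
    (h0' : hermForm 3 F q b a = 0) (hPa : P a) (hPb : P b) {γ ρ : F} (hγ : γ * frob hF γ = 1)
    (hρ : frob hF ρ = - ρ) : P (a + (γ * ρ) • b) := by
  have hρ1 : ρ + 1 ≠ 0 := by
    intro hh
    have h3 : ρ = -1 := by linear_combination hh
    rw [h3, map_neg, map_one] at hρ
    apply h2
    linear_combination -hρ
  have hρ2 : - ρ + 1 ≠ 0 := by
    intro hh
    have h3 : ρ = 1 := by linear_combination -hh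
    rw [h3, map_one] at hρ
    apply h2
    linear_combination hρ
  have hγ' : γ ≠ 0 := by
    rintro rfl
    rw [zero_mul] at hγ
    exact zero_ne_one hγ
  have hγ'' : frob hF γ ≠ 0 := by
    intro hh
    rw [hh, mul_zero] at hγ
    exact zero_ne_one hγ
  set κ := (ρ - 1) / (ρ + 1) with hκ
  have hκ1 : κ * frob hF κ = 1 := by
    rw [hκ, map_div₀, map_sub, map_add, map_one, hρ]
    have : (-ρ - 1 : F) = -(ρ + 1) := by ring
    rw [this]
    field_simp
    ring
  -- the pair `a' = a + γ b`, `b' = -γ̄ a + b`
  have ha' : P (a + γ • b) := hS a b γ ha hab h0 h0' hγ hPa hPb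
  have hb' : P (-(frob hF γ) • a + b) := by
    have h5 := hS a b (-γ) ha hab h0 h0' (by rw [map_neg]; linear_combination hγ) hPa hPb
    have h6 := hsm (-(frob hF γ)) _ (neg_ne_zero.2 hγ'') h5
    convert h6 using 1
    rw [smul_add, smul_smul]
    congr 1
    rw [neg_mul_neg, mul_comm, hγ, one_smul]
  have hn : hermForm 3 F q (a + γ • b) (a + γ • b) = 2 * hermForm 3 F q a a := by
    rw [herm_add_left hF, herm_add_right hF, herm_add_right hF, herm_smul_left hF,
      herm_smul_right hF, herm_smul_left hF, herm_smul_right hF, h0, h0', hab]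
    linear_combination (hermForm 3 F q a a) * hγ
  have hn' : hermForm 3 F q (-(frob hF γ) • a + b) (-(frob hF γ) • a + b) = 2 * hermForm 3 F q a a := by
    rw [herm_add_left hF, herm_add_right hF, herm_add_right hF, herm_smul_left hF,
      herm_smul_right hF, herm_smul_left hF, herm_smul_right hF, h0, h0', hab, map_neg,
      frob_frob]
    linear_combination (hermForm 3 F q a a) * hγ
  have ho : hermForm 3 F q (a + γ • b) (-(frob hF γ) • a + b) = 0 := by
    rw [herm_add_left hF, herm_add_right hF, herm_add_right hF,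
      herm_smul_right hF, herm_smul_left hF, herm_smul_right hF, herm_smul_left hF, h0, h0', hab,
      map_neg, frob_frob]
    ring
  have ho' : hermForm 3 F q (-(frob hF γ) • a + b) (a + γ • b) = 0 := by
    rw [← frob_herm hF, ho, map_zero]
  have hfin := hS (a + γ • b) (-(frob hF γ) • a + b) (γ * κ)
    (by rw [hn]; exact mul_ne_zero h2 ha) (by rw [hn, hn']) ho ho'
    (by rw [map_mul]; linear_combination (κ * frob hF κ) * hγ + hκ1) ha' hb'
  have h7 := hsm ((ρ + 1) / 2) _ (div_ne_zero hρ1 h2) hfin
  convert h7 using 1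
  rw [smul_add, smul_smul, smul_add, smul_add, smul_smul, smul_smul]
  have e1 : (ρ + 1) / 2 * (γ * κ) * -(frob hF γ) = - ((ρ - 1) / 2) := by
    rw [hκ]
    field_simp
    linear_combination (-(ρ - 1)) * hγ
  have e2 : (ρ + 1) / 2 * (γ * κ) = γ * ((ρ - 1) / 2) := by
    rw [hκ]
    field_simp
  rw [e1, e2]
  ext i
  simp only [Pi.add_apply, Pi.smul_apply, smul_eq_mul]
  field_simp
  ring

/-- From `a`, `b` to `a + ε x² b` where `ε` has trace zero. -/
theorem step_sq {a b : Fin 3 → F} (ha : hermForm 3 F q a a ≠ 0) (hab : hermForm 3 F q b b = hermForm 3 F q a a) (h0 : hermForm 3 F q a b = 0)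
    (h0' : hermForm 3 F q b a = 0) (hPa : P a) (hPb : P b) {ε : F} (hε : frob hF ε = - ε) (x : F) :
    P (a + (ε * x ^ 2) • b) := by
  by_cases hx : x = 0
  · subst hx
    have := step_two hF h2 hsm hS ha hab h0 h0' hPa hPb (γ := 1) (ρ := 0) (by simp) (by simp)
    simpa using this
  have hx' : frob hF x ≠ 0 := by
    intro hh
    exact hx (by rw [← frob_frob hF x, hh, map_zero])
  have := step_two hF h2 hsm hS ha hab h0 h0' hPa hPb (γ := x / frob hF x)
    (ρ := ε * (x * frob hF x)) (by rw [map_div₀, frob_frob]; field_simp)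
    (by rw [map_mul, map_mul, frob_frob, hε]; ring)
  convert this using 3
  field_simp

theorem plane (hq : Odd q) {a b : Fin 3 → F} (ha : hermForm 3 F q a a ≠ 0) (hab : hermForm 3 F q b b = hermForm 3 F q a a)
    (h0 : hermForm 3 F q a b = 0) (h0' : hermForm 3 F q b a = 0) (hPa : P a) (hPb : P b) {β : F}
    (hβ : 1 + β * frob hF β ≠ 0) : P (a + β • b) := by
  classical
  -- an element of trace zero
  obtain ⟨ε, hε0, hε⟩ : ∃ ε : F, ε ≠ 0 ∧ frob hF ε = - ε := by
    obtain ⟨c, hc, hc1⟩ := Cfsg.Agent.LieClassical.GUOrder.exists_norm_one hF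
    by_cases hcm : c = -1
    · -- some element with `θ^q ≠ θ`
      by_contra hcon
      push Not at hcon
      have hall : ∀ θ : F, frob hF θ = θ := by
        intro θ
        by_contra hθ
        refine hcon (θ - frob hF θ) (fun hh => hθ (sub_eq_zero.1 hh).symm) ?_
        rw [map_sub, frob_frob]
        ring
      have hq2 := two_le hF
      have hpoly : ∀ θ : F, θ ∈ (Polynomial.X ^ q - Polynomial.X : Polynomial F).roots := by
        intro θ
        rw [Polynomial.mem_roots (FiniteField.X_pow_card_sub_X_ne_zero F hq2)]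
        simp only [Polynomial.IsRoot, Polynomial.eval_sub, Polynomial.eval_pow,
          Polynomial.eval_X]
        rw [sub_eq_zero]
        exact hall θ
      have h3 : Fintype.card F ≤ q := by
        have h4 : (Finset.univ : Finset F) ⊆
            (Polynomial.X ^ q - Polynomial.X : Polynomial F).roots.toFinset := by
          intro θ _
          rw [Multiset.mem_toFinset]
          exact hpoly θ
        calc Fintype.card F = (Finset.univ : Finset F).card := rfl
          _ ≤ _ := Finset.card_le_card h4
          _ ≤ _ := Multiset.toFinset_card_le _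
          _ ≤ _ := Polynomial.card_roots' _
          _ = q := FiniteField.X_pow_card_sub_X_natDegree_eq F hq2
      rw [hF] at h3
      nlinarith
    · have hc' : c * frob hF c = 1 := by rw [frob_apply, ← pow_succ']; exact hc
      have hc1' : 1 + c ≠ 0 := by
        intro hh
        exact hcm (by linear_combination hh)
      have hcf : frob hF c ≠ 0 := by
        intro hh
        rw [hh, mul_zero] at hc'
        exact zero_ne_one hc'
      have hfc1 : 1 + frob hF c ≠ 0 := by
        intro hh
        apply hc1'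
        have := congrArg (frob hF) hh
        rw [map_add, map_one, frob_frob, map_zero] at this
        exact this
      refine ⟨(1 - c) / (1 + c), div_ne_zero (sub_ne_zero.2 (Ne.symm hc1)) hc1', ?_⟩
      rw [map_div₀, map_sub, map_add, map_one, ← neg_div, div_eq_div_iff hfc1 hc1']
      linear_combination (-2 : F) * hc'
  -- the case `β ∈ ε □`
  by_cases hsq : IsSquare (β / ε)
  · obtain ⟨x, hx⟩ := hsq
    have := step_sq hF h2 hsm hS ha hab h0 h0' hPa hPb hε x
    convert this using 3
    rw [pow_two, ← hx]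
    field_simp
  have hβ0 : β ≠ 0 := by
    rintro rfl
    apply hsq
    rw [zero_div]
    exact IsSquare.zero
  have hfβ0 : frob hF β ≠ 0 := by
    intro hh
    exact hβ0 (by rw [← frob_frob hF β, hh, map_zero])
  have hfrobne : ∀ x : F, x ≠ 0 → frob hF x ≠ 0 := by
    intro x hx hh
    exact hx (by rw [← frob_frob hF x, hh, map_zero])
  obtain ⟨η, hη0, hη, hζ0, hζ⟩ := exists_good h2 (δ := frob hF β) hε0 hβ0 hsq (by
    intro η hη0 hη hh
    apply hsq
    obtain ⟨x, hx⟩ := hη
    have hx0 : x ≠ 0 := by
      rintro rfl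
      rw [mul_zero, div_eq_zero_iff] at hx
      tauto
    have hηx : η = ε * (x * x) := by rw [← hx]; field_simp
    have h3 := congrArg (frob hF) hh
    rw [map_add, map_mul, frob_frob, map_one, map_zero, hηx, map_mul, map_mul, hε] at h3
    -- `1 - β ε x̄² = 0`
    have hfx := hfrobne x hx0
    refine ⟨1 / (ε * frob hF x), ?_⟩
    rw [div_eq_iff hε0]
    field_simp
    linear_combination -h3) hβ
  -- `η = ε x²`
  obtain ⟨x, hx⟩ := hη
  have hηx : η = ε * x ^ 2 := by rw [pow_two, ← hx]; field_simp
  obtain ⟨z, hz⟩ := hζ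
  have hN : 1 + η * frob hF η ≠ 0 := by
    intro hh
    have h3 : (ε * (x * frob hF x)) ^ 2 = 1 := by
      rw [hηx, map_mul, map_pow, hε] at hh
      linear_combination -hh
    have h4 : frob hF (ε * (x * frob hF x)) = - (ε * (x * frob hF x)) := by
      rw [map_mul, map_mul, frob_frob, hε]; ring
    rcases mul_self_eq_one_iff.1 ((pow_two _).symm.trans h3) with h5 | h5
    all_goals
      rw [h5] at h4
      simp only [map_one, map_neg] at h4
      apply h2
      first
        | linear_combination h4
        | linear_combination -h4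
  have hηb : frob hF η = - (ε * (frob hF x) ^ 2) := by
    rw [hηx, map_mul, map_pow, hε]; ring
  have hPu : P (a + η • b) := by
    have := step_sq hF h2 hsm hS ha hab h0 h0' hPa hPb hε x
    rwa [← hηx] at this
  have hPu' : P (-(frob hF η) • a + b) := by
    have := step_sq hF h2 hsm hS (a := b) (b := a) (by rw [hab]; exact ha) hab.symm h0' h0 hPb hPa
      hε (frob hF x)
    rw [hηb, neg_neg, add_comm]
    exact this
  have hn : hermForm 3 F q (a + η • b) (a + η • b) = (1 + η * frob hF η) * hermForm 3 F q a a := by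
    rw [herm_add_left hF, herm_add_right hF, herm_add_right hF, herm_smul_left hF,
      herm_smul_right hF, herm_smul_left hF, herm_smul_right hF, h0, h0', hab]
    ring
  have hn' : hermForm 3 F q (-(frob hF η) • a + b) (-(frob hF η) • a + b) =
      (1 + η * frob hF η) * hermForm 3 F q a a := by
    rw [herm_add_left hF, herm_add_right hF, herm_add_right hF, herm_smul_left hF,
      herm_smul_right hF, herm_smul_left hF, herm_smul_right hF, h0, h0', hab, map_neg,
      frob_frob]
    ring
  have ho : hermForm 3 F q (a + η • b) (-(frob hF η) • a + b) = 0 := by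
    rw [herm_add_left hF, herm_add_right hF, herm_add_right hF,
      herm_smul_right hF, herm_smul_left hF, herm_smul_right hF, herm_smul_left hF, h0, h0', hab,
      map_neg, frob_frob]
    ring
  have ho' : hermForm 3 F q (-(frob hF η) • a + b) (a + η • b) = 0 := by
    rw [← frob_herm hF, ho, map_zero]
  -- `y = 1 + β̄ η`
  obtain ⟨k, hk⟩ := hq
  set y := 1 + frob hF β * η with hy
  have hfy : frob hF y = 1 + β * frob hF η := by
    rw [hy, map_add, map_mul, map_one, frob_frob]
  have hy0 : y ≠ 0 := by
    intro hh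
    rw [hh, div_zero] at hζ0
    exact hζ0 rfl
  have hfy0 : frob hF y ≠ 0 := hfrobne y hy0
  have hyy : y * frob hF y = (y ^ (k + 1)) ^ 2 := by
    rw [frob_apply, hk]; ring
  have hzz : β - η = ε * (z * z) * y := by
    rw [← hz]
    field_simp
  have hfin := step_sq hF h2 hsm hS (by rw [hn]; exact mul_ne_zero hN ha) (by rw [hn, hn']) ho ho'
    hPu hPu' hε (z * y / y ^ (k + 1))
  have hβ' : ε * (z * y / y ^ (k + 1)) ^ 2 = (β - η) / (1 + β * frob hF η) := by
    rw [← hfy, hzz, div_pow, ← hyy]
    field_simp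
  rw [hβ', ← hfy] at hfin
  have h7 := hsm ((frob hF y) / (1 + η * frob hF η)) _ (div_ne_zero hfy0 hN) hfin
  convert h7 using 1
  ext i
  simp only [Pi.add_apply, Pi.smul_apply, smul_eq_mul]
  rw [div_mul_eq_mul_div, eq_div_iff hN]
  field_simp
  rw [hfy]
  ring

theorem plane_all (hq : Odd q) {a b : Fin 3 → F} (ha : hermForm 3 F q a a ≠ 0)
    (hab : hermForm 3 F q b b = hermForm 3 F q a a)
    (h0 : hermForm 3 F q a b = 0) (h0' : hermForm 3 F q b a = 0) (hPa : P a) (hPb : P b) {α β : F}
    (hβ : α * frob hF α + β * frob hF β ≠ 0) : P (α • a + β • b) := by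
  by_cases hα : α = 0
  · subst hα
    rw [zero_mul, zero_add] at hβ
    rw [zero_smul, zero_add]
    exact hsm _ _ (left_ne_zero_of_mul hβ) hPb
  · have hα' : frob hF α ≠ 0 := by
      intro hh
      exact hα (by rw [← frob_frob hF α, hh, map_zero])
    have h1 := plane hF h2 hsm hS hq ha hab h0 h0' hPa hPb (β := β / α) (by
      intro hh
      apply hβ
      rw [map_div₀] at hh
      field_simp at hh
      linear_combination hh)
    have h3 := hsm α _ hα h1
    convert h3 using 1
    rw [smul_add, smul_smul, mul_div_cancel₀ _ hα]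

theorem space {a b c : Fin 3 → F} (hq : Odd q) (ha : hermForm 3 F q a a = 1)
    (hb : hermForm 3 F q b b = 1) (hc : hermForm 3 F q c c = 1)
    (hab : hermForm 3 F q a b = 0) (hac : hermForm 3 F q a c = 0) (hbc : hermForm 3 F q b c = 0)
    (hPa : P a) (hPb : P b) (hPc : P c) {α β γ : F}
    (h1 : α * frob hF α + β * frob hF β ≠ 0)
    (h3 : α * frob hF α + β * frob hF β + γ * frob hF γ ≠ 0) :
    P (α • a + β • b + γ • c) := by
  have hba : hermForm 3 F q b a = 0 := by rw [← frob_herm hF, hab, map_zero]
  have hca : hermForm 3 F q c a = 0 := by rw [← frob_herm hF, hac, map_zero]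
  have hcb : hermForm 3 F q c b = 0 := by rw [← frob_herm hF, hbc, map_zero]
  have hw := plane_all hF h2 hsm hS hq (by rw [ha]; exact one_ne_zero) (by rw [ha, hb]) hab hba
    hPa hPb h1
  set m := α * frob hF α + β * frob hF β with hm
  have hmf : m ^ q = m := by
    rw [← frob_apply hF, hm, map_add, map_mul, map_mul, frob_frob, frob_frob]
    ring
  obtain ⟨μ, hμ0, hμ⟩ := Cfsg.Agent.LieClassical.HermBasic.exists_norm_eq_ne hF hmf h1
  have hμ' : frob hF μ ≠ 0 := by
    intro hh
    exact hμ0 (by rw [← frob_frob hF μ, hh, map_zero])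
  rw [← frob_apply hF] at hμ
  have hww : hermForm 3 F q (α • a + β • b) (α • a + β • b) = m := by
    rw [herm_add_left hF, herm_add_right hF, herm_add_right hF, herm_smul_left hF,
      herm_smul_right hF, herm_smul_left hF, herm_smul_right hF, herm_smul_left hF,
      herm_smul_right hF, herm_smul_left hF, herm_smul_right hF, ha, hb, hab, hba]
    ring
  have hwc : hermForm 3 F q (α • a + β • b) c = 0 := by
    rw [herm_add_left hF, herm_smul_left hF, herm_smul_left hF, hac, hbc]
    ring
  have hw1 : hermForm 3 F q (μ⁻¹ • (α • a + β • b)) (μ⁻¹ • (α • a + β • b)) = 1 := by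
    rw [herm_smul_left hF, herm_smul_right hF, hww, ← hμ, map_inv₀]
    field_simp
  have hw1c : hermForm 3 F q (μ⁻¹ • (α • a + β • b)) c = 0 := by
    rw [herm_smul_left hF, hwc, mul_zero]
  have hcw1 : hermForm 3 F q c (μ⁻¹ • (α • a + β • b)) = 0 := by
    rw [← frob_herm hF, hw1c, map_zero]
  have := plane_all hF h2 hsm hS hq (a := μ⁻¹ • (α • a + β • b)) (b := c) (α := μ) (β := γ)
    (by rw [hw1]; exact one_ne_zero) (by rw [hw1, hc]) hw1c hcw1 (hsm _ _ (inv_ne_zero hμ0) hw)
    hPc (by rw [hμ]; exact h3)
  rwa [smul_smul, mul_inv_cancel₀ hμ0, one_smul] at this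

/-- All non-isotropic vectors of `F³` have `P`. -/
theorem all (hq : Odd q) (h0 : P (Pi.single 0 1)) (h1 : P (Pi.single 1 1))
    (h3 : P (Pi.single 2 1)) {x : Fin 3 → F} (hx : hermForm 3 F q x x ≠ 0) : P x := by
  have hq0 : q ≠ 0 := by
    have := two_le hF
    omega
  have hxx : hermForm 3 F q x x = x 0 * frob hF (x 0) + x 1 * frob hF (x 1) +
      x 2 * frob hF (x 2) := by
    rw [herm_eq hF, Fin.sum_univ_three]
  have hs : ∀ i j : Fin 3, hermForm 3 F q (Pi.single i 1) (Pi.single j 1) =
      if i = j then (1 : F) else 0 := by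
    intro i j
    rw [herm_eq hF]
    fin_cases i <;> fin_cases j <;> simp [Pi.single_apply]
  have key : x 0 * frob hF (x 0) + x 1 * frob hF (x 1) ≠ 0 ∨
      x 1 * frob hF (x 1) + x 2 * frob hF (x 2) ≠ 0 ∨
      x 0 * frob hF (x 0) + x 2 * frob hF (x 2) ≠ 0 := by
    by_contra hcon
    push Not at hcon
    obtain ⟨e1, e2, e3⟩ := hcon
    apply hx
    rw [hxx]
    have h4 : (2 : F) * (x 0 * frob hF (x 0) + x 1 * frob hF (x 1) + x 2 * frob hF (x 2)) = 0 := by
      linear_combination e1 + e2 + e3
    exact (mul_eq_zero.1 h4).resolve_left h2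
  rcases key with hk | hk | hk
  · have := space hF h2 hsm hS hq (a := Pi.single 0 1) (b := Pi.single 1 1) (c := Pi.single 2 1)
      (α := x 0) (β := x 1) (γ := x 2) (by rw [hs]; rfl) (by rw [hs]; rfl) (by rw [hs]; rfl)
      (by rw [hs]; rfl) (by rw [hs]; rfl) (by rw [hs]; rfl) h0 h1 h3 hk
      (by rw [← hxx]; exact hx)
    convert this using 1
    ext i
    fin_cases i <;> simp
  · have := space hF h2 hsm hS hq (a := Pi.single 1 1) (b := Pi.single 2 1) (c := Pi.single 0 1)
      (α := x 1) (β := x 2) (γ := x 0) (by rw [hs]; rfl) (by rw [hs]; rfl) (by rw [hs]; rfl)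
      (by rw [hs]; rfl) (by rw [hs]; rfl) (by rw [hs]; rfl) h1 h3 h0 hk
      (by intro hh; apply hx; rw [hxx]; linear_combination hh)
    convert this using 1
    ext i
    fin_cases i <;> simp
  · have := space hF h2 hsm hS hq (a := Pi.single 0 1) (b := Pi.single 2 1) (c := Pi.single 1 1)
      (α := x 0) (β := x 2) (γ := x 1) (by rw [hs]; rfl) (by rw [hs]; rfl) (by rw [hs]; rfl)
      (by rw [hs]; rfl) (by rw [hs]; rfl) (by rw [hs]; rfl) h0 h3 h1 hk
      (by intro hh; apply hx; rw [hxx]; linear_combination hh)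
    convert this using 1
    ext i
    fin_cases i <;> simp

end Conn

end Cfsg.Agent.TwoGenCore.HermConn
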