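import Mathlib

/-!
# The core of an involution centralizer in a simple group of order 175560

If `G` is simple of order `175560`, `t` an involution and `f : C_G(t) → Z₂ × A₅` is a surjective
homomorphism with kernel of odd order, then `f` is injective.
-/

set_option autoImplicit false

open scoped commutatorElement

namespace Cfsg.Agent.TwoGenCore.JOneEnd

abbrev Q : Type := Multiplicative (ZMod 2) × alternatingGroup (Fin 5)

theorem card_Q : Nat.card Q = 120 := by
  rw [Nat.card_prod]
  have h1 : Nat.card (Multiplicative (ZMod 2)) = 2 := by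
    rw [Nat.card_eq_fintype_card]; rfl
  have h2 : Nat.card (alternatingGroup (Fin 5)) = 60 := by
    rw [Nat.card_eq_fintype_card]
    have := two_mul_card_alternatingGroup (α := Fin 5)
    rw [Fintype.card_perm] at this
    have h3 : (Fintype.card (Fin 5)).factorial = 120 := by decide
    omega
  rw [h1, h2]

instance : IsSimpleGroup (alternatingGroup (Fin 5)) := alternatingGroup.isSimpleGroup (by simp)

theorem noncomm (h : ∀ a b : alternatingGroup (Fin 5), a * b = b * a) : False := by
  have m1 : (Equiv.swap 0 1 * Equiv.swap 1 2 : Equiv.Perm (Fin 5)) ∈ alternatingGroup (Fin 5) :=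
    Equiv.Perm.mem_alternatingGroup.mpr (by decide)
  have m2 : (Equiv.swap 0 1 * Equiv.swap 1 3 : Equiv.Perm (Fin 5)) ∈ alternatingGroup (Fin 5) :=
    Equiv.Perm.mem_alternatingGroup.mpr (by decide)
  have h1 := congrArg Subtype.val (h ⟨_, m1⟩ ⟨_, m2⟩)
  have h2 : (Equiv.swap 0 1 * Equiv.swap 1 2 * (Equiv.swap 0 1 * Equiv.swap 1 3) :
      Equiv.Perm (Fin 5)) = Equiv.swap 0 1 * Equiv.swap 1 3 * (Equiv.swap 0 1 * Equiv.swap 1 2) := h1
  revert h2
  decide

theorem commutator_A5 : commutator (alternatingGroup (Fin 5)) = ⊤ := by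
  rcases (inferInstance : (commutator (alternatingGroup (Fin 5))).Normal).eq_bot_or_eq_top with
    h | h
  · exfalso
    have hc : ∀ a b : alternatingGroup (Fin 5), a * b = b * a := by
      intro a b
      have h1 : ⁅a, b⁆ ∈ commutator (alternatingGroup (Fin 5)) :=
        Subgroup.commutator_mem_commutator (Subgroup.mem_top a) (Subgroup.mem_top b)
      rw [h, Subgroup.mem_bot] at h1
      exact commutatorElement_eq_one_iff_mul_comm.mp h1
    exact noncomm hc
  · exact h

theorem center_A5 (x : alternatingGroup (Fin 5)) (hx : ∀ y, x * y = y * x) : x = 1 := by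
  have h1 : x ∈ Subgroup.center (alternatingGroup (Fin 5)) :=
    Subgroup.mem_center_iff.mpr fun y => (hx y).symm
  rcases (inferInstance : (Subgroup.center (alternatingGroup (Fin 5))).Normal).eq_bot_or_eq_top
    with h | h
  · rw [h, Subgroup.mem_bot] at h1; exact h1
  · exfalso
    have h3 : ∀ a b : alternatingGroup (Fin 5), a * b = b * a := by
      intro a b
      have : b ∈ Subgroup.center (alternatingGroup (Fin 5)) := by rw [h]; trivial
      exact Subgroup.mem_center_iff.mp this a
    exact noncomm h3

theorem eq_top_of_mem {W : Subgroup Q} (hW : commutator Q ≤ W) {z : Q} (hz : z ∈ W) (hz1 : z ≠ 1)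
    (hzc : ∀ y, z * y = y * z) : W = ⊤ := by
  rw [eq_top_iff]
  rintro ⟨b, y⟩ -
  have h1 : ((1 : Multiplicative (ZMod 2)), y) ∈ W := by
    apply hW
    have h2 : y ∈ commutator (alternatingGroup (Fin 5)) := by rw [commutator_A5]; trivial
    have h3 : (commutator (alternatingGroup (Fin 5))).map
        (MonoidHom.inr (Multiplicative (ZMod 2)) (alternatingGroup (Fin 5))) ≤ commutator Q := by
      rw [commutator_def, commutator_def, Subgroup.map_commutator]
      exact Subgroup.commutator_mono le_top le_top
    exact h3 ⟨y, h2, rfl⟩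
  have h2 : z.2 = 1 := center_A5 z.2 fun y => congrArg Prod.snd (hzc (1, y))
  have h3 : z.1 ≠ 1 := by
    intro h; exact hz1 (Prod.ext h h2)
  have h4 : ((b, 1) : Q) ∈ W := by
    by_cases hb : b = 1
    · rw [hb]; exact W.one_mem
    · have h5 : b = z.1 := by
        have : ∀ a c : Multiplicative (ZMod 2), a ≠ 1 → c ≠ 1 → a = c := by decide
        exact this b z.1 hb h3
      have h6 : ((b, 1) : Q) = z := Prod.ext h5 h2.symm
      rw [h6]; exact hz
  have := W.mul_mem h4 h1
  simpa using this

section

variable {G : Type*} [Group G] [Finite G] [IsSimpleGroup G]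

/-- Burnside: in a simple group whose order is not `p`, a Sylow `p`-subgroup `P ≠ 1` does not
satisfy `N(P) ≤ C(P)`. -/
theorem not_normalizer_le {p : ℕ} [Fact p.Prime] (P : Sylow p G) (hP : (P : Subgroup G) ≠ ⊥)
    (hPt : (P : Subgroup G) ≠ ⊤)
    (h : Subgroup.normalizer ((P : Subgroup G) : Set G) ≤
      Subgroup.centralizer ((P : Subgroup G) : Set G)) : False := by
  have hc := MonoidHom.ker_transferSylow_isComplement' P h
  rcases (inferInstance : (MonoidHom.transferSylow P h).ker.Normal).eq_bot_or_eq_top with h1 | h1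
  · rw [h1] at hc
    exact hPt (Subgroup.isComplement'_bot_left.mp hc)
  · rw [h1] at hc
    exact hP (Subgroup.isComplement'_top_left.mp hc)

/-- `|N(P) : C(P)|` divides `p - 1` if `|P| = p`. -/
theorem relIndex_dvd {H : Type*} [Group H] [Finite H] {p : ℕ} [Fact p.Prime] {P : Subgroup H}
    (hP : Nat.card P = p) :
    (Subgroup.centralizer (P : Set H)).relIndex (Subgroup.normalizer (P : Set H)) ∣ p - 1 := by
  have hcyc : IsCyclic P := isCyclic_of_prime_card hP
  have h1 : Nat.card (MulAut P) = p - 1 := by
    rw [hcyc.card_mulAut, hP, Nat.totient_prime Fact.out]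
  have h2 : (Subgroup.centralizer (P : Set H)).subgroupOf (Subgroup.normalizer (P : Set H)) =
      P.normalizerMonoidHom.ker := (Subgroup.normalizerMonoidHom_ker P).symm
  rw [Subgroup.relIndex, h2, Subgroup.index_ker, ← h1]
  exact Subgroup.card_subgroup_dvd_card _

theorem injective (hcard : Nat.card G = 175560) {t : G} (ht : t ≠ 1) {C : Subgroup G}
    (htC : t ∈ C) (htcen : ∀ y ∈ C, y * t = t * y)
    (f : C →* Q) (hf : Function.Surjective f)
    (hodd : Odd (Nat.card f.ker)) (ht2 : t * t = 1) : Function.Injective f := by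
  classical
  rw [← MonoidHom.ker_eq_bot_iff]
  by_contra hne
  -- orders
  have hcC : Nat.card f.ker * 120 = Nat.card C := by
    have h1 := Subgroup.card_mul_index f.ker
    rw [Subgroup.index_ker, MonoidHom.range_eq_top.mpr hf, Subgroup.card_top, card_Q] at h1
    exact h1
  have hCG : Nat.card C ∣ 175560 := by rw [← hcard]; exact Subgroup.card_subgroup_dvd_card C
  have hker : Nat.card f.ker ∣ 1463 := by
    have : Nat.card f.ker * 120 ∣ 1463 * 120 := by rw [hcC]; exact hCG
    exact Nat.dvd_of_mul_dvd_mul_right (by norm_num) this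
  have hker1 : Nat.card f.ker ≠ 1 := by
    intro h
    exact hne (Subgroup.card_eq_one.mp h)
  obtain ⟨p, hp, hpk⟩ := Nat.exists_prime_and_dvd hker1
  have hfact : Fact p.Prime := ⟨hp⟩
  have hp3 : p = 7 ∨ p = 11 ∨ p = 19 := by
    have h1 : p ∣ 7 * 11 * 19 := hpk.trans (by norm_num at hker ⊢; exact hker)
    rcases (Nat.Prime.dvd_mul hp).mp h1 with h | h
    · rcases (Nat.Prime.dvd_mul hp).mp h with h | h
      · left; exact (Nat.prime_dvd_prime_iff_eq hp (by norm_num)).mp h
      · right; left; exact (Nat.prime_dvd_prime_iff_eq hp (by norm_num)).mp h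
    · right; right; exact (Nat.prime_dvd_prime_iff_eq hp (by norm_num)).mp h
  -- Sylow `p`-subgroup of the kernel
  obtain ⟨P₀⟩ : Nonempty (Sylow p f.ker) := inferInstance
  set P₁ : Subgroup C := (P₀ : Subgroup f.ker).map f.ker.subtype with hP₁
  set P : Subgroup G := P₁.map C.subtype with hP
  have hP₁card : Nat.card P₁ = p := by
    rw [hP₁, Subgroup.card_map_of_injective f.ker.subtype_injective, P₀.card_eq_multiplicity]
    have h1 : (Nat.card f.ker).factorization p = 1 := by
      apply le_antisymm
      · have h2 : (Nat.card f.ker).factorization p ≤ (1463 : ℕ).factorization p :=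
          (Nat.factorization_le_iff_dvd Nat.card_pos.ne' (by norm_num)).mpr hker p
        have h3 : Squarefree (1463 : ℕ) := by
          rw [show (1463 : ℕ) = 7 * (11 * 19) by norm_num, Nat.squarefree_mul (by norm_num)]
          refine ⟨(by norm_num : Nat.Prime 7).squarefree, ?_⟩
          rw [Nat.squarefree_mul (by norm_num)]
          exact ⟨(by norm_num : Nat.Prime 11).squarefree, (by norm_num : Nat.Prime 19).squarefree⟩
        exact h2.trans (h3.natFactorization_le_one p)
      · exact (hp.dvd_iff_one_le_factorization Nat.card_pos.ne').mp hpk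
    rw [h1, pow_one]
  have hPcard : Nat.card P = p := by
    rw [hP, Subgroup.card_map_of_injective C.subtype_injective, hP₁card]
  have hP₁ker : P₁ ≤ f.ker := Subgroup.map_subtype_le _
  -- the centralizer of `P₁` in `C` maps onto `Q`
  set D : Subgroup C := Subgroup.centralizer (P₁ : Set C) with hD
  set N : Subgroup C := Subgroup.normalizer (P₁ : Set C) with hN
  have hNtop : N.map f = ⊤ := by
    have h1 : N ⊔ f.ker = ⊤ := Sylow.normalizer_sup_eq_top P₀
    have h2 : (N ⊔ f.ker).map f = ⊤ := by
      rw [h1, ← MonoidHom.range_eq_map, MonoidHom.range_eq_top.mpr hf]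
    rw [Subgroup.map_sup, (Subgroup.map_eq_bot_iff f.ker).mpr le_rfl, sup_bot_eq] at h2
    exact h2
  have hcyc : IsCyclic P₁ := isCyclic_of_prime_card hP₁card
  have hcommD : ∀ a ∈ N, ∀ b ∈ N, ⁅a, b⁆ ∈ D := by
    intro a ha b hb
    let φ := P₁.normalizerMonoidHom
    have hcomm : ∀ u v : MulAut P₁, u * v = v * u := by
      intro u v
      have e := hcyc.mulAutMulEquiv P₁
      apply e.injective
      rw [map_mul, map_mul, mul_comm]
    have h1 : φ (⁅(⟨a, ha⟩ : N), ⟨b, hb⟩⁆) = 1 := by
      rw [map_commutatorElement]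
      exact commutatorElement_eq_one_iff_mul_comm.mpr (hcomm _ _)
    have h2 : (⁅(⟨a, ha⟩ : N), ⟨b, hb⟩⁆) ∈ φ.ker := h1
    rw [Subgroup.normalizerMonoidHom_ker] at h2
    exact Subgroup.mem_subgroupOf.mp h2
  have hDtop : D.map f = ⊤ := by
    have htc : ∀ y : C, (⟨t, htC⟩ : C) * y = y * ⟨t, htC⟩ := by
      intro y
      apply Subtype.ext
      exact (htcen y y.2).symm
    refine eq_top_of_mem (z := f ⟨t, htC⟩) ?_ ?_ ?_ ?_
    · rw [commutator_def, Subgroup.commutator_le]
      intro x _ y _
      have hx : x ∈ N.map f := by rw [hNtop]; trivial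
      have hy : y ∈ N.map f := by rw [hNtop]; trivial
      obtain ⟨a, ha, rfl⟩ := hx
      obtain ⟨b, hb, rfl⟩ := hy
      rw [← map_commutatorElement]
      exact ⟨_, hcommD a ha b hb, rfl⟩
    · refine ⟨⟨t, htC⟩, ?_, rfl⟩
      rw [SetLike.mem_coe, hD, Subgroup.mem_centralizer_iff]
      intro y _
      exact (htc y).symm
    · intro h
      have h1 : (⟨t, htC⟩ : C) ∈ f.ker := h
      have h2 : orderOf (⟨⟨t, htC⟩, h1⟩ : f.ker) = 2 := by
        apply orderOf_eq_prime
        · apply Subtype.ext; apply Subtype.ext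
          show t ^ 2 = 1
          rw [pow_two, ht2]
        · intro h3
          exact ht (congrArg (fun x : f.ker => ((x : C) : G)) h3)
      have h3 : 2 ∣ Nat.card f.ker := by
        have h4 := orderOf_dvd_natCard (⟨⟨t, htC⟩, h1⟩ : f.ker)
        rwa [h2] at h4
      exact (Nat.not_even_iff_odd.mpr hodd) (even_iff_two_dvd.mpr h3)
    · intro y
      obtain ⟨x, rfl⟩ := hf y
      rw [← map_mul, ← map_mul, htc]
  -- so `120 p` divides `|D|`
  have hDcard : 120 * p ∣ Nat.card D := by
    let g : D →* Q := f.comp D.subtype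
    have hg : g.range = ⊤ := by
      rw [MonoidHom.range_comp, Subgroup.range_subtype]; exact hDtop
    have h1 := Subgroup.card_mul_index g.ker
    rw [Subgroup.index_ker, hg, Subgroup.card_top, card_Q] at h1
    have hP₁D : P₁ ≤ D := by
      intro x hx
      rw [hD, Subgroup.mem_centralizer_iff]
      intro y hy
      exact congrArg Subtype.val
        ((IsCyclic.commGroup (α := P₁)).mul_comm (⟨y, hy⟩ : P₁) (⟨x, hx⟩ : P₁))
    have h2 : p ∣ Nat.card g.ker := by
      have h3 : P₁.subgroupOf D ≤ g.ker := by
        intro x hx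
        exact hP₁ker (Subgroup.mem_subgroupOf.mp hx)
      have h4 : Nat.card (P₁.subgroupOf D) = p := by
        rw [Nat.card_congr (Subgroup.subgroupOfEquivOfLe hP₁D).toEquiv, hP₁card]
      rw [← h4]
      exact Subgroup.card_dvd_of_le h3
    rw [← h1, mul_comm]
    exact Nat.mul_dvd_mul h2 dvd_rfl
  -- the centralizer of `P` in `G`
  have hCP : 120 * p ∣ Nat.card (Subgroup.centralizer (P : Set G)) := by
    refine hDcard.trans ?_
    have h1 : D.map C.subtype ≤ Subgroup.centralizer (P : Set G) := by
      rintro _ ⟨x, hx, rfl⟩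
      rw [Subgroup.mem_centralizer_iff]
      rintro _ ⟨y, hy, rfl⟩
      have := (Subgroup.mem_centralizer_iff.mp hx) y hy
      exact congrArg Subtype.val this
    have h2 := Subgroup.card_dvd_of_le h1
    rwa [Subgroup.card_map_of_injective C.subtype_injective] at h2
  -- `P` is a Sylow subgroup of `G`
  have hfacG : (Nat.card G).factorization p = 1 := by
    rw [hcard]
    rcases hp3 with rfl | rfl | rfl
    · rw [show (175560 : ℕ) = 7 ^ 1 * 25080 by norm_num,
        Nat.factorization_mul (by norm_num) (by norm_num), Nat.Prime.factorization_pow (by norm_num)]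
      simp [Nat.factorization_eq_zero_of_not_dvd (show ¬ 7 ∣ 25080 by norm_num)]
    · rw [show (175560 : ℕ) = 11 ^ 1 * 15960 by norm_num,
        Nat.factorization_mul (by norm_num) (by norm_num), Nat.Prime.factorization_pow (by norm_num)]
      simp [Nat.factorization_eq_zero_of_not_dvd (show ¬ 11 ∣ 15960 by norm_num)]
    · rw [show (175560 : ℕ) = 19 ^ 1 * 9240 by norm_num,
        Nat.factorization_mul (by norm_num) (by norm_num), Nat.Prime.factorization_pow (by norm_num)]
      simp [Nat.factorization_eq_zero_of_not_dvd (show ¬ 19 ∣ 9240 by norm_num)]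
  let PS : Sylow p G := Sylow.ofCard P (by rw [hPcard, hfacG, pow_one])
  have hPS : (PS : Subgroup G) = P := rfl
  refine not_normalizer_le PS ?_ ?_ ?_
  · rw [hPS]
    intro h
    rw [h, Subgroup.card_bot] at hPcard
    exact hp.one_lt.ne hPcard
  · rw [hPS]
    intro h
    rw [h, Subgroup.card_top, hcard] at hPcard
    rcases hp3 with rfl | rfl | rfl <;> norm_num at hPcard
  · rw [hPS]
    -- the index divides `gcd (p - 1) (1463 / p) = 1`
    have h1 := relIndex_dvd (P := P) hPcard
    have hle : Subgroup.centralizer (P : Set G) ≤ Subgroup.normalizer (P : Set G) := by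
      intro x hx
      rw [Subgroup.mem_normalizer_iff]
      intro y
      constructor
      · intro hy
        have := Subgroup.mem_centralizer_iff.mp hx y hy
        have e : x * y * x⁻¹ = y := by rw [← this]; group
        rwa [e]
      · intro hy
        have := Subgroup.mem_centralizer_iff.mp hx _ hy
        have e : x * y * x⁻¹ = y := by
          have h2 : x * y = x * (x * y * x⁻¹) := by rw [← this]; group
          exact (mul_left_cancel h2).symm
        rwa [e] at hy
    have h2 : Nat.card (Subgroup.centralizer (P : Set G)) *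
        (Subgroup.centralizer (P : Set G)).relIndex (Subgroup.normalizer (P : Set G)) =
        Nat.card (Subgroup.normalizer (P : Set G)) := by
      rw [Subgroup.relIndex, ← Subgroup.card_mul_index ((Subgroup.centralizer (P : Set G)).subgroupOf
        (Subgroup.normalizer (P : Set G)))]
      congr 1
      exact (Nat.card_congr (Subgroup.subgroupOfEquivOfLe hle).toEquiv).symm
    have h3 : Nat.card (Subgroup.normalizer (P : Set G)) ∣ 175560 := by
      rw [← hcard]; exact Subgroup.card_subgroup_dvd_card _
    obtain ⟨m, hm⟩ := hCP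
    set r := (Subgroup.centralizer (P : Set G)).relIndex (Subgroup.normalizer (P : Set G)) with hr
    have h4 : 120 * p * r ∣ 175560 := by
      refine Dvd.dvd.trans ?_ h3
      rw [← h2, hm]
      exact ⟨m, by ring⟩
    have h5 : r = 1 := by
      rcases hp3 with rfl | rfl | rfl
      · have h6 : r ∣ 209 := Nat.dvd_of_mul_dvd_mul_left (k := 120 * 7) (by norm_num) (by norm_num at h4 ⊢; exact h4)
        exact Nat.dvd_one.mp ((show Nat.gcd 6 209 = 1 by norm_num) ▸ Nat.dvd_gcd h1 h6)
      · have h6 : r ∣ 133 := Nat.dvd_of_mul_dvd_mul_left (k := 120 * 11) (by norm_num) (by norm_num at h4 ⊢; exact h4)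
        exact Nat.dvd_one.mp ((show Nat.gcd 10 133 = 1 by norm_num) ▸ Nat.dvd_gcd h1 h6)
      · have h6 : r ∣ 77 := Nat.dvd_of_mul_dvd_mul_left (k := 120 * 19) (by norm_num) (by norm_num at h4 ⊢; exact h4)
        exact Nat.dvd_one.mp ((show Nat.gcd 18 77 = 1 by norm_num) ▸ Nat.dvd_gcd h1 h6)
    exact Subgroup.relIndex_eq_one.mp h5

end

end Cfsg.Agent.TwoGenCore.JOneEnd
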