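import Cfsg.Agent.LieClassical.SLGen
import Cfsg.Agent.TwoGenCore.Conj

/-!
# `PSL₃(F)`, `|F|` odd, has no proper 2-generated core
-/

set_option autoImplicit false
set_option linter.unusedSectionVars false

namespace Cfsg.Agent.TwoGenCore.L3

open Cfsg Matrix Cfsg.Agent.LieClassical.SLGen

variable {F : Type*} [Field F]

/-- The diagonal involution with `+1` in place `i` and `-1` elsewhere. -/
def t (F : Type*) [Field F] (i : Fin 3) : Matrix.SpecialLinearGroup (Fin 3) F :=
  ⟨Matrix.diagonal (fun j => if j = i then 1 else -1), by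
    rw [Matrix.det_diagonal, Fin.prod_univ_three]
    fin_cases i <;> simp⟩

theorem t_mul_self (i : Fin 3) : t F i * t F i = 1 := by
  apply Subtype.ext
  rw [Matrix.SpecialLinearGroup.coe_mul, Matrix.SpecialLinearGroup.coe_one]
  ext j k
  fin_cases i <;> fin_cases j <;> fin_cases k <;> simp [t, Matrix.mul_apply, Fin.sum_univ_three]

theorem t_zero_mul_one : t F 0 * t F 1 = t F 2 := by
  apply Subtype.ext
  rw [Matrix.SpecialLinearGroup.coe_mul]
  ext j k
  fin_cases j <;> fin_cases k <;> simp [t, Matrix.mul_apply, Fin.sum_univ_three]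

theorem t_one_mul_zero : t F 1 * t F 0 = t F 2 := by
  apply Subtype.ext
  rw [Matrix.SpecialLinearGroup.coe_mul]
  ext j k
  fin_cases j <;> fin_cases k <;> simp [t, Matrix.mul_apply, Fin.sum_univ_three]

theorem t_notMem_center (h2 : (2 : F) ≠ 0) (i : Fin 3) : t F i ∉ Subgroup.center (Matrix.SpecialLinearGroup (Fin 3) F) := by
  intro h
  rw [Matrix.SpecialLinearGroup.mem_center_iff] at h
  obtain ⟨r, -, hr⟩ := h
  have hne : ∃ j : Fin 3, j ≠ i := ⟨i + 1, by fin_cases i <;> simp⟩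
  obtain ⟨j, hj⟩ := hne
  have h1 := congrFun (congrFun hr i) i
  have h3 := congrFun (congrFun hr j) j
  simp [t] at h1
  simp [t, hj] at h3
  apply h2
  rw [h1] at h3
  linear_combination h3

/-- The monomial matrix `e_j ↦ d_j e_{σ j}`. -/
def monM (σ : Equiv.Perm (Fin 3)) (d : Fin 3 → F) : Matrix (Fin 3) (Fin 3) F :=
  Matrix.of fun i j => if i = σ j then d j else 0

theorem monM_mulVec_single (σ : Equiv.Perm (Fin 3)) (d : Fin 3 → F) (j : Fin 3) (c : F) :
    monM σ d *ᵥ Pi.single j c = Pi.single (σ j) (d j * c) := by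
  ext i
  simp only [monM, Matrix.mulVec, dotProduct, Matrix.of_apply, Pi.single_apply]
  rw [Finset.sum_eq_single j]
  · rw [if_pos rfl]
    split_ifs <;> simp
  · intro b _ hb
    rw [if_neg hb, mul_zero]
  · intro hj
    exact absurd (Finset.mem_univ j) hj

theorem det_monM (σ : Equiv.Perm (Fin 3)) (d : Fin 3 → F) :
    (monM σ d).det = ((Equiv.Perm.sign σ : ℤ) : F) * (d 0 * d 1 * d 2) := by
  have h1 : monM σ d = σ⁻¹.permMatrix F * Matrix.diagonal d := by
    ext i j
    rw [Matrix.mul_diagonal]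
    simp only [monM, Matrix.of_apply, Equiv.Perm.permMatrix, PEquiv.toMatrix_apply,
      Equiv.toPEquiv_apply, Option.mem_def, Option.some.injEq]
    by_cases h : i = σ j
    · subst h
      simp
    · have : ¬ (Equiv.symm σ) i = j := by
        rintro rfl
        apply h
        simp
      simp [h, this]
  rw [h1, Matrix.det_mul, Matrix.det_permutation, Matrix.det_diagonal, Fin.prod_univ_three,
    Equiv.Perm.sign_inv]

/-- Monomial matrices of determinant one. -/
def mon (σ : Equiv.Perm (Fin 3)) (d : Fin 3 → F)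
    (h : ((Equiv.Perm.sign σ : ℤ) : F) * (d 0 * d 1 * d 2) = 1) : Matrix.SpecialLinearGroup (Fin 3) F :=
  ⟨monM σ d, by rw [det_monM, h]⟩

theorem mon_mul_t (σ : Equiv.Perm (Fin 3)) (d : Fin 3 → F)
    (h : ((Equiv.Perm.sign σ : ℤ) : F) * (d 0 * d 1 * d 2) = 1) (i : Fin 3) :
    mon σ d h * t F i = t F (σ i) * mon σ d h := by
  apply Subtype.ext
  rw [Matrix.SpecialLinearGroup.coe_mul, Matrix.SpecialLinearGroup.coe_mul]
  ext a b
  simp only [mon, t, monM, Matrix.mul_diagonal, Matrix.diagonal_mul, Matrix.of_apply]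
  by_cases hab : a = σ b
  · subst hab
    by_cases hb : b = i
    · subst hb; simp
    · simp [hb]
  · simp [hab]

theorem mon_mul_transvection (σ : Equiv.Perm (Fin 3)) (d : Fin 3 → F)
    (h : ((Equiv.Perm.sign σ : ℤ) : F) * (d 0 * d 1 * d 2) = 1) {i j : Fin 3} (hij : i ≠ j)
    (hj : d j ≠ 0) (c : F) :
    mon σ d h * Matrix.SpecialLinearGroup.transvection hij c =
      Matrix.SpecialLinearGroup.transvection (σ.injective.ne hij) (c * d i / d j) * mon σ d h := by
  apply Subtype.ext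
  refine Matrix.ext_of_mulVec_single fun k => ?_
  rw [Matrix.SpecialLinearGroup.coe_mul, Matrix.SpecialLinearGroup.coe_mul,
    ← Matrix.mulVec_mulVec, ← Matrix.mulVec_mulVec]
  have e1 : ∀ {a b : Fin 3} (hab : a ≠ b) (r : F) (v : Fin 3 → F),
      ((Matrix.SpecialLinearGroup.transvection hab r : Matrix.SpecialLinearGroup (Fin 3) F) : Matrix (Fin 3) (Fin 3) F) *ᵥ v =
        v + (r * v b) • Pi.single a (1 : F) := fun hab r v => transvection_smul hab r v
  rw [e1, e1]
  change monM σ d *ᵥ _ = monM σ d *ᵥ _ + (c * d i / d j * ((monM σ d *ᵥ _) (σ j))) • _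
  rw [Matrix.mulVec_add, Matrix.mulVec_smul, monM_mulVec_single, monM_mulVec_single]
  congr 1
  by_cases hk : k = j
  · subst hk
    rw [Pi.single_eq_same, Pi.single_eq_same]
    ext l
    simp only [Pi.smul_apply, smul_eq_mul, Pi.single_apply]
    split_ifs
    · field_simp
    · ring
  · rw [Pi.single_eq_of_ne (Ne.symm hk), Pi.single_eq_of_ne (σ.injective.ne (Ne.symm hk))]
    simp

theorem perm_exists : ∀ i j a b : Fin 3, i ≠ j → a ≠ b →
    ∃ σ : Equiv.Perm (Fin 3), σ i = a ∧ σ j = b := by decide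

theorem third_exists : ∀ i j : Fin 3, i ≠ j → ∃ k, k ≠ i ∧ k ≠ j := by decide

theorem prod_three (f : Fin 3 → F) {i j k : Fin 3} (hij : i ≠ j) (hki : k ≠ i) (hkj : k ≠ j) :
    f 0 * f 1 * f 2 = f i * f j * f k := by
  fin_cases i <;> fin_cases j <;> fin_cases k <;>
    first
    | exact absurd rfl hij
    | exact absurd rfl hki
    | exact absurd rfl hkj
    | rfl
    | (simp only [Fin.zero_eta, Fin.mk_one, Fin.reduceFinMk]; ring)

section Main

variable {G : Type*} [Group G] [Finite G] (π : Matrix.SpecialLinearGroup (Fin 3) F →* G)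
  (hker : ∀ x, π x = 1 → x ∈ Subgroup.center (Matrix.SpecialLinearGroup (Fin 3) F)) {H : Subgroup G} (hH : Closed H)

include hker hH

/-- Elements normalising a frame `h V₀ h⁻¹` inside `H` lie in `H`. -/
theorem mem_frame (h2 : (2 : F) ≠ 0) (h n : Matrix.SpecialLinearGroup (Fin 3) F) (h0 : π (h * t F 0 * h⁻¹) ∈ H)
    (h1 : π (h * t F 1 * h⁻¹) ∈ H) {i j : Fin 3}
    (hn0 : n * (h * t F 0 * h⁻¹) = (h * t F i * h⁻¹) * n)
    (hn1 : n * (h * t F 1 * h⁻¹) = (h * t F j * h⁻¹) * n) : π n ∈ H := by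
  have hc : ∀ k : Fin 3, h * t F k * h⁻¹ ∉ Subgroup.center (Matrix.SpecialLinearGroup (Fin 3) F) := by
    intro k hk
    apply t_notMem_center h2 k
    have h5 := (Subgroup.center (Matrix.SpecialLinearGroup (Fin 3) F)).normal_of_characteristic
    have := h5.conj_mem _ hk h⁻¹
    have e : h⁻¹ * (h * t F k * h⁻¹) * h⁻¹⁻¹ = t F k := by group
    rwa [e] at this
  have hmul : ∀ a b : Matrix.SpecialLinearGroup (Fin 3) F, (h * a * h⁻¹) * (h * b * h⁻¹) = h * (a * b) * h⁻¹ := by
    intro a b; group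
  have hxx : π (h * t F 0 * h⁻¹) * π (h * t F 0 * h⁻¹) = 1 := by
    rw [← map_mul, hmul, t_mul_self]; simp
  have hyy : π (h * t F 1 * h⁻¹) * π (h * t F 1 * h⁻¹) = 1 := by
    rw [← map_mul, hmul, t_mul_self]; simp
  have hxy2 : π (h * t F 0 * h⁻¹) * π (h * t F 1 * h⁻¹) = π (h * t F 2 * h⁻¹) := by
    rw [← map_mul, hmul, t_zero_mul_one]
  have hyx2 : π (h * t F 1 * h⁻¹) * π (h * t F 0 * h⁻¹) = π (h * t F 2 * h⁻¹) := by
    rw [← map_mul, hmul, t_one_mul_zero]
  have hxy : π (h * t F 0 * h⁻¹) * π (h * t F 1 * h⁻¹) =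
      π (h * t F 1 * h⁻¹) * π (h * t F 0 * h⁻¹) := by rw [hxy2, hyx2]
  have hmem : ∀ k : Fin 3, π (h * t F k * h⁻¹) ∈ fourSub _ _ hxx hyy hxy := by
    intro k
    fin_cases k
    · exact left_mem_fourSub _ _ _
    · exact right_mem_fourSub _ _ _
    · exact Or.inr (Or.inr (Or.inr hxy2.symm))
  refine Conj.mem_of_conj hH h0 h1 (fun hh => hc 0 (hker _ hh)) (fun hh => hc 1 (hker _ hh)) ?_
    hxx hyy hxy ?_ ?_
  · intro hh
    apply hc 2
    apply hker
    rw [← hxy2, hh, hyy]
  · rw [← map_mul, ← map_inv, ← map_mul, hn0, mul_inv_cancel_right]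
    exact hmem i
  · rw [← map_mul, ← map_inv, ← map_mul, hn1, mul_inv_cancel_right]
    exact hmem j

/-- Monomial matrices with respect to a frame in `H` lie in `H`. -/
theorem mem_mon (h2 : (2 : F) ≠ 0) (h : Matrix.SpecialLinearGroup (Fin 3) F) (h0 : π (h * t F 0 * h⁻¹) ∈ H)
    (h1 : π (h * t F 1 * h⁻¹) ∈ H) (σ : Equiv.Perm (Fin 3)) (d : Fin 3 → F)
    (hd : ((Equiv.Perm.sign σ : ℤ) : F) * (d 0 * d 1 * d 2) = 1) :
    π (h * mon σ d hd * h⁻¹) ∈ H := by
  refine mem_frame π hker hH h2 h _ h0 h1 (i := σ 0) (j := σ 1) ?_ ?_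
  · have : h * mon σ d hd * h⁻¹ * (h * t F 0 * h⁻¹) = h * (mon σ d hd * t F 0) * h⁻¹ := by group
    rw [this, mon_mul_t]
    group
  · have : h * mon σ d hd * h⁻¹ * (h * t F 1 * h⁻¹) = h * (mon σ d hd * t F 1) * h⁻¹ := by group
    rw [this, mon_mul_t]
    group

/-- One transvection in `H` (and the standard frame) is enough. -/
theorem false_of_transvection (hπ : Function.Surjective π) (h2 : (2 : F) ≠ 0)
    (h0 : π (t F 0) ∈ H) (h1 : π (t F 1) ∈ H)
    {i j : Fin 3} (hij : i ≠ j)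
    (hE : π (Matrix.SpecialLinearGroup.transvection hij 1) ∈ H) : False := by
  apply hH.1
  rw [eq_top_iff]
  intro g _
  obtain ⟨g, rfl⟩ := hπ g
  have hall : ∀ (a b : Fin 3) (hab : a ≠ b) (c : F),
      π (Matrix.SpecialLinearGroup.transvection hab c) ∈ H := by
    intro a b hab c
    by_cases hc : c = 0
    · subst hc
      have : (Matrix.SpecialLinearGroup.transvection hab (0 : F) : Matrix.SpecialLinearGroup (Fin 3) F) = 1 := by
        apply Subtype.ext
        simp [Matrix.SpecialLinearGroup.transvection]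
      rw [this, map_one]
      exact one_mem _
    · obtain ⟨σ, hσi, hσj⟩ := perm_exists i j a b hij hab
      obtain ⟨k, hki, hkj⟩ := third_exists i j hij
      have hs : ((Equiv.Perm.sign σ : ℤ) : F) * ((Equiv.Perm.sign σ : ℤ) : F) = 1 := by
        rcases Int.units_eq_one_or (Equiv.Perm.sign σ) with h | h <;> rw [h] <;> simp
      let d : Fin 3 → F := fun l => if l = i then c else if l = j then 1 else
        ((Equiv.Perm.sign σ : ℤ) : F) / c
      have hprod : d 0 * d 1 * d 2 = ((Equiv.Perm.sign σ : ℤ) : F) := by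
        have hd : d i = c ∧ d j = 1 ∧ d k = ((Equiv.Perm.sign σ : ℤ) : F) / c := by
          refine ⟨by simp [d], by simp [d, hij.symm], by simp [d, hki, hkj]⟩
        rw [prod_three d hij hki hkj, hd.1, hd.2.1, hd.2.2]
        field_simp
      have hd : ((Equiv.Perm.sign σ : ℤ) : F) * (d 0 * d 1 * d 2) = 1 := by rw [hprod, hs]
      have hdj : d j = 1 := by simp [d, hij.symm]
      have hdi : d i = c := by simp [d]
      have h3 := mon_mul_transvection σ d hd hij (by rw [hdj]; exact one_ne_zero) 1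
      have hm := mem_mon π hker hH h2 1 (by simpa using h0) (by simpa using h1) σ d hd
      rw [one_mul, inv_one, mul_one] at hm
      have h4 : Matrix.SpecialLinearGroup.transvection (σ.injective.ne hij) (1 * d i / d j) =
          mon σ d hd * Matrix.SpecialLinearGroup.transvection hij 1 * (mon σ d hd)⁻¹ := by
        rw [h3, mul_inv_cancel_right]
      have h5 : π (Matrix.SpecialLinearGroup.transvection (σ.injective.ne hij)
          (1 * d i / d j)) ∈ H := by
        rw [h4, map_mul, map_mul, map_inv]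
        exact mul_mem (mul_mem hm hE) (inv_mem hm)
      rw [hdi, hdj, one_mul, div_one] at h5
      subst hσi
      subst hσj
      exact h5
  have hg : g ∈ Subgroup.closure (transvections (Fin 3) F) := by
    rw [closure_transvections]; trivial
  have hle : Subgroup.closure (transvections (Fin 3) F) ≤ H.comap π := by
    rw [Subgroup.closure_le]
    rintro _ ⟨a, b, hab, c, rfl⟩
    exact hall a b hab c
  exact hle hg

end Main

/-! ### The second frame -/

/-- The base change to the frame `e₀ + e₁, e₀ - e₁, e₂`. -/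
def g1 (h2 : (2 : F) ≠ 0) : Matrix.SpecialLinearGroup (Fin 3) F :=
  ⟨!![1, -(1 / 2), 0; 1, 1 / 2, 0; 0, 0, 1], by
    rw [Matrix.det_fin_three]
    simp
    field_simp
    norm_num⟩

/-- The involutions of the second frame. -/
def A (F : Type*) [Field F] : Fin 3 → Matrix.SpecialLinearGroup (Fin 3) F :=
  ![⟨!![0, 1, 0; 1, 0, 0; 0, 0, -1], by rw [Matrix.det_fin_three]; simp⟩,
    ⟨!![0, -1, 0; -1, 0, 0; 0, 0, -1], by rw [Matrix.det_fin_three]; simp⟩,
    ⟨!![-1, 0, 0; 0, -1, 0; 0, 0, 1], by rw [Matrix.det_fin_three]; simp⟩]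

theorem g1_mul (h2 : (2 : F) ≠ 0) (i : Fin 3) : g1 h2 * t F i * (g1 h2)⁻¹ = A F i := by
  rw [mul_inv_eq_iff_eq_mul]
  apply Subtype.ext
  rw [Matrix.SpecialLinearGroup.coe_mul, Matrix.SpecialLinearGroup.coe_mul]
  ext j k
  fin_cases i <;> fin_cases j <;> fin_cases k <;>
    simp [t, A, g1, Matrix.mul_apply, Fin.sum_univ_three]

theorem t_two_eq : t F 2 = A F 2 := by
  apply Subtype.ext
  ext j k
  fin_cases j <;> fin_cases k <;> simp [t, A]

theorem exists_mk {M : Matrix (Fin 3) (Fin 3) F} (h : M.det = 1) :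
    ∃ n : Matrix.SpecialLinearGroup (Fin 3) F, (n : Matrix (Fin 3) (Fin 3) F) = M :=
  ⟨⟨M, h⟩, rfl⟩

theorem coe_transvection_one_zero (h : (1 : Fin 3) ≠ 0) (c : F) :
    ((Matrix.SpecialLinearGroup.transvection h c : Matrix.SpecialLinearGroup (Fin 3) F) :
      Matrix (Fin 3) (Fin 3) F) = !![1, 0, 0; c, 1, 0; 0, 0, 1] := by
  ext j k
  fin_cases j <;> fin_cases k <;>
    simp [Matrix.SpecialLinearGroup.transvection, Matrix.transvection]

theorem coe_transvection_zero_two (h : (0 : Fin 3) ≠ 2) (c : F) :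
    ((Matrix.SpecialLinearGroup.transvection h c : Matrix.SpecialLinearGroup (Fin 3) F) :
      Matrix (Fin 3) (Fin 3) F) = !![1, 0, c; 0, 1, 0; 0, 0, 1] := by
  ext j k
  fin_cases j <;> fin_cases k <;>
    simp [Matrix.SpecialLinearGroup.transvection, Matrix.transvection]

section Main2

variable {G : Type*} [Group G] [Finite G] (π : Matrix.SpecialLinearGroup (Fin 3) F →* G)
  (hker : ∀ x, π x = 1 → x ∈ Subgroup.center (Matrix.SpecialLinearGroup (Fin 3) F))
  {H : Subgroup G} (hH : Closed H)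

include hker hH

theorem mem_std (h2 : (2 : F) ≠ 0) (h0 : π (t F 0) ∈ H) (h1 : π (t F 1) ∈ H)
    {n : Matrix.SpecialLinearGroup (Fin 3) F} (i j : Fin 3)
    (hn0 : n * t F 0 = t F i * n) (hn1 : n * t F 1 = t F j * n) : π n ∈ H :=
  mem_frame π hker hH h2 1 n (by simpa using h0) (by simpa using h1) (i := i) (j := j)
    (by simpa using hn0) (by simpa using hn1)

theorem A_mem (h2 : (2 : F) ≠ 0) (h0 : π (t F 0) ∈ H) (h1 : π (t F 1) ∈ H) (i : Fin 3) :
    π (A F i) ∈ H := by
  have e0 : π (A F 0) ∈ H := by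
    refine mem_std π hker hH h2 h0 h1 1 0 ?_ ?_
    all_goals
      apply Subtype.ext
      rw [Matrix.SpecialLinearGroup.coe_mul, Matrix.SpecialLinearGroup.coe_mul]
      ext j k
      fin_cases j <;> fin_cases k <;>
        simp [t, A, Matrix.mul_apply, Fin.sum_univ_three]
  have e1 : π (A F 1) ∈ H := by
    refine mem_std π hker hH h2 h0 h1 1 0 ?_ ?_
    all_goals
      apply Subtype.ext
      rw [Matrix.SpecialLinearGroup.coe_mul, Matrix.SpecialLinearGroup.coe_mul]
      ext j k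
      fin_cases j <;> fin_cases k <;>
        simp [t, A, Matrix.mul_apply, Fin.sum_univ_three]
  have e2 : π (A F 2) ∈ H := by
    rw [← t_two_eq, ← t_zero_mul_one, map_mul]
    exact mul_mem h0 h1
  fin_cases i
  · exact e0
  · exact e1
  · exact e2

theorem mem_second (h2 : (2 : F) ≠ 0) (h0 : π (t F 0) ∈ H) (h1 : π (t F 1) ∈ H)
    {n : Matrix.SpecialLinearGroup (Fin 3) F} (i j : Fin 3)
    (hn0 : n * A F 0 = A F i * n) (hn1 : n * A F 1 = A F j * n) : π n ∈ H := by
  refine mem_frame π hker hH h2 (g1 h2) n ?_ ?_ (i := i) (j := j) ?_ ?_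
  · rw [g1_mul]; exact A_mem π hker hH h2 h0 h1 0
  · rw [g1_mul]; exact A_mem π hker hH h2 h0 h1 1
  · rw [g1_mul, g1_mul]; exact hn0
  · rw [g1_mul, g1_mul]; exact hn1

/-- The general case. -/
theorem false_of_large (hπ : Function.Surjective π) (h2 : (2 : F) ≠ 0)
    (h0 : π (t F 0) ∈ H) (h1 : π (t F 1) ∈ H) {u : F} (hu0 : u ≠ 0) (hu : u ^ 4 ≠ 1) : False := by
  have hu1 : u - 1 ≠ 0 := by
    intro h; apply hu; rw [sub_eq_zero.1 h]; ring
  have hu2 : 1 + u ≠ 0 := by
    intro h; apply hu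
    have : u = -1 := by linear_combination h
    rw [this]; ring
  have hu3 : 1 + u ^ 2 ≠ 0 := by
    intro h; apply hu
    linear_combination (u ^ 2 - 1) * h
  have hu4 : 1 - u ^ 2 ≠ 0 := by
    intro h; apply hu
    linear_combination -(u ^ 2 + 1) * h
  have hu5 : -1 - u ≠ 0 := by
    intro h; apply hu2; linear_combination -h
  have hu6 : -1 + -u ≠ 0 := by
    intro h; apply hu2; linear_combination -h
  have hu7 : -u + -1 ≠ 0 := by
    intro h; apply hu2; linear_combination -h
  -- the elements of the second torus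
  have hτ : ∀ c : F, ∀ hc : c ≠ 0, ∃ n : Matrix.SpecialLinearGroup (Fin 3) F,
      (n : Matrix (Fin 3) (Fin 3) F) =
        !![(c + 1) / 2, (c - 1) / 2, 0; (c - 1) / 2, (c + 1) / 2, 0; 0, 0, c⁻¹] ∧ π n ∈ H := by
    intro c hc
    obtain ⟨n, hn⟩ := exists_mk
      (M := !![(c + 1) / 2, (c - 1) / 2, 0; (c - 1) / 2, (c + 1) / 2, 0; 0, 0, c⁻¹]) (by
        rw [Matrix.det_fin_three]
        simp
        field_simp
        ring)
    refine ⟨n, hn, mem_second π hker hH h2 h0 h1 0 1 ?_ ?_⟩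
    all_goals
      apply Subtype.ext
      rw [Matrix.SpecialLinearGroup.coe_mul, Matrix.SpecialLinearGroup.coe_mul, hn]
      ext j k
      fin_cases j <;> fin_cases k <;>
        simp [A, Matrix.mul_apply, Fin.sum_univ_three]
  -- monomial elements
  have hD : ∀ a b : F, ∀ ha : a ≠ 0, ∀ hb : b ≠ 0, ∃ n : Matrix.SpecialLinearGroup (Fin 3) F,
      (n : Matrix (Fin 3) (Fin 3) F) = !![a, 0, 0; 0, b, 0; 0, 0, (a * b)⁻¹] ∧ π n ∈ H := by
    intro a b ha hb
    obtain ⟨n, hn⟩ := exists_mk (M := !![a, 0, 0; 0, b, 0; 0, 0, (a * b)⁻¹]) (by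
        rw [Matrix.det_fin_three]
        simp
        field_simp)
    refine ⟨n, hn, mem_std π hker hH h2 h0 h1 0 1 ?_ ?_⟩
    all_goals
      apply Subtype.ext
      rw [Matrix.SpecialLinearGroup.coe_mul, Matrix.SpecialLinearGroup.coe_mul, hn]
      ext j k
      fin_cases j <;> fin_cases k <;>
        simp [t, Matrix.mul_apply, Fin.sum_univ_three]
  have hS : ∀ a b : F, ∀ ha : a ≠ 0, ∀ hb : b ≠ 0, ∃ n : Matrix.SpecialLinearGroup (Fin 3) F,
      (n : Matrix (Fin 3) (Fin 3) F) = !![0, b, 0; a, 0, 0; 0, 0, -(a * b)⁻¹] ∧ π n ∈ H := by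
    intro a b ha hb
    obtain ⟨n, hn⟩ := exists_mk (M := !![0, b, 0; a, 0, 0; 0, 0, -(a * b)⁻¹]) (by
        rw [Matrix.det_fin_three]
        simp
        field_simp)
    refine ⟨n, hn, mem_std π hker hH h2 h0 h1 1 0 ?_ ?_⟩
    all_goals
      apply Subtype.ext
      rw [Matrix.SpecialLinearGroup.coe_mul, Matrix.SpecialLinearGroup.coe_mul, hn]
      ext j k
      fin_cases j <;> fin_cases k <;>
        simp [t, Matrix.mul_apply, Fin.sum_univ_three]
  obtain ⟨n1, hn1, hm1⟩ := hτ ((1 - u ^ 2) / (1 + u ^ 2)) (div_ne_zero hu4 hu3)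
  obtain ⟨n2, hn2, hm2⟩ := hD u 1 hu0 one_ne_zero
  obtain ⟨n3, hn3, hm3⟩ := hτ ((1 + u) / (u - 1)) (div_ne_zero hu2 hu1)
  obtain ⟨m, hm, hmm⟩ := hS (-(1 + u)) (-(u * (1 + u) / (1 + u ^ 2))) (neg_ne_zero.2 hu2)
    (neg_ne_zero.2 (div_ne_zero (mul_ne_zero hu0 hu2) hu3))
  have key : Matrix.SpecialLinearGroup.transvection (show (1 : Fin 3) ≠ 0 by decide) (1 : F) * m =
      n1 * n2 * n3 := by
    apply Subtype.ext
    rw [Matrix.SpecialLinearGroup.coe_mul, Matrix.SpecialLinearGroup.coe_mul,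
      Matrix.SpecialLinearGroup.coe_mul, hm, hn1, hn2, hn3, coe_transvection_one_zero]
    ext j k
    fin_cases j <;> fin_cases k <;>
      simp [Matrix.mul_apply, Fin.sum_univ_three] <;> field_simp <;> ring
  refine false_of_transvection π hker hH hπ h2 h0 h1 (show (1 : Fin 3) ≠ 0 by decide) ?_
  have h5 : Matrix.SpecialLinearGroup.transvection (show (1 : Fin 3) ≠ 0 by decide) (1 : F) =
      n1 * n2 * n3 * m⁻¹ := by rw [← key, mul_inv_cancel_right]
  rw [h5, map_mul, map_mul, map_mul, map_inv]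
  exact mul_mem (mul_mem (mul_mem hm1 hm2) hm3) (inv_mem hmm)

end Main2

/-! ### Small fields -/

local instance fact_prime_five_aux : Fact (Nat.Prime 5) := ⟨by norm_num⟩

section Small

theorem false_three {G : Type*} [Group G] [Finite G]
    (π : Matrix.SpecialLinearGroup (Fin 3) (ZMod 3) →* G)
    (hker : ∀ x, π x = 1 → x ∈ Subgroup.center (Matrix.SpecialLinearGroup (Fin 3) (ZMod 3)))
    {H : Subgroup G} (hH : Closed H) (hπ : Function.Surjective π)
    (h0 : π (t (ZMod 3) 0) ∈ H) (h1 : π (t (ZMod 3) 1) ∈ H) : False := by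
  have h2 : (2 : ZMod 3) ≠ 0 := by decide
  refine false_of_transvection π hker hH hπ h2 h0 h1 (show (0 : Fin 3) ≠ 2 by decide) ?_
  let n1 : Matrix.SpecialLinearGroup (Fin 3) (ZMod 3) :=
    ⟨!![2, 1, 2; 2, 1, 1; 1, 1, 0], by decide⟩
  let n2 : Matrix.SpecialLinearGroup (Fin 3) (ZMod 3) :=
    ⟨!![1, 0, 0; 0, 0, 2; 0, 1, 0], by decide⟩
  let n3 : Matrix.SpecialLinearGroup (Fin 3) (ZMod 3) :=
    ⟨!![2, 2, 2; 2, 2, 1; 2, 1, 0], by decide⟩
  let n5 : Matrix.SpecialLinearGroup (Fin 3) (ZMod 3) :=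
    ⟨!![2, 1, 1; 2, 1, 2; 2, 2, 0], by decide⟩
  let n6 : Matrix.SpecialLinearGroup (Fin 3) (ZMod 3) :=
    ⟨!![0, 1, 0; 0, 0, 1; 1, 0, 0], by decide⟩
  have e : (Matrix.SpecialLinearGroup.transvection (show (0 : Fin 3) ≠ 2 by decide)
      (1 : ZMod 3)) = n1 * n2 * n3 * n2 * n5 * n6 * n3 := by
    apply Subtype.ext
    rw [coe_transvection_zero_two]
    decide
  have m1 : π n1 ∈ H := mem_second π hker hH h2 h0 h1 2 0
    (Subtype.ext (by decide)) (Subtype.ext (by decide))
  have m2 : π n2 ∈ H := mem_std π hker hH h2 h0 h1 0 2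
    (Subtype.ext (by decide)) (Subtype.ext (by decide))
  have m3 : π n3 ∈ H := mem_second π hker hH h2 h0 h1 0 2
    (Subtype.ext (by decide)) (Subtype.ext (by decide))
  have m5 : π n5 ∈ H := mem_second π hker hH h2 h0 h1 2 0
    (Subtype.ext (by decide)) (Subtype.ext (by decide))
  have m6 : π n6 ∈ H := mem_std π hker hH h2 h0 h1 2 0
    (Subtype.ext (by decide)) (Subtype.ext (by decide))
  rw [e]
  simp only [map_mul]
  exact mul_mem (mul_mem (mul_mem (mul_mem (mul_mem (mul_mem m1 m2) m3) m2) m5) m6) m3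

theorem false_five {G : Type*} [Group G] [Finite G]
    (π : Matrix.SpecialLinearGroup (Fin 3) (ZMod 5) →* G)
    (hker : ∀ x, π x = 1 → x ∈ Subgroup.center (Matrix.SpecialLinearGroup (Fin 3) (ZMod 5)))
    {H : Subgroup G} (hH : Closed H) (hπ : Function.Surjective π)
    (h0 : π (t (ZMod 5) 0) ∈ H) (h1 : π (t (ZMod 5) 1) ∈ H) : False := by
  have h2 : (2 : ZMod 5) ≠ 0 := by decide
  refine false_of_transvection π hker hH hπ h2 h0 h1 (show (0 : Fin 3) ≠ 2 by decide) ?_
  let n1 : Matrix.SpecialLinearGroup (Fin 3) (ZMod 5) :=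
    ⟨!![1, 1, 3; 1, 1, 2; 2, 3, 0], by decide⟩
  let n2 : Matrix.SpecialLinearGroup (Fin 3) (ZMod 5) :=
    ⟨!![1, 0, 0; 0, 0, 4; 0, 1, 0], by decide⟩
  let n3 : Matrix.SpecialLinearGroup (Fin 3) (ZMod 5) :=
    ⟨!![4, 1, 1; 4, 1, 4; 1, 1, 0], by decide⟩
  let n4 : Matrix.SpecialLinearGroup (Fin 3) (ZMod 5) :=
    ⟨!![1, 0, 0; 0, 0, 2; 0, 2, 0], by decide⟩
  let n5 : Matrix.SpecialLinearGroup (Fin 3) (ZMod 5) :=
    ⟨!![3, 3, 3; 3, 3, 2; 4, 1, 0], by decide⟩
  let n6 : Matrix.SpecialLinearGroup (Fin 3) (ZMod 5) :=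
    ⟨!![0, 1, 0; 0, 0, 3; 2, 0, 0], by decide⟩
  have e : (Matrix.SpecialLinearGroup.transvection (show (0 : Fin 3) ≠ 2 by decide)
      (1 : ZMod 5)) = n1 * n2 * n3 * n4 * n5 * n6 * n5 := by
    have ea : n1 * n2 * n3 = ⟨!![0, 3, 3; 1, 2, 4; 0, 4, 2], by decide⟩ := Subtype.ext (by decide)
    have eb : n4 * n5 = ⟨!![3, 3, 3; 3, 2, 0; 1, 1, 4], by decide⟩ := Subtype.ext (by decide)
    have ec : n6 * n5 = ⟨!![3, 3, 2; 2, 3, 0; 1, 1, 1], by decide⟩ := Subtype.ext (by decide)
    have e1 : n1 * n2 * n3 * n4 * n5 * n6 * n5 = (n1 * n2 * n3) * (n4 * n5) * (n6 * n5) := by group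
    rw [e1, ea, eb, ec]
    apply Subtype.ext
    rw [coe_transvection_zero_two]
    decide
  have m1 : π n1 ∈ H := mem_second π hker hH h2 h0 h1 0 2
    (Subtype.ext (by decide)) (Subtype.ext (by decide))
  have m2 : π n2 ∈ H := mem_std π hker hH h2 h0 h1 0 2
    (Subtype.ext (by decide)) (Subtype.ext (by decide))
  have m3 : π n3 ∈ H := mem_second π hker hH h2 h0 h1 2 0
    (Subtype.ext (by decide)) (Subtype.ext (by decide))
  have m4 : π n4 ∈ H := mem_std π hker hH h2 h0 h1 0 2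
    (Subtype.ext (by decide)) (Subtype.ext (by decide))
  have m5 : π n5 ∈ H := mem_second π hker hH h2 h0 h1 0 2
    (Subtype.ext (by decide)) (Subtype.ext (by decide))
  have m6 : π n6 ∈ H := mem_std π hker hH h2 h0 h1 2 0
    (Subtype.ext (by decide)) (Subtype.ext (by decide))
  rw [e]
  simp only [map_mul]
  exact mul_mem (mul_mem (mul_mem (mul_mem (mul_mem (mul_mem m1 m2) m3) m4) m5) m6) m5

end Small

/-! ### The theorem -/

/-- Transport along a ring isomorphism. -/
theorem transport {K : Type*} [Field K] (e : K ≃+* F) {G : Type*} [Group G]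
    (π : Matrix.SpecialLinearGroup (Fin 3) F →* G)
    (hker : ∀ x, π x = 1 → x ∈ Subgroup.center (Matrix.SpecialLinearGroup (Fin 3) F))
    (hπ : Function.Surjective π) :
    ∃ π' : Matrix.SpecialLinearGroup (Fin 3) K →* G, Function.Surjective π' ∧
      (∀ x, π' x = 1 → x ∈ Subgroup.center (Matrix.SpecialLinearGroup (Fin 3) K)) ∧
      ∀ i, π' (t K i) = π (t F i) := by
  let f : Matrix.SpecialLinearGroup (Fin 3) K →* Matrix.SpecialLinearGroup (Fin 3) F :=
    Matrix.SpecialLinearGroup.map (e : K →+* F)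
  have hfinj : Function.Injective f := by
    intro x y hxy
    apply Subtype.ext
    ext i j
    have h1 := congrArg (fun z : Matrix.SpecialLinearGroup (Fin 3) F =>
      (z : Matrix (Fin 3) (Fin 3) F) i j) hxy
    simpa [f] using h1
  have hfsurj : Function.Surjective f := by
    intro y
    refine ⟨Matrix.SpecialLinearGroup.map (e.symm : F →+* K) y, ?_⟩
    apply Subtype.ext
    ext i j
    simp [f]
  refine ⟨π.comp f, hπ.comp hfsurj, ?_, ?_⟩
  · intro x hx
    have h1 := hker _ hx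
    rw [Subgroup.mem_center_iff] at h1 ⊢
    intro y
    apply hfinj
    rw [map_mul, map_mul]
    exact h1 (f y)
  · intro i
    show π (f (t K i)) = π (t F i)
    congr 1
    apply Subtype.ext
    ext j k
    change e ((t K i : Matrix (Fin 3) (Fin 3) K) j k) = (t F i : Matrix (Fin 3) (Fin 3) F) j k
    by_cases hjk : j = k
    · subst hjk
      by_cases hji : j = i <;> simp [t, hji]
    · simp [t, hjk]

theorem not_hasProper_of_hom [Fintype F] (hodd : Odd (Fintype.card F)) {G : Type*} [Group G]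
    [Finite G] (π : Matrix.SpecialLinearGroup (Fin 3) F →* G) (hπ : Function.Surjective π)
    (hker : ∀ x, π x = 1 → x ∈ Subgroup.center (Matrix.SpecialLinearGroup (Fin 3) F)) :
    ¬ HasProperTwoGeneratedCore G := by
  intro hG
  have h2 : (2 : F) ≠ 0 := by
    intro hh
    have h3 := (FiniteField.even_card_iff_char_two (F := F)).1 (by
      have h4 := ringChar.spec F 2
      have h5 : ringChar F ∣ 2 := h4.1 (by exact_mod_cast hh)
      have h6 : ringChar F ≠ 1 := CharP.ringChar_ne_one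
      exact (Nat.dvd_prime Nat.prime_two).1 h5 |>.resolve_left h6)
    rw [Nat.odd_iff] at hodd
    omega
  have hxx : π (t F 0) * π (t F 0) = 1 := by rw [← map_mul, t_mul_self, map_one]
  have hyy : π (t F 1) * π (t F 1) = 1 := by rw [← map_mul, t_mul_self, map_one]
  have hxy : π (t F 0) * π (t F 1) = π (t F 1) * π (t F 0) := by
    rw [← map_mul, ← map_mul, t_zero_mul_one, t_one_mul_zero]
  obtain ⟨H, hH, hVH⟩ := Conj.exists_closed_ge hG (fourSub_isPGroup hxx hyy hxy)
  have h0 : π (t F 0) ∈ H := hVH (left_mem_fourSub _ _ _)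
  have h1 : π (t F 1) ∈ H := hVH (right_mem_fourSub _ _ _)
  by_cases hu : ∃ u : F, u ≠ 0 ∧ u ^ 4 ≠ 1
  · obtain ⟨u, hu0, hu⟩ := hu
    exact false_of_large π hker hH hπ h2 h0 h1 hu0 hu
  · push Not at hu
    have hcard : Fintype.card F = 3 ∨ Fintype.card F = 5 := by
      classical
      obtain ⟨g, hg⟩ := IsCyclic.exists_generator (α := Fˣ)
      have ho : orderOf g = Fintype.card F - 1 := by
        rw [orderOf_eq_card_of_forall_mem_zpowers hg, Nat.card_eq_fintype_card,
          Fintype.card_units]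
      have h4 : orderOf g ∣ 4 := by
        apply orderOf_dvd_of_pow_eq_one
        apply Units.ext
        rw [Units.val_pow_eq_pow_val, Units.val_one]
        exact hu g g.ne_zero
      rw [ho] at h4
      have h5 : 1 < Fintype.card F := Fintype.one_lt_card
      have h6 := Nat.le_of_dvd (by norm_num) h4
      rw [Nat.odd_iff] at hodd
      have h7 : Fintype.card F ≤ 5 := by omega
      generalize Fintype.card F = m at *
      interval_cases m <;> simp_all
    rcases hcard with hc | hc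
    · obtain ⟨π', h1', h2', h3'⟩ := transport (ZMod.ringEquivOfPrime F Nat.prime_three hc) π hker hπ
      exact false_three π' h2' hH h1' (by rw [h3']; exact h0) (by rw [h3']; exact h1)
    · obtain ⟨π', h1', h2', h3'⟩ := transport
        (ZMod.ringEquivOfPrime F (by norm_num : Nat.Prime 5) hc) π hker hπ
      exact false_five π' h2' hH h1' (by rw [h3']; exact h0) (by rw [h3']; exact h1)

/-- `PSL₃(F)`, `|F|` odd, has no proper 2-generated core. -/
theorem not_hasProper [Fintype F] (hodd : Odd (Fintype.card F)) {G : Type*} [Group G]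
    [Finite G] (e : G ≃* Matrix.ProjectiveSpecialLinearGroup (Fin 3) F) :
    ¬ HasProperTwoGeneratedCore G := by
  refine not_hasProper_of_hom hodd (e.symm.toMonoidHom.comp
    (QuotientGroup.mk' (Subgroup.center (Matrix.SpecialLinearGroup (Fin 3) F)))) ?_ ?_
  · exact e.symm.surjective.comp (QuotientGroup.mk'_surjective _)
  · intro x hx
    have h1 : e.symm (QuotientGroup.mk'
      (Subgroup.center (Matrix.SpecialLinearGroup (Fin 3) F)) x) = 1 := hx
    rw [← map_one e.symm] at h1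
    exact (QuotientGroup.eq_one_iff x).1 (e.symm.injective h1)

end Cfsg.Agent.TwoGenCore.L3
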