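import Cfsg.Agent.TwoGenCore.NonCycFour
import Cfsg.Agent.TwoGenCore.JOneEnd
import Cfsg.Agent.SmallSimple.PSLTwoPart
import Cfsg.Agent.S0280

/-!
# Strong embedding with a four-group as Sylow 2-subgroup: the alternating group of degree 5

With Bender's theorem (S0222, as a hypothesis) a group `X` as in `NonCycFour.Emb` is isomorphic to
the alternating group of degree 5.
-/

set_option autoImplicit false
set_option linter.unusedSectionVars false

open scoped Pointwise

namespace Cfsg.Agent.TwoGenCore.NonCycAlt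

open Cfsg Cfsg.Agent.TwoGenCore.GoodFusion Cfsg.Agent.TwoGenCore.GoodCentral
open Cfsg.Agent.TwoGenCore.NonCycFour

universe u

/-- Bender's theorem for simple groups (S0222), as a proposition. -/
def BenderThm : Prop :=
  ∀ (G : Type u) [Group G] [Finite G] [IsSimpleGroup G], (∃ a b : G, a * b ≠ b * a) →
    ∀ H : Subgroup G, IsStronglyEmbedded H →
      (∃ (F : Type) (_ : Field F) (_ : Fintype F), CharP F 2 ∧ 4 ≤ Fintype.card F ∧
        Nonempty (G ≃* Matrix.ProjectiveSpecialLinearGroup (Fin 2) F)) ∨ Cfsg.IsSuzuki G ∨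
      (∃ (F : Type) (_ : Field F) (_ : Fintype F) (q : ℕ), Fintype.card F = q ^ 2 ∧ Even q ∧
        4 ≤ q ∧ Nonempty (G ≃* Cfsg.PSU 3 F q))

theorem eight_dvd_card_PSU {F : Type*} [Field F] [Fintype F] {q : ℕ}
    (hF : Fintype.card F = q ^ 2) (hq : Even q) : 8 ∣ Nat.card (Cfsg.PSU 3 F q) := by
  have h := Cfsg.Agent.S0280.result hF 3 (by norm_num)
  have h8 : 8 ∣ Nat.gcd 3 (q + 1) * ((q + 1) * Nat.card (Cfsg.PSU 3 F q)) := by
    rw [h]
    refine dvd_mul_of_dvd_left ?_ _
    obtain ⟨k, rfl⟩ := hq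
    refine ⟨k * k * k, ?_⟩
    norm_num
    ring
  have hodd : Nat.Coprime 8 (Nat.gcd 3 (q + 1) * (q + 1)) := by
    have h1 : Odd (q + 1) := hq.add_one
    have h2 : Odd (Nat.gcd 3 (q + 1)) := Odd.of_dvd_nat (by decide : Odd 3) (Nat.gcd_dvd_left _ _)
    have h3 : Nat.Coprime 2 (Nat.gcd 3 (q + 1) * (q + 1)) := Nat.coprime_two_left.2 (h2.mul h1)
    exact Nat.Coprime.pow_left 3 h3
  rw [← mul_assoc] at h8
  exact hodd.dvd_of_dvd_mul_left h8

theorem card_eq_sixty (hB : BenderThm.{u}) {W : Type u} [Group W] [Finite W] [IsSimpleGroup W]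
    (hna : ∃ a b : W, a * b ≠ b * a) {H : Subgroup W} (hH : IsStronglyEmbedded H)
    (h8 : ¬ 8 ∣ Nat.card W) : Nat.card W = 60 := by
  rcases hB W hna H hH with ⟨F, _, _, hchar, hF, ⟨e⟩⟩ | ⟨-, m, hm, hcard⟩ | ⟨F, _, _, q, hF, hq, hq4, ⟨e⟩⟩
  · obtain ⟨n, -, hn⟩ := FiniteField.card F 2
    have hn2 : 2 ≤ (n : ℕ) := by
      by_contra hlt
      have h1 : (n : ℕ) = 1 := by have := n.pos; omega
      rw [hn, h1] at hF
      omega
    have heven : Even (Fintype.card F) := by
      rw [hn, even_iff_two_dvd]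
      exact dvd_pow_self 2 (by omega)
    have hc := Nat.card_congr e.toEquiv
    rw [Cfsg.Agent.SmallSimple.PSLTwoPart.card_psl_two_even heven] at hc
    have hn3 : (n : ℕ) < 3 := by
      by_contra hlt
      apply h8
      rw [hc, hn]
      exact dvd_mul_of_dvd_left (pow_dvd_pow 2 (by omega : 3 ≤ (n : ℕ))) _
    have hn' : (n : ℕ) = 2 := by omega
    rw [hc, hn, hn']
    norm_num
  · exfalso
    apply h8
    rw [hcard]
    refine dvd_mul_of_dvd_left (dvd_mul_of_dvd_left ?_ _) _
    rw [← pow_mul]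
    exact pow_dvd_pow 2 (show 3 ≤ (2 * m + 1) * 2 by omega)
  · exfalso
    apply h8
    rw [Nat.card_congr e.toEquiv]
    exact eight_dvd_card_PSU hF hq

variable {X : Type u} [Group X] [Finite X] {M : Subgroup X} {P : Sylow 2 X}

/-- `|X|₂ = 4`. -/
theorem Emb.not_dvd (h : Emb M P) : ¬ 8 ∣ Nat.card X := by
  have h1 : ¬ 2 ∣ (P : Subgroup X).index := P.not_dvd_index
  have h2 := Subgroup.card_mul_index (P : Subgroup X)
  have h3 : Nat.card (P : Subgroup X) = 4 := h.card
  rw [h3] at h2
  intro h4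
  apply h1
  omega

theorem Emb.four_dvd (h : Emb M P) {K : Subgroup X} (hK : (P : Subgroup X) ≤ K) :
    4 ∣ Nat.card K := by
  have h3 : Nat.card (P : Subgroup X) = 4 := h.card
  rw [← h3]
  exact Subgroup.card_dvd_of_le hK

theorem Emb.card_closure (hB : BenderThm.{u}) (h : Emb M P) :
    Nat.card (Subgroup.normalClosure ((P : Subgroup X) : Set X)) = 60 := by
  have := h.isSimpleGroup
  refine card_eq_sixty hB h.noncomm h.isStronglyEmbedded ?_
  intro h1
  exact Emb.not_dvd h (h1.trans (Subgroup.card_subgroup_dvd_card _))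

/-- A subgroup of index `n` with trivial core. -/
theorem card_dvd_factorial {Y : Type*} [Group Y] [Finite Y] {L : Subgroup Y}
    (hL : L.normalCore = ⊥) : Nat.card Y ∣ L.index.factorial := by
  have hinj : Function.Injective (MulAction.toPermHom Y (Y ⧸ L)) := by
    rw [← MonoidHom.ker_eq_bot_iff, ← Subgroup.normalCore_eq_ker, hL]
  have h1 := Subgroup.card_subgroup_dvd_card (MulAction.toPermHom Y (Y ⧸ L)).range
  rw [Nat.card_perm] at h1
  rwa [Nat.card_congr (MonoidHom.ofInjective hinj).toEquiv]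

/-- `|M ∩ W| = 12`. -/
theorem Emb.card_inf (hB : BenderThm.{u}) (h : Emb M P) :
    Nat.card (M.subgroupOf (Subgroup.normalClosure ((P : Subgroup X) : Set X))) = 12 := by
  classical
  have hfact : Fact (Nat.Prime 2) := ⟨Nat.prime_two⟩
  have hW60 := Emb.card_closure hB h
  have hsimple := h.isSimpleGroup
  have hse := h.isStronglyEmbedded
  set W := Subgroup.normalClosure ((P : Subgroup X) : Set X) with hWdef
  have hPW : (P : Subgroup X) ≤ W := Subgroup.subset_normalClosure
  set M' := M.subgroupOf W with hM'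
  set P' : Sylow 2 W := P.subtype hPW with hP'
  have hP'4 : Nat.card (P' : Subgroup W) = 4 := by
    have h1 : Nat.card (P : Subgroup X) = 4 := h.card
    rw [← h1]
    exact Nat.card_congr (Subgroup.subgroupOfEquivOfLe hPW).toEquiv
  have hP'M : (P' : Subgroup W) ≤ M' := fun x hx => h.le hx
  have h4 : 4 ∣ Nat.card M' := by
    rw [← hP'4]; exact Subgroup.card_dvd_of_le hP'M
  have hmul := Subgroup.card_mul_index M'
  rw [hW60] at hmul
  have hcore : M'.normalCore = ⊥ := by
    rcases (inferInstance : M'.normalCore.Normal).eq_bot_or_eq_top with h1 | h1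
    · exact h1
    · exact absurd (top_le_iff.mp (h1.symm.le.trans M'.normalCore_le)) hse.1
  have hfac := card_dvd_factorial hcore
  rw [hW60] at hfac
  have hne : Nat.card M' ≠ 4 := by
    intro hM4
    have heq : (P' : Subgroup W) = M' :=
      Subgroup.eq_of_le_of_card_ge hP'M (by rw [hM4, hP'4])
    refine JOneEnd.not_normalizer_le P' ?_ ?_ ?_
    · intro h1
      rw [h1, Subgroup.card_bot] at hP'4
      omega
    · intro h1
      rw [h1, Subgroup.card_top, hW60] at hP'4
      omega
    · intro n hn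
      obtain ⟨t, ht, ht1⟩ := h.exists_ne
      have hnM : n ∈ (P' : Subgroup W) := by
        rw [heq]
        show (n : X) ∈ M
        have hn' := inv_mem hn
        have h1 : n⁻¹ * ⟨t, hPW ht⟩ * n⁻¹⁻¹ ∈ P' :=
          (Subgroup.mem_normalizer_iff.mp hn' _).mp ht
        refine h.ctl t ht ht1 n ?_
        have h2 : (n : X)⁻¹ * t * (n : X)⁻¹⁻¹ ∈ P := h1
        rw [inv_inv] at h2
        exact h.le h2
      rw [Subgroup.mem_centralizer_iff]
      intro y hy
      have hyP : (y : X) ∈ P := hy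
      have hnP : (n : X) ∈ P := hnM
      apply Subtype.ext
      show (y : X) * n = n * y
      have h1 := h.exp _ hyP
      have h2 := h.exp _ hnP
      have h3 := h.exp _ (mul_mem hyP hnP)
      have h4 : (n : X) * y = ((y : X) * (n : X))⁻¹ := by
        rw [mul_inv_rev (y : X) (n : X), inv_eq_of_mul_eq_one_left h1,
          inv_eq_of_mul_eq_one_left h2]
      rw [h4]
      exact eq_inv_of_mul_eq_one_left h3
  have hidx : M'.index ≠ 1 := fun h1 => hse.1 (Subgroup.index_eq_one.mp h1)
  obtain ⟨k, hk⟩ := h4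
  rw [hk] at hmul hne ⊢
  have h15 : k * M'.index = 15 := by
    have : 4 * (k * M'.index) = 60 := by rw [← hmul]; ring
    omega
  have hkd : k ∣ 15 := ⟨_, h15.symm⟩
  have hk15 : k ≤ 15 := Nat.le_of_dvd (by norm_num) hkd
  interval_cases k
  · omega
  · omega
  · omega
  · rfl
  · omega
  · exfalso
    have h3 : M'.index = 3 := by omega
    rw [h3] at hfac
    norm_num [Nat.factorial] at hfac
  all_goals omega

/-- `X = W M`. -/
theorem Emb.exists_mul (h : Emb M P) (g : X) :
    ∃ w ∈ Subgroup.normalClosure ((P : Subgroup X) : Set X), ∃ m ∈ M, g = w * m := by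
  have hfact : Fact (Nat.Prime 2) := ⟨Nat.prime_two⟩
  set W := Subgroup.normalClosure ((P : Subgroup X) : Set X) with hWdef
  have hPW : (P : Subgroup X) ≤ W := Subgroup.subset_normalClosure
  have hW : W.Normal := inferInstance
  obtain ⟨c, hc, hle⟩ := exists_conj_le (K := W) (P.subtype hPW)
    (Q := (P : Subgroup X).map (MulAut.conj g).toMonoidHom) (P.2.map _) (by
      rintro _ ⟨q, hq, rfl⟩
      exact hW.conj_mem q (hPW hq) g)
  obtain ⟨t, ht, ht1⟩ := h.exists_ne
  obtain ⟨z, hz, hzc⟩ := hle ⟨_, ⟨t, ht, rfl⟩, rfl⟩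
  have hzc' : (z : X) = c * (g * t * g⁻¹) * c⁻¹ := hzc
  have hz' : (z : X) ∈ P := hz
  refine ⟨c⁻¹, W.inv_mem hc, c * g, ?_, by group⟩
  refine h.ctl z hz' ?_ _ ?_
  · intro h1
    apply ht1
    have h2 : t = (c * g)⁻¹ * (z : X) * (c * g) := by rw [hzc']; group
    rw [h2, h1]; group
  · have h2 : (c * g)⁻¹ * (z : X) * (c * g) = t := by rw [hzc']; group
    rw [h2]; exact h.le ht

theorem Emb.index_eq (hB : BenderThm.{u}) (h : Emb M P) : M.index = 5 := by
  have hW60 := Emb.card_closure hB h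
  have hM12 := Emb.card_inf hB h
  set W := Subgroup.normalClosure ((P : Subgroup X) : Set X) with hWdef
  have hW : W.Normal := inferInstance
  have h1 : (M.subgroupOf W).index = 5 := by
    have h2 := Subgroup.card_mul_index (M.subgroupOf W)
    rw [hW60, hM12] at h2
    omega
  have htop : W ⊔ M = ⊤ := by
    rw [eq_top_iff]
    intro g _
    obtain ⟨w, hw, m, hm, rfl⟩ := Emb.exists_mul h g
    exact mul_mem (Subgroup.mem_sup_left hw) (Subgroup.mem_sup_right hm)
  have h2 : W.relIndex M = W.index := by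
    rw [← Subgroup.relIndex_sup_left M W, htop, Subgroup.relIndex_top_right]
  have h3 := Subgroup.relIndex_mul_index (inf_le_left : M ⊓ W ≤ M)
  have h4 := Subgroup.relIndex_mul_index (inf_le_right : M ⊓ W ≤ W)
  rw [Subgroup.inf_relIndex_left, h2] at h3
  rw [Subgroup.inf_relIndex_right, ← h3, mul_comm] at h4
  have h5 : M.relIndex W = M.index := Nat.eq_of_mul_eq_mul_left
    (Nat.pos_of_ne_zero W.index_ne_zero_of_finite) h4
  rw [← h5]
  exact h1

/-- **Lemma Four**: `X ≅ A₅`. -/
theorem Emb.equiv (hB : BenderThm.{u}) (h : Emb M P) :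
    Nonempty (X ≃* alternatingGroup (Fin 5)) := by
  classical
  have hW60 := Emb.card_closure hB h
  have hidx := Emb.index_eq hB h
  have hinj : Function.Injective (MulAction.toPermHom X (X ⧸ M)) := by
    rw [← MonoidHom.ker_eq_bot_iff, ← Subgroup.normalCore_eq_ker, h.core]
  have hdvd : Nat.card X ∣ 120 := by
    have := card_dvd_factorial h.core
    rwa [hidx] at this
  have h60 : 60 ∣ Nat.card X := by
    rw [← hW60]; exact Subgroup.card_subgroup_dvd_card _
  have h8 := Emb.not_dvd h
  have hX : Nat.card X = 60 := by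
    obtain ⟨k, hk⟩ := h60
    rw [hk] at hdvd h8 ⊢
    have h1 : k ∣ 2 := (Nat.mul_dvd_mul_iff_left (by norm_num : 0 < 60)).mp hdvd
    rcases (Nat.dvd_prime Nat.prime_two).mp h1 with rfl | rfl
    · rfl
    · exact absurd (by norm_num) h8
  have hcardQ : Nat.card (X ⧸ M) = 5 := hidx
  have hperm : Nat.card (Equiv.Perm (X ⧸ M)) = 120 := by
    rw [Nat.card_perm, hcardQ]; rfl
  have hrange : Nat.card (MulAction.toPermHom X (X ⧸ M)).range = 60 := by
    rw [← hX]
    exact (Nat.card_congr (MonoidHom.ofInjective hinj).toEquiv).symm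
  have hidx2 : (MulAction.toPermHom X (X ⧸ M)).range.index = 2 := by
    have := Subgroup.card_mul_index (MulAction.toPermHom X (X ⧸ M)).range
    rw [hrange, hperm] at this
    omega
  let _ : Fintype (X ⧸ M) := Fintype.ofFinite _
  have halt := Equiv.Perm.eq_alternatingGroup_of_index_eq_two hidx2
  have hF : Fintype.card (X ⧸ M) = Fintype.card (Fin 5) := by
    rw [Fintype.card_fin, ← Nat.card_eq_fintype_card]; exact hcardQ
  exact ⟨(MonoidHom.ofInjective hinj).trans ((MulEquiv.subgroupCongr halt).trans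
    (Fintype.equivOfCardEq hF).altCongrHom)⟩

end Cfsg.Agent.TwoGenCore.NonCycAlt
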