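import Cfsg.Agent.TwoGenCore.GoodCentral
import Cfsg.Agent.Classification.TypeB.Basic

/-!
# Strong embedding with a four-group as Sylow 2-subgroup

`X` finite, `M < X` with trivial normal core, `P ≤ M` a Sylow 2-subgroup of `X` of order 4 and
exponent 2, and `g⁻¹xg ∈ M` implies `g ∈ M` for every involution `x` of `P`.  Then the normal
closure of `P` is simple.
-/

set_option autoImplicit false

open scoped Pointwise

namespace Cfsg.Agent.TwoGenCore.NonCycFour

open Cfsg Cfsg.Agent.TwoGenCore.GoodFusion Cfsg.Agent.TwoGenCore.GoodCentral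
open Cfsg.Agent.Classification.TypeB.Basic

universe u

/-- The hypotheses on `X`, `M`, `P`. -/
structure Emb {X : Type u} [Group X] (M : Subgroup X) (P : Sylow 2 X) : Prop where
  le : (P : Subgroup X) ≤ M
  ne_top : M ≠ ⊤
  card : Nat.card P = 4
  exp : ∀ x ∈ P, x * x = 1
  ctl : ∀ x ∈ P, x ≠ 1 → ∀ g : X, g⁻¹ * x * g ∈ M → g ∈ M
  core : M.normalCore = ⊥

set_option linter.unusedSectionVars false

variable {X : Type u} [Group X] [Finite X] {M : Subgroup X} {P : Sylow 2 X}

/-- Two different involutions of `P`. -/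
theorem Emb.exists_pair (h : Emb M P) : ∃ t ∈ P, ∃ u ∈ P, t ≠ 1 ∧ u ≠ 1 ∧ t ≠ u ∧ t * u ≠ 1 ∧
    t * u = u * t := by
  have h4 := h.card
  have h1 : (1 : X) ∈ P := one_mem _
  obtain ⟨t, ht⟩ : ∃ t : P, t ≠ 1 := by
    by_contra hcon
    push Not at hcon
    have : Subsingleton P := ⟨fun a b => by rw [hcon a, hcon b]⟩
    have h5 : Nat.card P = 1 := Nat.card_of_subsingleton (1 : P)
    have h6 : (1 : ℕ) = 4 := h5.symm.trans h4
    omega
  obtain ⟨u, hu⟩ : ∃ u : P, u ≠ 1 ∧ u ≠ t := by
    by_contra hcon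
    push Not at hcon
    have hle : Nat.card P ≤ 2 := by
      have hsub : (Set.univ : Set P) ⊆ {1, t} := by
        intro a _
        by_cases ha : a = 1
        · left; exact ha
        · right; exact hcon a ha
      have := (Set.ncard_le_ncard hsub (Set.toFinite _)).trans (Set.ncard_insert_le _ _)
      rw [Set.ncard_univ, Set.ncard_singleton] at this
      exact this
    omega
  have ht1 : (t : X) ≠ 1 := fun h => ht (Subtype.ext h)
  have hu1 : (u : X) ≠ 1 := fun h => hu.1 (Subtype.ext h)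
  have htu : (t : X) ≠ u := fun h => hu.2 (Subtype.ext h).symm
  have htt := h.exp t t.2
  have huu := h.exp u u.2
  have hinv : ((t : X) * u) * (t * u) = 1 := h.exp _ (mul_mem t.2 u.2)
  refine ⟨t, t.2, u, u.2, ht1, hu1, htu, ?_, ?_⟩
  · intro h2
    apply htu
    calc (t : X) = t * (u * u) := by rw [huu, mul_one]
      _ = (t * u) * u := by group
      _ = u := by rw [h2, one_mul]
  · calc (t : X) * u = t * u * ((t * u) * (t * u)) := by rw [hinv, mul_one]
      _ = t * u * t * (u * t) * u := by group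
      _ = t * (u * t) * (u * t * u) := by group
      _ = u * t := by
        have h3 : (t : X) * (u * t) * (u * t * u) = (t * u) * (t * u) * (t * u) := by group
        have h4 : (u : X) * t = ((t : X) * (u : X))⁻¹ := by
          rw [mul_inv_rev (t : X) (u : X), inv_eq_of_mul_eq_one_left htt,
            inv_eq_of_mul_eq_one_left huu]
        rw [h3, hinv, one_mul, h4]
        exact eq_inv_of_mul_eq_one_left hinv

/-- `P = {1, t, u, tu}`. -/
theorem Emb.eq_of_mem (h : Emb M P) {t u : X} (ht : t ∈ P) (hu : u ∈ P) (ht1 : t ≠ 1)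
    (hu1 : u ≠ 1) (htu : t ≠ u) {L : Subgroup X} (htL : t ∈ L) (huL : u ∈ L) :
    (P : Subgroup X) ≤ L := by
  classical
  have hsq : ∀ x ∈ P, x * x = 1 := h.exp
  have h1 : (1 : X) ∉ ({t, u, t * u} : Set X) := by
    rintro (h2 | h2 | h2)
    · exact ht1 h2.symm
    · exact hu1 h2.symm
    · apply htu
      have h3 : 1 = t * u := h2
      calc t = t * (u * u) := by rw [hsq u hu, mul_one]
        _ = (t * u) * u := by group
        _ = u := by rw [← h3, one_mul]
  have h2 : t ∉ ({u, t * u} : Set X) := by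
    rintro (h2 | h2)
    · exact htu h2
    · exact hu1 (by simpa using h2)
  have h3 : u ∉ ({t * u} : Set X) := by
    intro h2
    exact ht1 (by simpa using h2)
  have hcard : ({1, t, u, t * u} : Set X).ncard = 4 := by
    rw [Set.ncard_insert_of_notMem h1 (Set.toFinite _),
      Set.ncard_insert_of_notMem h2 (Set.toFinite _),
      Set.ncard_insert_of_notMem h3 (Set.toFinite _), Set.ncard_singleton]
  have hsub : ({1, t, u, t * u} : Set X) ⊆ ((P : Subgroup X) : Set X) := by
    rintro x (rfl | rfl | rfl | rfl)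
    · exact one_mem _
    · exact ht
    · exact hu
    · exact mul_mem ht hu
  have hPc : ((P : Subgroup X) : Set X).ncard = 4 := by
    rw [Set.ncard_def, Set.encard, ENat.card, ← h.card]
    rfl
  have heq := Set.eq_of_subset_of_ncard_le hsub (by rw [hcard, hPc]) (Set.toFinite _)
  intro x hx
  have hx' : x ∈ ({1, t, u, t * u} : Set X) := by rw [heq]; exact hx
  rcases hx' with rfl | rfl | rfl | rfl
  · exact one_mem _
  · exact htL
  · exact huL
  · exact mul_mem htL huL

/-- An odd order subgroup normalised by `P` is contained in `M`. -/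
theorem Emb.odd_le (h : Emb M P) {Y : Subgroup X} (hY : Odd (Nat.card Y))
    (hn : (P : Subgroup X) ≤ Subgroup.normalizer (Y : Set X)) : Y ≤ M := by
  obtain ⟨t, ht, u, hu, ht1, hu1, htu, htu1, hc⟩ := h.exists_pair
  have key : ∀ x ∈ P, x ≠ 1 → Y ⊓ Subgroup.centralizer ({x} : Set X) ≤ M := by
    rintro x hx hx1 y ⟨-, hy⟩
    refine h.ctl x hx hx1 y ?_
    have h1 : y * x = x * y := (mem_centralizer_singleton.mp hy).eq
    have h2 : y⁻¹ * x * y = x := by
      rw [mul_assoc, ← h1]; group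
    rw [h2]; exact h.le hx
  exact le_of_four hY ⟨h.exp t ht, ht1⟩ ⟨h.exp u hu, hu1⟩ hc (hn ht) (hn hu)
    (key t ht ht1) (key u hu hu1) (key _ (mul_mem ht hu) htu1)

theorem Emb.exists_ne (h : Emb M P) : ∃ t ∈ P, t ≠ 1 := by
  obtain ⟨t, ht, -, -, ht1, -⟩ := h.exists_pair
  exact ⟨t, ht, ht1⟩

theorem Emb.le_bot (h : Emb M P) {Y : Subgroup X} (hY : ∀ g : X, ∀ y ∈ Y, g * y * g⁻¹ ∈ M) :
    Y = ⊥ := by
  rw [eq_bot_iff, ← h.core]
  intro y hy b
  exact hY b y hy

theorem Emb.not_le (h : Emb M P) : ¬ Subgroup.normalClosure ((P : Subgroup X) : Set X) ≤ M := by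
  intro hle
  have h1 := h.le_bot (Y := Subgroup.normalClosure ((P : Subgroup X) : Set X)) (fun g y hy =>
    hle ((inferInstance : (Subgroup.normalClosure ((P : Subgroup X) : Set X)).Normal).conj_mem
      y hy g))
  obtain ⟨t, ht, ht1⟩ := h.exists_ne
  have h2 : t ∈ Subgroup.normalClosure ((P : Subgroup X) : Set X) :=
    Subgroup.subset_normalClosure ht
  rw [h1, Subgroup.mem_bot] at h2
  exact ht1 h2

/-- The centralizer of an involution of `P` is contained in `M`. -/
theorem Emb.centralizer_le (h : Emb M P) {x : X} (hx : x ∈ P) (hx1 : x ≠ 1) :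
    Subgroup.centralizer ({x} : Set X) ≤ M := by
  intro y hy
  refine h.ctl x hx hx1 y ?_
  have h1 : y * x = x * y := (mem_centralizer_singleton.mp hy).eq
  have h2 : y⁻¹ * x * y = x := by
    rw [mul_assoc, ← h1]; group
  rw [h2]; exact h.le hx

/-- Subgroups normalised by `⟨P^X⟩` of odd order are trivial. -/
theorem Emb.odd_eq_bot (h : Emb M P) {Y : Subgroup X} (hY : Odd (Nat.card Y))
    (hn : Subgroup.normalClosure ((P : Subgroup X) : Set X) ≤ Subgroup.normalizer (Y : Set X)) :
    Y = ⊥ := by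
  refine h.le_bot ?_
  intro g y hy
  have hW := (inferInstance : (Subgroup.normalClosure ((P : Subgroup X) : Set X)).Normal)
  have h1 : Odd (Nat.card (Y.map (MulAut.conj g).toMonoidHom)) := by
    rwa [Nat.card_congr (Subgroup.equivMapOfInjective Y _ (MulAut.conj g).injective).symm.toEquiv]
  refine h.odd_le h1 ?_ ⟨y, hy, rfl⟩
  intro p hp
  have hpW : g⁻¹ * p * g ∈ Subgroup.normalClosure ((P : Subgroup X) : Set X) := by
    have := hW.conj_mem p (Subgroup.subset_normalClosure hp) g⁻¹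
    rwa [inv_inv] at this
  have h2 := hn hpW
  rw [Subgroup.mem_normalizer_iff] at h2 ⊢
  intro z
  have e1 : ∀ z : X, z ∈ Y.map (MulAut.conj g).toMonoidHom ↔ g⁻¹ * z * g ∈ Y := by
    intro z
    constructor
    · rintro ⟨w, hw, rfl⟩
      have : g⁻¹ * ((MulAut.conj g).toMonoidHom w) * g = w := by
        show g⁻¹ * (g * w * g⁻¹) * g = w
        group
      rw [this]; exact hw
    · intro hz
      refine ⟨_, hz, ?_⟩
      show g * (g⁻¹ * z * g) * g⁻¹ = z
      group
  rw [e1, e1, h2]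
  have e2 : g⁻¹ * p * g * (g⁻¹ * z * g) * (g⁻¹ * p * g)⁻¹ = g⁻¹ * (p * z * p⁻¹) * g := by group
  rw [e2]

/-- **Dichotomy**: a subgroup of `W = ⟨P^X⟩` normalised by `W` is trivial or equal to `W`. -/
theorem Emb.dichotomy (h : Emb M P) {N : Subgroup X}
    (hNW : N ≤ Subgroup.normalClosure ((P : Subgroup X) : Set X))
    (hn : Subgroup.normalClosure ((P : Subgroup X) : Set X) ≤ Subgroup.normalizer (N : Set X)) :
    N = ⊥ ∨ Subgroup.normalClosure ((P : Subgroup X) : Set X) ≤ N := by
  classical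
  have hfact : Fact (Nat.Prime 2) := ⟨Nat.prime_two⟩
  set W := Subgroup.normalClosure ((P : Subgroup X) : Set X) with hWdef
  have hW : W.Normal := inferInstance
  have hPW : (P : Subgroup X) ≤ W := Subgroup.subset_normalClosure
  have hnc : ∀ w ∈ W, ∀ y ∈ N, w * y * w⁻¹ ∈ N := fun w hw y hy =>
    (Subgroup.mem_normalizer_iff.mp (hn hw) y).mp hy
  rcases Nat.even_or_odd (Nat.card N) with hev | hodd
  swap
  · exact Or.inl (h.odd_eq_bot hodd hn)
  -- an involution of `P ∩ N`
  obtain ⟨x, hxP, hxN, hx1⟩ : ∃ x ∈ P, x ∈ N ∧ x ≠ 1 := by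
    obtain ⟨y, hy⟩ := exists_prime_orderOf_dvd_card' 2 hev.two_dvd
    have hy2 : orderOf (y : X) = 2 := by rw [Subgroup.orderOf_coe]; exact hy
    obtain ⟨c, hc, hle⟩ := exists_conj_le (K := W) (P.subtype hPW) (isPGroup_zpowers hy2)
      (by rw [Subgroup.zpowers_le]; exact hNW y.2)
    obtain ⟨z, hz, hzc⟩ := hle ⟨(y : X), Subgroup.mem_zpowers _, rfl⟩
    have hzc' : (z : X) = c * y * c⁻¹ := hzc
    refine ⟨c * y * c⁻¹, ?_, hnc c hc y y.2, ?_⟩
    · rw [← hzc']; exact hz
    · intro h1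
      have : (y : X) = 1 := by
        have h2 : (y : X) = c⁻¹ * (c * y * c⁻¹) * c := by group
        rw [h2, h1]; group
      rw [this] at hy2
      simp at hy2
  -- if `P ∩ N` contains two involutions then `W ≤ N`
  by_cases hex : ∃ y ∈ P, y ∈ N ∧ y ≠ 1 ∧ x ≠ y
  · right
    obtain ⟨y, hyP, hyN, hy1, hxy⟩ := hex
    have hPN : (P : Subgroup X) ≤ N := h.eq_of_mem hxP hyP hx1 hy1 hxy hxN hyN
    rw [hWdef, Subgroup.normalClosure, Subgroup.closure_le]
    intro a ha
    obtain ⟨p, hp, hpa⟩ := Group.mem_conjugatesOfSet_iff.mp ha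
    obtain ⟨g, rfl⟩ := isConj_iff.mp hpa
    obtain ⟨c, hc, hle⟩ := exists_conj_le (K := W) (P.subtype hPW)
      (Q := (P : Subgroup X).map (MulAut.conj g).toMonoidHom) (P.2.map _) (by
        rintro _ ⟨q, hq, rfl⟩
        exact hW.conj_mem q (hPW hq) g)
    obtain ⟨z, hz, hzc⟩ := hle ⟨_, ⟨p, hp, rfl⟩, rfl⟩
    have hzc' : (z : X) = c * (g * p * g⁻¹) * c⁻¹ := hzc
    have h1 : c * (g * p * g⁻¹) * c⁻¹ ∈ N := by rw [← hzc']; exact hPN hz
    have h2 := hnc c⁻¹ (W.inv_mem hc) _ h1
    have h3 : c⁻¹ * (c * (g * p * g⁻¹) * c⁻¹) * c⁻¹⁻¹ = g * p * g⁻¹ := by group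
    rwa [h3] at h2
  · exfalso
    push Not at hex
    -- the Sylow 2-subgroup `{1, x}` of `N`
    have hPN : ∀ y ∈ P, y ∈ N → y = 1 ∨ y = x := by
      intro y hy hyN
      by_cases hy1 : y = 1
      · exact Or.inl hy1
      · exact Or.inr (hex y hy hyN hy1).symm
    obtain ⟨T⟩ : Nonempty (Sylow 2 N) := inferInstance
    obtain ⟨c, hc, hle⟩ := exists_conj_le (K := W) (P.subtype hPW)
      (Q := (T : Subgroup N).map N.subtype) (T.2.map _) ((Subgroup.map_subtype_le _).trans hNW)
    have hT : ∀ t ∈ T, t ≠ 1 → c * (t : X) * c⁻¹ = x := by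
      intro t ht ht1
      obtain ⟨z, hz, hzc⟩ := hle ⟨_, ⟨t, ht, rfl⟩, rfl⟩
      have hzc' : (z : X) = c * (t : X) * c⁻¹ := hzc
      have h1 : c * (t : X) * c⁻¹ ∈ P := by rw [← hzc']; exact hz
      refine (hPN _ h1 (hnc c hc t t.2)).resolve_left ?_
      intro h2
      apply ht1
      apply Subtype.ext
      have h3 : (t : X) = c⁻¹ * (c * t * c⁻¹) * c := by group
      rw [h3, h2]; simp
    have hTT : ∀ s ∈ T, ∀ t ∈ T, s ≠ 1 → t ≠ 1 → s = t := by
      intro s hs t ht hs1 ht1
      have h1 : c * (s : X) * c⁻¹ = c * (t : X) * c⁻¹ := by rw [hT s hs hs1, hT t ht ht1]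
      exact Subtype.ext (mul_left_cancel (mul_right_cancel h1))
    have hNC : Subgroup.normalizer ((T : Subgroup N) : Set N) ≤
        Subgroup.centralizer ((T : Subgroup N) : Set N) := by
      intro n hn
      rw [Subgroup.mem_centralizer_iff]
      intro t ht
      by_cases ht1 : t = 1
      · rw [ht1, one_mul, mul_one]
      · have h1 : n * t * n⁻¹ ∈ T := (Subgroup.mem_normalizer_iff.mp hn t).mp ht
        have h2 : n * t * n⁻¹ ≠ 1 := by
          intro h3
          apply ht1
          have h4 : t = n⁻¹ * (n * t * n⁻¹) * n := by group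
          rw [h4, h3]; simp
        have h3 := hTT _ h1 t ht h2 ht1
        rw [mul_inv_eq_iff_eq_mul] at h3
        exact h3.symm
    have hcomp := MonoidHom.ker_transferSylow_isComplement' T hNC
    have hnd := MonoidHom.not_dvd_card_ker_transferSylow T hNC
    set f := MonoidHom.transferSylow T hNC with hf
    have hY : ∀ y : X, y ∈ f.ker.map N.subtype ↔ y ∈ N ∧ Odd (orderOf y) := by
      intro y
      constructor
      · rintro ⟨n, hn', rfl⟩
        refine ⟨n.2, ?_⟩
        have h1 : orderOf n ∣ Nat.card f.ker := by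
          have := orderOf_dvd_natCard (⟨n, hn'⟩ : f.ker)
          rwa [Subgroup.orderOf_mk] at this
        have h2 : orderOf (N.subtype n) = orderOf n := Subgroup.orderOf_coe n
        rw [h2, ← Nat.not_even_iff_odd, even_iff_two_dvd]
        exact fun h3 => hnd (h3.trans h1)
      · rintro ⟨hyN, hy⟩
        refine ⟨⟨y, hyN⟩, ?_, rfl⟩
        have h1 : orderOf (f ⟨y, hyN⟩) ∣ orderOf y := by
          have e : orderOf (⟨y, hyN⟩ : N) = orderOf y := Subgroup.orderOf_mk y hyN
          rw [← e]; exact orderOf_map_dvd f _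
        obtain ⟨k, hk⟩ := (IsPGroup.iff_orderOf.mp T.2) (f ⟨y, hyN⟩)
        rw [hk] at h1
        have h3 : k = 0 := by
          by_contra hk0
          have h4 : 2 ∣ orderOf y := (dvd_pow_self 2 hk0).trans h1
          rw [← Nat.not_even_iff_odd, even_iff_two_dvd] at hy
          exact hy h4
        rw [h3, pow_zero, orderOf_eq_one_iff] at hk
        exact hk
    have hYbot : f.ker.map N.subtype = ⊥ := by
      refine h.odd_eq_bot ?_ ?_
      · rw [Nat.card_congr (Subgroup.equivMapOfInjective f.ker _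
          N.subtype_injective).symm.toEquiv, ← Nat.not_even_iff_odd, even_iff_two_dvd]
        exact hnd
      · intro w hw
        rw [Subgroup.mem_normalizer_iff]
        intro y
        rw [hY, hY, orderOf_conj]
        exact and_congr_left' (Subgroup.mem_normalizer_iff.mp (hn hw) y)
    have hker : f.ker = ⊥ := by
      rw [Subgroup.map_eq_bot_iff, Subgroup.ker_subtype, le_bot_iff] at hYbot
      exact hYbot
    rw [hker] at hcomp
    have hTtop := Subgroup.isComplement'_bot_left.mp hcomp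
    have hmemT : ∀ n : N, n ∈ T := fun n => by
      have : n ∈ (T : Subgroup N) := by rw [hTtop]; trivial
      exact this
    apply h.not_le
    intro w hw
    refine h.centralizer_le hxP hx1 (mem_centralizer_singleton.mpr ?_)
    have h1 : (⟨w * x * w⁻¹, hnc w hw x hxN⟩ : N) ≠ 1 := by
      intro h2
      have h3 : w * x * w⁻¹ = 1 := congrArg Subtype.val h2
      apply hx1
      have h4 : x = w⁻¹ * (w * x * w⁻¹) * w := by group
      rw [h4, h3]; simp
    have h2 := hTT _ (hmemT _) ⟨x, hxN⟩ (hmemT _) h1 (fun h2 => hx1 (congrArg Subtype.val h2))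
    have h3 : w * x * w⁻¹ = x := congrArg Subtype.val h2
    rw [mul_inv_eq_iff_eq_mul] at h3
    exact h3

/-- `W = ⟨P^X⟩` is simple. -/
theorem Emb.isSimpleGroup (h : Emb M P) :
    IsSimpleGroup (Subgroup.normalClosure ((P : Subgroup X) : Set X)) := by
  set W := Subgroup.normalClosure ((P : Subgroup X) : Set X) with hWdef
  have hPW : (P : Subgroup X) ≤ W := Subgroup.subset_normalClosure
  obtain ⟨t, ht, ht1⟩ := h.exists_ne
  have hnt : Nontrivial W := ⟨⟨⟨t, hPW ht⟩, 1, fun h1 => ht1 (congrArg Subtype.val h1)⟩⟩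
  refine ⟨fun N hN => ?_⟩
  have h1 := h.dichotomy (N := N.map W.subtype) (Subgroup.map_subtype_le _) (by
    intro w hw
    rw [Subgroup.mem_normalizer_iff]
    intro y
    constructor
    · rintro ⟨n, hn, rfl⟩
      exact ⟨⟨w, hw⟩ * n * ⟨w, hw⟩⁻¹, hN.conj_mem n hn ⟨w, hw⟩, rfl⟩
    · rintro ⟨n, hn, hny⟩
      have hny' : (n : X) = w * y * w⁻¹ := hny
      refine ⟨⟨w, hw⟩⁻¹ * n * ⟨w, hw⟩⁻¹⁻¹, hN.conj_mem n hn (⟨w, hw⟩⁻¹ : W), ?_⟩
      show w⁻¹ * (n : X) * w⁻¹⁻¹ = y
      rw [hny']; group)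
  rcases h1 with h1 | h1
  · left
    rw [Subgroup.map_eq_bot_iff, Subgroup.ker_subtype, le_bot_iff] at h1
    exact h1
  · right
    rw [eq_top_iff]
    rintro ⟨w, hw⟩ -
    obtain ⟨n, hn, hnw⟩ := h1 hw
    have : n = ⟨w, hw⟩ := Subtype.ext hnw
    rwa [← this]

/-- `M ∩ W` is strongly embedded in `W`. -/
theorem Emb.isStronglyEmbedded (h : Emb M P) :
    IsStronglyEmbedded (M.subgroupOf (Subgroup.normalClosure ((P : Subgroup X) : Set X))) := by
  have hfact : Fact (Nat.Prime 2) := ⟨Nat.prime_two⟩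
  set W := Subgroup.normalClosure ((P : Subgroup X) : Set X) with hWdef
  have hPW : (P : Subgroup X) ≤ W := Subgroup.subset_normalClosure
  obtain ⟨t, ht, ht1⟩ := h.exists_ne
  have ht2 : orderOf t = 2 := orderOf_eq_two (h.exp t ht) ht1
  refine ⟨?_, ?_, ?_⟩
  · intro h1
    rw [Subgroup.subgroupOf_eq_top] at h1
    exact h.not_le h1
  · rw [even_iff_two_dvd]
    have h1 : (⟨t, hPW ht⟩ : W) ∈ M.subgroupOf W := h.le ht
    have h2 := orderOf_dvd_natCard (⟨⟨t, hPW ht⟩, h1⟩ : M.subgroupOf W)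
    rwa [Subgroup.orderOf_mk, Subgroup.orderOf_mk, ht2] at h2
  · intro g hg
    by_contra hodd
    rw [Nat.not_odd_iff_even, even_iff_two_dvd] at hodd
    obtain ⟨y, hy⟩ := exists_prime_orderOf_dvd_card' 2 hodd
    have hy2 : orderOf ((y : W) : X) = 2 := by
      rw [Subgroup.orderOf_coe, Subgroup.orderOf_coe]; exact hy
    have hyM : ((y : W) : X) ∈ M := y.2.1
    obtain ⟨m, hm, hmy⟩ := y.2.2
    have hmy' : g * m * g⁻¹ = (y : W) := hmy
    have hmM : (m : X) ∈ M := hm
    obtain ⟨c, hc, hle⟩ := exists_conj_le (K := M) (P.subtype h.le) (isPGroup_zpowers hy2)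
      (by rw [Subgroup.zpowers_le]; exact hyM)
    obtain ⟨z, hz, hzc⟩ := hle ⟨((y : W) : X), Subgroup.mem_zpowers _, rfl⟩
    have hzc' : (z : X) = c * (y : W) * c⁻¹ := hzc
    have hzP : c * ((y : W) : X) * c⁻¹ ∈ P := by rw [← hzc']; exact hz
    apply hg
    show (g : X) ∈ M
    have h1 : c * (g : X) ∈ M := by
      refine h.ctl _ hzP ?_ _ ?_
      · intro h2
        have h3 : orderOf (c * ((y : W) : X) * c⁻¹) = 2 := by rw [orderOf_conj]; exact hy2
        rw [h2, orderOf_one] at h3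
        omega
      · have h2 : (c * (g : X))⁻¹ * (c * ((y : W) : X) * c⁻¹) * (c * g) = m := by
          rw [← hmy']
          push_cast
          group
        rw [h2]; exact hmM
    have h2 := M.mul_mem (M.inv_mem hc) h1
    rwa [inv_mul_cancel_left] at h2

theorem Emb.noncomm (h : Emb M P) :
    ∃ a b : Subgroup.normalClosure ((P : Subgroup X) : Set X), a * b ≠ b * a := by
  by_contra hcon
  push Not at hcon
  apply h.not_le
  obtain ⟨t, ht, ht1⟩ := h.exists_ne
  intro w hw
  refine h.centralizer_le ht ht1 (mem_centralizer_singleton.mpr ?_)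
  exact congrArg Subtype.val (hcon ⟨w, hw⟩ ⟨t, Subgroup.subset_normalClosure ht⟩)

end Cfsg.Agent.TwoGenCore.NonCycFour
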