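import Cfsg.Agent.TwoGenCore.Connected
import Cfsg.Agent.LieClassical.SLGen

/-!
# `PSL(3, F)`, `|F|` odd, has no proper 2-generated core
-/

set_option autoImplicit false
set_option linter.unusedSimpArgs false
set_option linter.unusedVariables false

namespace Cfsg.Agent.TwoGenCore.PSLThree

open Cfsg Subgroup Cfsg.Agent.TwoGenCore Cfsg.Agent.TwoGenCore.Connected Matrix
  Matrix.SpecialLinearGroup

variable {F : Type*} [Field F]

/-- diagonal matrices -/
def dg (a b : Fˣ) : SpecialLinearGroup (Fin 3) F :=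
  ⟨!![(a : F), 0, 0; 0, (b : F), 0; 0, 0, ((a * b)⁻¹ : Fˣ)], by
    rw [Matrix.det_fin_three]
    simp
    field_simp⟩

/-- the transposition of the first two vectors -/
def sw : SpecialLinearGroup (Fin 3) F :=
  ⟨!![0, 1, 0; 1, 0, 0; 0, 0, -1], by rw [Matrix.det_fin_three]; simp⟩

/-- the cyclic permutation -/
def cy : SpecialLinearGroup (Fin 3) F :=
  ⟨!![0, 0, 1; 1, 0, 0; 0, 1, 0], by rw [Matrix.det_fin_three]; simp⟩

/-- the block `[[1,1],[1,-1]]` -/
def had (h2 : (2 : F) ≠ 0) : SpecialLinearGroup (Fin 3) F :=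
  ⟨!![1, 1, 0; 1, -1, 0; 0, 0, -(2 : F)⁻¹], by
    rw [Matrix.det_fin_three]
    simp
    field_simp
    ring⟩

/-- elementary matrix -/
def el (t : F) : SpecialLinearGroup (Fin 3) F :=
  ⟨!![1, t, 0; 0, 1, 0; 0, 0, 1], by rw [Matrix.det_fin_three]; simp⟩

theorem mval (A B : SpecialLinearGroup (Fin 3) F) : (A * B).1 = A.1 * B.1 := rfl

theorem dg_mul (a b c d : Fˣ) : dg a b * dg c d = dg (a * c) (b * d) := by
  apply Subtype.ext
  simp only [mval]
  ext i j
  fin_cases i <;> fin_cases j <;>
    simp [dg, Matrix.mul_apply, Fin.sum_univ_three, mul_comm, mul_assoc, mul_left_comm]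

theorem dg_comm (a b c d : Fˣ) : dg a b * dg c d = dg c d * dg a b := by
  rw [dg_mul, dg_mul, mul_comm a, mul_comm b]

theorem dg_one : dg (1 : Fˣ) 1 = 1 := by
  apply Subtype.ext
  ext i j
  fin_cases i <;> fin_cases j <;> simp [dg]

theorem dg_inv (a b : Fˣ) : (dg a b)⁻¹ = dg a⁻¹ b⁻¹ := by
  rw [inv_eq_iff_mul_eq_one, dg_mul, mul_inv_cancel, mul_inv_cancel, dg_one]

abbrev x₀ : SpecialLinearGroup (Fin 3) F := dg 1 (-1)
abbrev y₀ : SpecialLinearGroup (Fin 3) F := dg (-1) 1

theorem xx : (x₀ : SpecialLinearGroup (Fin 3) F) * x₀ = 1 := by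
  rw [dg_mul]; simp [dg_one]
theorem yy : (y₀ : SpecialLinearGroup (Fin 3) F) * y₀ = 1 := by
  rw [dg_mul]; simp [dg_one]
theorem xy : (x₀ : SpecialLinearGroup (Fin 3) F) * y₀ = y₀ * x₀ := dg_comm _ _ _ _

/-- The diagonal four-group. -/
abbrev E₀ : Subgroup (SpecialLinearGroup (Fin 3) F) := fourSub x₀ y₀ xx yy xy

theorem sw_x : (sw : SpecialLinearGroup (Fin 3) F) * x₀ = y₀ * sw := by
  apply Subtype.ext
  simp only [mval]
  ext i j
  fin_cases i <;> fin_cases j <;> simp [sw, dg, Matrix.mul_apply, Fin.sum_univ_three]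

theorem sw_y : (sw : SpecialLinearGroup (Fin 3) F) * y₀ = x₀ * sw := by
  apply Subtype.ext
  simp only [mval]
  ext i j
  fin_cases i <;> fin_cases j <;> simp [sw, dg, Matrix.mul_apply, Fin.sum_univ_three]

theorem cy_x : (cy : SpecialLinearGroup (Fin 3) F) * x₀ = y₀ * cy := by
  apply Subtype.ext
  simp only [mval]
  ext i j
  fin_cases i <;> fin_cases j <;> simp [cy, dg, Matrix.mul_apply, Fin.sum_univ_three]

theorem cy_y : (cy : SpecialLinearGroup (Fin 3) F) * y₀ = (x₀ * y₀) * cy := by
  apply Subtype.ext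
  simp only [mval]
  ext i j
  fin_cases i <;> fin_cases j <;> simp [cy, dg, Matrix.mul_apply, Fin.sum_univ_three]

theorem had_x (h2 : (2 : F) ≠ 0) : had h2 * x₀ = sw * had h2 := by
  apply Subtype.ext
  simp only [mval]
  ext i j
  fin_cases i <;> fin_cases j <;> simp [had, sw, dg, Matrix.mul_apply, Fin.sum_univ_three]

theorem had_y (h2 : (2 : F) ≠ 0) : had h2 * y₀ = (sw * (x₀ * y₀)) * had h2 := by
  apply Subtype.ext
  simp only [mval]
  ext i j
  fin_cases i <;> fin_cases j <;> simp [had, sw, dg, Matrix.mul_apply, Fin.sum_univ_three]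

variable [Finite F]

theorem dg_mem_normalizer (a b : Fˣ) :
    dg a b ∈ normalizer ((E₀ (F := F) : Subgroup (SpecialLinearGroup (Fin 3) F)) : Set (SpecialLinearGroup (Fin 3) F)) := by
  refine mem_normalizer_fourSub _ _ _ ?_ ?_
  · rw [dg_comm, mul_inv_cancel_right]; exact left_mem_fourSub _ _ _
  · rw [dg_comm, mul_inv_cancel_right]; exact right_mem_fourSub _ _ _

theorem sw_mem_normalizer :
    sw ∈ normalizer ((E₀ (F := F) : Subgroup (SpecialLinearGroup (Fin 3) F)) : Set (SpecialLinearGroup (Fin 3) F)) := by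
  refine mem_normalizer_fourSub _ _ _ ?_ ?_
  · rw [sw_x, mul_inv_cancel_right]; exact right_mem_fourSub _ _ _
  · rw [sw_y, mul_inv_cancel_right]; exact left_mem_fourSub _ _ _

theorem cy_mem_normalizer :
    cy ∈ normalizer ((E₀ (F := F) : Subgroup (SpecialLinearGroup (Fin 3) F)) : Set (SpecialLinearGroup (Fin 3) F)) := by
  refine mem_normalizer_fourSub _ _ _ ?_ ?_
  · rw [cy_x, mul_inv_cancel_right]; exact right_mem_fourSub _ _ _
  · rw [cy_y, mul_inv_cancel_right]
    exact (fourSub _ _ xx yy xy).mul_mem (left_mem_fourSub _ _ _) (right_mem_fourSub _ _ _)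

theorem had_mem_moveSet (h2 : (2 : F) ≠ 0) : had h2 ∈ moveSet (E₀ (F := F)) := by
  refine mem_moveSet_fourSub _ _ _ ?_ ?_
  · rw [had_x, mul_inv_cancel_right]; exact sw_mem_normalizer
  · rw [had_y, mul_inv_cancel_right]
    exact mul_mem sw_mem_normalizer (mul_mem (dg_mem_normalizer _ _) (dg_mem_normalizer _ _))

/-- the generated group -/
abbrev GG (F : Type*) [Field F] : Subgroup (SpecialLinearGroup (Fin 3) F) :=
  closure (moveSet (E₀ (F := F)))

theorem dg_mem (a b : Fˣ) : dg a b ∈ GG F :=
  Subgroup.subset_closure (mem_moveSet_of_normalizer (dg_mem_normalizer a b))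
theorem sw_mem : sw ∈ GG F :=
  Subgroup.subset_closure (mem_moveSet_of_normalizer sw_mem_normalizer)
theorem cy_mem : cy ∈ GG F :=
  Subgroup.subset_closure (mem_moveSet_of_normalizer cy_mem_normalizer)
theorem had_mem (h2 : (2 : F) ≠ 0) : had h2 ∈ GG F :=
  Subgroup.subset_closure (had_mem_moveSet h2)

omit [Finite F] in
theorem el_conj (a : Fˣ) (t : F) : dg a 1 * el t * (dg a 1)⁻¹ = el (a * t) := by
  rw [dg_inv]
  apply Subtype.ext
  simp only [mval]
  ext i j
  fin_cases i <;> fin_cases j <;> simp [el, dg, Matrix.mul_apply, Fin.sum_univ_three]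

theorem el_mem {t : F} (ht : t ≠ 0) (h : el t ∈ GG F) (s : F) : el s ∈ GG F := by
  by_cases hs : s = 0
  · subst hs
    have : (el 0 : SpecialLinearGroup (Fin 3) F) = 1 := by
      apply Subtype.ext
      ext i j
      fin_cases i <;> fin_cases j <;> simp [el]
    rw [this]; exact one_mem _
  · have h1 : el ((Units.mk0 s hs * (Units.mk0 t ht)⁻¹ : Fˣ) * t) ∈ GG F := by
      rw [← el_conj]
      exact mul_mem (mul_mem (dg_mem _ _) h) (inv_mem (dg_mem _ _))
    have h3 : ((Units.mk0 s hs * (Units.mk0 t ht)⁻¹ : Fˣ) * t : F) = s := by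
      simp [ht]
    rwa [h3] at h1

/-- One nontrivial elementary matrix suffices. -/
theorem eq_top_of_el {t : F} (ht : t ≠ 0) (h : el t ∈ GG F) : GG F = ⊤ := by
  have h1 : ∀ s : F, el s ∈ GG F := el_mem ht h
  have h01 : ∀ s : F, SpecialLinearGroup.transvection (i := (0 : Fin 3)) (j := 1) (by decide) s
      ∈ GG F := by
    intro s
    have : SpecialLinearGroup.transvection (i := (0 : Fin 3)) (j := 1) (by decide) s = el s := by
      apply Subtype.ext
      ext i j
      fin_cases i <;> fin_cases j <;> simp [el, SpecialLinearGroup.transvection,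
        Matrix.transvection, Matrix.single]
    rw [this]; exact h1 s
  have hcyc : ∀ (i j : Fin 3) (hij : i ≠ j) (s : F),
      SpecialLinearGroup.transvection hij s ∈ GG F →
      SpecialLinearGroup.transvection (i := i + 1) (j := j + 1) (by simpa using hij) s ∈ GG F := by
    intro i j hij s hs
    have : SpecialLinearGroup.transvection (i := i + 1) (j := j + 1) (by simpa using hij) s
        = cy * SpecialLinearGroup.transvection hij s * cy⁻¹ := by
      rw [eq_mul_inv_iff_mul_eq]
      apply Subtype.ext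
      simp only [mval]
      ext a b
      fin_cases i <;> fin_cases j <;> (try exact absurd rfl hij) <;>
        fin_cases a <;> fin_cases b <;> simp [cy, SpecialLinearGroup.transvection,
        Matrix.transvection, Matrix.single, Matrix.mul_apply, Fin.sum_univ_three]
    rw [this]
    exact mul_mem (mul_mem cy_mem hs) (inv_mem cy_mem)
  have h10 : ∀ s : F, SpecialLinearGroup.transvection (i := (1 : Fin 3)) (j := 0) (by decide) s
      ∈ GG F := by
    intro s
    have : SpecialLinearGroup.transvection (i := (1 : Fin 3)) (j := 0) (by decide) s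
        = sw * el s * sw⁻¹ := by
      rw [eq_mul_inv_iff_mul_eq]
      apply Subtype.ext
      simp only [mval]
      ext a b
      fin_cases a <;> fin_cases b <;> simp [sw, el, SpecialLinearGroup.transvection,
        Matrix.transvection, Matrix.single, Matrix.mul_apply, Fin.sum_univ_three]
    rw [this]
    exact mul_mem (mul_mem sw_mem (h1 s)) (inv_mem sw_mem)
  have hall : ∀ (i j : Fin 3) (hij : i ≠ j) (s : F),
      SpecialLinearGroup.transvection hij s ∈ GG F := by
    intro i j hij s
    fin_cases i <;> fin_cases j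
    · exact absurd rfl hij
    · exact h01 s
    · exact hcyc 2 1 (by decide) s (hcyc 1 0 (by decide) s (h10 s))
    · exact h10 s
    · exact absurd rfl hij
    · exact hcyc 0 1 (by decide) s (h01 s)
    · exact hcyc 1 2 (by decide) s (hcyc 0 1 (by decide) s (h01 s))
    · exact hcyc 1 0 (by decide) s (h10 s)
    · exact absurd rfl hij
  rw [eq_top_iff, ← Cfsg.Agent.LieClassical.SLGen.closure_transvections, closure_le]
  rintro _ ⟨i, j, hij, s, rfl⟩
  exact hall i j hij s

/-- `q ≥ 7`. -/
theorem eq_top_of_ratio (h2 : (2 : F) ≠ 0) {x : F} (h0 : x ≠ 0) (h1 : x ≠ 1) (h1' : x ≠ -1)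
    (hi : x ^ 2 ≠ -1) : GG F = ⊤ := by
  -- `A D₁ A D₂ A` is upper triangular
  have hp : x + 1 ≠ 0 := fun h => h1' (by linear_combination h)
  have hm : x - 1 ≠ 0 := fun h => h1 (by linear_combination h)
  have hs : x ^ 2 + 1 ≠ 0 := fun h => hi (by linear_combination h)
  have hq : (x + 1) / (1 - x) ≠ 0 := div_ne_zero hp (fun h => h1 (by linear_combination -h))
  set u : Fˣ := Units.mk0 ((x + 1) / (1 - x)) hq with hu
  set X : Fˣ := Units.mk0 x h0 with hX
  have hmem : had h2 * dg X 1 * had h2 * dg u 1 * had h2 ∈ GG F :=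
    mul_mem (mul_mem (mul_mem (mul_mem (had_mem h2) (dg_mem _ _)) (had_mem h2)) (dg_mem _ _))
      (had_mem h2)
  have hm' : (1 : F) - x ≠ 0 := fun h => h1 (by linear_combination -h)
  have h4 : (4 : F) ≠ 0 := by
    intro h
    apply h2
    have : (2 : F) * 2 = 0 := by linear_combination h
    rcases mul_eq_zero.1 this with h | h <;> exact h
  -- the product
  have hp1 : 4 * x / (1 - x) ≠ 0 := div_ne_zero (mul_ne_zero h4 h0) hm'
  have hp2 : (-2 : F) * (x + 1) ≠ 0 := mul_ne_zero (neg_ne_zero.2 h2) hp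
  set a : Fˣ := Units.mk0 _ hp1 with ha
  set b : Fˣ := Units.mk0 _ hp2 with hb
  have key : had h2 * dg X 1 * had h2 * dg u 1 * had h2 =
      dg a b * el ((x ^ 2 + 1) / (2 * x)) := by
    apply Subtype.ext
    simp only [mval]
    ext i j
    fin_cases i <;> fin_cases j <;>
      simp [had, el, dg, Matrix.mul_apply, Fin.sum_univ_three, hX, hu, ha, hb] <;>
      field_simp <;> ring
  have hel : el ((x ^ 2 + 1) / (2 * x)) ∈ GG F := by
    have := mul_mem (inv_mem (dg_mem a b)) hmem
    rwa [key, inv_mul_cancel_left] at this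
  exact eq_top_of_el (div_ne_zero hs (mul_ne_zero h2 h0)) hel

/-! ### the fields with three and five elements -/

section Small

omit [Finite F]

/-- the map induced by a ring homomorphism -/
theorem map_val {R : Type*} [Field R] (f : R →+* F) (A : SpecialLinearGroup (Fin 3) R) (i j : Fin 3) :
    (SpecialLinearGroup.map f A).1 i j = f (A.1 i j) := rfl

theorem map_had {R : Type*} [Field R] (f : R →+* F) (h : (2 : R) ≠ 0) (h2 : (2 : F) ≠ 0) :
    SpecialLinearGroup.map f (had h) = had h2 := by
  apply Subtype.ext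
  ext i j
  rw [map_val]
  fin_cases i <;> fin_cases j <;> simp [had, map_ofNat f 2]

theorem map_cy {R : Type*} [Field R] (f : R →+* F) : SpecialLinearGroup.map f cy = cy := by
  apply Subtype.ext
  ext i j
  rw [map_val]
  fin_cases i <;> fin_cases j <;> simp [cy]

theorem map_sw {R : Type*} [Field R] (f : R →+* F) : SpecialLinearGroup.map f sw = sw := by
  apply Subtype.ext
  ext i j
  rw [map_val]
  fin_cases i <;> fin_cases j <;> simp [sw]

theorem map_dg {R : Type*} [Field R] (f : R →+* F) (a b : Rˣ) :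
    SpecialLinearGroup.map f (dg a b) = dg (Units.map f.toMonoidHom a) (Units.map f.toMonoidHom b) := by
  apply Subtype.ext
  ext i j
  rw [map_val]
  fin_cases i <;> fin_cases j <;> simp [dg]

theorem map_el {R : Type*} [Field R] (f : R →+* F) (t : R) :
    SpecialLinearGroup.map f (el t) = el (f t) := by
  apply Subtype.ext
  ext i j
  rw [map_val]
  fin_cases i <;> fin_cases j <;> simp [el]

instance fact_prime_three : Fact (Nat.Prime 3) := ⟨by norm_num⟩
instance fact_prime_five : Fact (Nat.Prime 5) := ⟨by norm_num⟩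

theorem word_three (h2 : (2 : ZMod 3) ≠ 0) :
    had h2 * cy * had h2 * cy * had h2 * cy * had h2 * cy * had h2 * cy * had h2 * cy * had h2 * sw * cy * had h2 * cy * dg (-1) 1 * had h2 * cy = (el 1 : SpecialLinearGroup (Fin 3) (ZMod 3)) := by
  apply Subtype.ext
  revert h2
  decide +kernel

theorem word_five (h2 : (2 : ZMod 5) ≠ 0) :
    cy * had h2 * cy * had h2 * cy * had h2 * cy * cy * dg (⟨2, 3, by decide, by decide⟩ : (ZMod 5)ˣ) 1 * had h2 * cy * had h2 * cy * dg (⟨2, 3, by decide, by decide⟩ : (ZMod 5)ˣ) 1 * sw * had h2 * cy * had h2 * cy =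
      (el 2 : SpecialLinearGroup (Fin 3) (ZMod 5)) := by
  apply Subtype.ext
  revert h2
  decide +kernel

end Small

theorem eq_top_three [CharP F 3] (h2 : (2 : F) ≠ 0) : GG F = ⊤ := by
  have hw := congrArg (SpecialLinearGroup.map (ZMod.castHom (dvd_refl 3) F))
    (word_three (by decide))
  simp only [map_mul, map_had _ _ h2, map_cy, map_sw, map_dg, map_el] at hw
  have h1 : el ((ZMod.castHom (dvd_refl 3) F) 1) ∈ GG F := by
    rw [← hw]
    exact mul_mem (mul_mem (mul_mem (mul_mem (mul_mem (mul_mem (mul_mem (mul_mem (mul_mem (mul_mem (mul_mem (mul_mem (mul_mem (mul_mem (mul_mem (mul_mem (mul_mem (mul_mem (mul_mem (had_mem h2) (cy_mem)) (had_mem h2)) (cy_mem)) (had_mem h2)) (cy_mem)) (had_mem h2)) (cy_mem)) (had_mem h2)) (cy_mem)) (had_mem h2)) (cy_mem)) (had_mem h2)) (sw_mem)) (cy_mem)) (had_mem h2)) (cy_mem)) (dg_mem _ _)) (had_mem h2)) (cy_mem)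
  rw [map_one] at h1
  exact eq_top_of_el one_ne_zero h1

theorem eq_top_five [CharP F 5] (h2 : (2 : F) ≠ 0) : GG F = ⊤ := by
  have hw := congrArg (SpecialLinearGroup.map (ZMod.castHom (dvd_refl 5) F))
    (word_five (by decide))
  simp only [map_mul, map_had _ _ h2, map_cy, map_sw, map_dg, map_el] at hw
  have h1 : el ((ZMod.castHom (dvd_refl 5) F) 2) ∈ GG F := by
    rw [← hw]
    exact mul_mem (mul_mem (mul_mem (mul_mem (mul_mem (mul_mem (mul_mem (mul_mem (mul_mem (mul_mem (mul_mem (mul_mem (mul_mem (mul_mem (mul_mem (mul_mem (mul_mem (mul_mem cy_mem (had_mem h2)) (cy_mem)) (had_mem h2)) (cy_mem)) (had_mem h2)) (cy_mem)) (cy_mem)) (dg_mem _ _)) (had_mem h2)) (cy_mem)) (had_mem h2)) (cy_mem)) (dg_mem _ _)) (sw_mem)) (had_mem h2)) (cy_mem)) (had_mem h2)) (cy_mem)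
  refine eq_top_of_el ?_ h1
  rw [map_ofNat]
  exact h2

theorem closure_eq_top {F : Type*} [Field F] [Fintype F] (hodd : Odd (Fintype.card F)) :
    GG F = ⊤ := by
  classical
  have h2 : (2 : F) ≠ 0 := by
    intro h
    obtain ⟨p, hp⟩ := CharP.exists F
    have hpp : p.Prime := (CharP.char_is_prime_or_zero F p).resolve_right (by
      rintro rfl
      exact (CharP.char_ne_zero_of_finite F 0) rfl)
    have hp2 : p ∣ 2 := (CharP.cast_eq_zero_iff F p 2).1 (by exact_mod_cast h)
    have hp2' : p = 2 := (Nat.prime_dvd_prime_iff_eq hpp Nat.prime_two).1 hp2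
    subst hp2'
    obtain ⟨n, -, hn⟩ := FiniteField.card F 2
    rw [hn] at hodd
    exact absurd (hodd) (by
      rw [Nat.not_odd_iff_even]
      exact (Nat.even_pow' n.ne_zero).2 even_two)
  by_cases hex : ∃ x : F, x ≠ 0 ∧ x ≠ 1 ∧ x ≠ -1 ∧ x ^ 2 ≠ -1
  · obtain ⟨x, h0, h1, h1', hi⟩ := hex
    exact eq_top_of_ratio h2 h0 h1 h1' hi
  · push Not at hex
    -- at most five elements
    have hcard : Fintype.card F ≤ 5 := by
      let P : Polynomial F := Polynomial.X ^ 5 - Polynomial.X
      have hP : P ≠ 0 := FiniteField.X_pow_card_sub_X_ne_zero F (by norm_num)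
      have hdeg : P.natDegree = 5 := FiniteField.X_pow_card_sub_X_natDegree_eq F (by norm_num)
      have hroots : ∀ x : F, x ∈ P.roots.toFinset := by
        intro x
        rw [Multiset.mem_toFinset, Polynomial.mem_roots hP, Polynomial.IsRoot.def]
        simp only [P, Polynomial.eval_sub, Polynomial.eval_pow, Polynomial.eval_X]
        by_cases h0 : x = 0
        · rw [h0]; ring
        by_cases h1 : x = 1
        · rw [h1]; ring
        by_cases h1' : x = -1
        · rw [h1']; ring
        have := hex x h0 h1 h1'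
        calc x ^ 5 - x = x * ((x ^ 2) ^ 2 - 1) := by ring
          _ = 0 := by rw [this]; ring
      calc Fintype.card F = (Finset.univ : Finset F).card := rfl
        _ ≤ P.roots.toFinset.card := Finset.card_le_card (fun x _ => hroots x)
        _ ≤ Multiset.card P.roots := Multiset.toFinset_card_le _
        _ ≤ P.natDegree := Polynomial.card_roots' _
        _ = 5 := hdeg
    have h1lt : 1 < Fintype.card F := Fintype.one_lt_card
    obtain ⟨p, hp⟩ := CharP.exists F
    have hpp : p.Prime := (CharP.char_is_prime_or_zero F p).resolve_right (by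
      rintro rfl
      exact (CharP.char_ne_zero_of_finite F 0) rfl)
    have hFp : Fact p.Prime := ⟨hpp⟩
    obtain ⟨n, -, hn⟩ := FiniteField.card F p
    have hcases : Fintype.card F = 3 ∨ Fintype.card F = 5 := by
      obtain ⟨k, hk⟩ := hodd
      omega
    have hpdvd : p ∣ Fintype.card F := by
      rw [hn]; exact dvd_pow_self p n.ne_zero
    rcases hcases with h | h
    · rw [h] at hpdvd
      have : p = 3 := (Nat.prime_dvd_prime_iff_eq hpp Nat.prime_three).1 hpdvd
      subst this
      exact eq_top_three h2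
    · rw [h] at hpdvd
      have : p = 5 := (Nat.prime_dvd_prime_iff_eq hpp Nat.prime_five).1 hpdvd
      subst this
      exact eq_top_five h2

/-- **`PSL(3, F)`, `|F|` odd, has no proper 2-generated core.** -/
theorem not_hasProperTwoGeneratedCore {F : Type*} [Field F] [Fintype F]
    (hodd : Odd (Fintype.card F)) {G : Type*} [Group G] [Finite G] [IsSimpleGroup G]
    (e : G ≃* Matrix.ProjectiveSpecialLinearGroup (Fin 3) F) :
    ¬ HasProperTwoGeneratedCore G := by
  have h2 : (1 : F) ≠ -1 := by
    intro h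
    have h2 : (2 : F) = 0 := by linear_combination h
    obtain ⟨p, hp⟩ := CharP.exists F
    have hpp : p.Prime := (CharP.char_is_prime_or_zero F p).resolve_right (by
      rintro rfl
      exact (CharP.char_ne_zero_of_finite F 0) rfl)
    have hp2 : p ∣ 2 := (CharP.cast_eq_zero_iff F p 2).1 (by exact_mod_cast h2)
    have hp2' : p = 2 := (Nat.prime_dvd_prime_iff_eq hpp Nat.prime_two).1 hp2
    subst hp2'
    obtain ⟨n, -, hn⟩ := FiniteField.card F 2
    rw [hn] at hodd
    exact absurd (hodd) (by
      rw [Nat.not_odd_iff_even]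
      exact (Nat.even_pow' n.ne_zero).2 even_two)
  let π : SpecialLinearGroup (Fin 3) F →* G :=
    e.symm.toMonoidHom.comp (QuotientGroup.mk' (Subgroup.center (SpecialLinearGroup (Fin 3) F)))
  have hπ : Function.Surjective π :=
    e.symm.surjective.comp (QuotientGroup.mk'_surjective _)
  have hker : ∀ g, π g = 1 → g ∈ Subgroup.center (SpecialLinearGroup (Fin 3) F) := by
    intro g hg
    have : QuotientGroup.mk' (Subgroup.center (SpecialLinearGroup (Fin 3) F)) g = 1 := by
      apply e.symm.injective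
      rw [map_one]; exact hg
    exact (QuotientGroup.eq_one_iff g).1 this
  have hxy : (x₀ : SpecialLinearGroup (Fin 3) F) ≠ y₀ := by
    intro h
    have := congrFun (congrFun (congrArg Subtype.val h) 0) 0
    simp [dg] at this
    exact h2 this
  have hx : (x₀ : SpecialLinearGroup (Fin 3) F) ≠ 1 := by
    intro h
    have := congrFun (congrFun (congrArg Subtype.val h) 1) 1
    simp [dg] at this
    exact h2 this.symm
  have hxc : (x₀ : SpecialLinearGroup (Fin 3) F) ∉ Subgroup.center _ := by
    intro h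
    have := Subgroup.mem_center_iff.1 h sw
    rw [sw_x] at this
    exact hxy (mul_right_cancel this).symm
  have hyc : (y₀ : SpecialLinearGroup (Fin 3) F) ∉ Subgroup.center _ := by
    intro h
    have := Subgroup.mem_center_iff.1 h sw
    rw [sw_y] at this
    exact hxy (mul_right_cancel this)
  have hzc : (x₀ : SpecialLinearGroup (Fin 3) F) * y₀ ∉ Subgroup.center _ := by
    intro h
    have h3 := Subgroup.mem_center_iff.1 h cy
    rw [← cy_y] at h3
    have h4 := mul_left_cancel h3
    exact hx (by simpa using h4)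
  refine not_hasProper_of_surjective π hπ xx yy xy (fun h => hxc (hker _ h))
    (fun h => hyc (hker _ h)) ?_ (closure_eq_top hodd)
  intro h
  apply hzc
  apply hker
  rw [map_mul, h, ← map_mul, yy, map_one]

end Cfsg.Agent.TwoGenCore.PSLThree
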