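import Cfsg.Agent.LieClassical.SUBasic
import Cfsg.Agent.TwoGenCore.Conj
import Cfsg.Agent.TwoGenCore.HermConn

/-!
# `PSU₃(q)`, `q` odd, has no proper 2-generated core
-/

set_option autoImplicit false
set_option linter.unusedSectionVars false

namespace Cfsg.Agent.TwoGenCore.U3

open Cfsg Matrix Cfsg.Agent.LieClassical.GUOrder Cfsg.Agent.LieClassical.SUBasic

variable {F : Type*} [Field F]

/-- The matrix of the involution with axis `x` (`+1` on `x`, `-1` on its orthogonal complement). -/
def tm (q : ℕ) (x : Fin 3 → F) : Matrix (Fin 3) (Fin 3) F :=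
  (-1 : Matrix (Fin 3) (Fin 3) F) + (2 / hermForm 3 F q x x) • vecMulVec x (fun i => (x i) ^ q)

theorem tm_mulVec (q : ℕ) (x y : Fin 3 → F) :
    tm q x *ᵥ y = -y + (2 * hermForm 3 F q y x / hermForm 3 F q x x) • x := by
  rw [tm, add_mulVec, neg_mulVec, one_mulVec, smul_mulVec]
  congr 1
  have : vecMulVec x (fun i => (x i) ^ q) *ᵥ y = hermForm 3 F q y x • x := by
    ext i
    simp only [Matrix.mulVec, dotProduct, Matrix.vecMulVec_apply, Pi.smul_apply, smul_eq_mul,
      herm_def, Finset.sum_mul]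
    exact Finset.sum_congr rfl fun j _ => by ring
  rw [this, smul_smul]
  congr 1
  ring

theorem det_tm {q : ℕ} {x : Fin 3 → F} (hx : hermForm 3 F q x x ≠ 0) : (tm q x).det = 1 := by
  have h1 : hermForm 3 F q x x = x 0 * x 0 ^ q + x 1 * x 1 ^ q + x 2 * x 2 ^ q := by
    rw [herm_def, Fin.sum_univ_three]
  rw [Matrix.det_fin_three]
  simp only [tm, Matrix.add_apply, Matrix.neg_apply, Matrix.smul_apply, Matrix.vecMulVec_apply,
    Matrix.one_apply, smul_eq_mul]
  simp only [Fin.isValue, if_true, reduceIte, Fin.reduceEq]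
  set m := hermForm 3 F q x x with hm
  field_simp
  rw [h1]
  ring

variable [Fintype F] {q : ℕ}

theorem herm_tm (hF : Fintype.card F = q ^ 2) {x : Fin 3 → F} (hx : hermForm 3 F q x x ≠ 0)
    (u v : Fin 3 → F) : hermForm 3 F q (tm q x *ᵥ u) (tm q x *ᵥ v) = hermForm 3 F q u v := by
  have hn : ∀ a b : Fin 3 → F, hermForm 3 F q (-a) b = - hermForm 3 F q a b := fun a b => by
    rw [← neg_one_smul F a, herm_smul_left hF]; ring
  have hn' : ∀ a b : Fin 3 → F, hermForm 3 F q a (-b) = - hermForm 3 F q a b := fun a b => by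
    rw [← neg_one_smul F b, herm_smul_right hF, map_neg, map_one]; ring
  rw [tm_mulVec, tm_mulVec, herm_add_left hF, herm_add_right hF, herm_add_right hF, hn, hn, hn',
    hn', herm_smul_left hF, herm_smul_left hF, herm_smul_right hF, herm_smul_right hF, map_div₀,
    map_mul, frob_herm hF, frob_herm hF, map_ofNat]
  field_simp
  ring

open Classical in
/-- The involution with axis `x`, as an element of `SU₃` (`1` if `x` is isotropic). -/
noncomputable def T (hF : Fintype.card F = q ^ 2) (x : Fin 3 → F) : SU 3 F q :=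
  if hx : hermForm 3 F q x x ≠ 0 then
    ⟨⟨tm q x, det_tm hx⟩, (mem_SU_iff _).2 (herm_tm hF hx)⟩
  else 1

/-- The action on vectors. -/
def act (g : SU 3 F q) (y : Fin 3 → F) : Fin 3 → F :=
  ((g : Matrix.SpecialLinearGroup (Fin 3) F) : Matrix (Fin 3) (Fin 3) F) *ᵥ y

theorem act_mul (g k : SU 3 F q) (y : Fin 3 → F) : act (g * k) y = act g (act k y) := by
  simp [act, Matrix.mulVec_mulVec]

theorem act_one (y : Fin 3 → F) : act (1 : SU 3 F q) y = y := by simp [act]

theorem act_ext {g k : SU 3 F q} (h : ∀ y, act g y = act k y) : g = k := by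
  apply Subtype.ext
  apply Subtype.ext
  exact Matrix.ext_of_mulVec_single fun i => h (Pi.single i 1)

theorem act_add (g : SU 3 F q) (y z : Fin 3 → F) : act g (y + z) = act g y + act g z :=
  Matrix.mulVec_add _ _ _

theorem act_neg (g : SU 3 F q) (y : Fin 3 → F) : act g (-y) = - act g y :=
  Matrix.mulVec_neg _ _

theorem act_smul (g : SU 3 F q) (c : F) (y : Fin 3 → F) : act g (c • y) = c • act g y :=
  Matrix.mulVec_smul _ _ _

theorem herm_act (g : SU 3 F q) (y z : Fin 3 → F) :
    hermForm 3 F q (act g y) (act g z) = hermForm 3 F q y z := g.2 y z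

theorem act_T (hF : Fintype.card F = q ^ 2) {x : Fin 3 → F} (hx : hermForm 3 F q x x ≠ 0)
    (y : Fin 3 → F) : act (T hF x) y = -y + (2 * hermForm 3 F q y x / hermForm 3 F q x x) • x := by
  rw [T, dif_pos hx]
  exact tm_mulVec q x y

theorem T_mul_self (hF : Fintype.card F = q ^ 2) {x : Fin 3 → F} (hx : hermForm 3 F q x x ≠ 0) :
    T hF x * T hF x = 1 := by
  apply act_ext
  intro y
  rw [act_mul, act_one, act_T hF hx, act_T hF hx, herm_add_left hF, herm_smul_left hF,
    ← neg_one_smul F y, herm_smul_left hF]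
  ext i
  simp only [Pi.add_apply, Pi.smul_apply, smul_eq_mul, Pi.neg_apply]
  field_simp
  ring

theorem conj_T (hF : Fintype.card F = q ^ 2) (g : SU 3 F q) {x : Fin 3 → F}
    (hx : hermForm 3 F q x x ≠ 0) : g * T hF x * g⁻¹ = T hF (act g x) := by
  rw [mul_inv_eq_iff_eq_mul]
  apply act_ext
  intro y
  have hx' : hermForm 3 F q (act g x) (act g x) ≠ 0 := by rw [herm_act]; exact hx
  rw [act_mul, act_mul, act_T hF hx, act_T hF hx', herm_act, herm_act, act_add, act_neg, act_smul]

theorem T_smul (hF : Fintype.card F = q ^ 2) {c : F} (hc : c ≠ 0) {x : Fin 3 → F}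
    (hx : hermForm 3 F q x x ≠ 0) : T hF (c • x) = T hF x := by
  have hc' : frob hF c ≠ 0 := by
    intro hh
    exact hc (by rw [← frob_frob hF c, hh, map_zero])
  have hx' : hermForm 3 F q (c • x) (c • x) ≠ 0 := by
    rw [herm_smul_left hF, herm_smul_right hF]
    exact mul_ne_zero hc (mul_ne_zero hc' hx)
  apply act_ext
  intro y
  rw [act_T hF hx, act_T hF hx', herm_smul_left hF, herm_smul_right hF, herm_smul_right hF,
    smul_smul]
  congr 2
  field_simp

theorem act_T_self (hF : Fintype.card F = q ^ 2) {x : Fin 3 → F}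
    (hx : hermForm 3 F q x x ≠ 0) : act (T hF x) x = x := by
  rw [act_T hF hx]
  ext i
  simp only [Pi.add_apply, Pi.smul_apply, smul_eq_mul, Pi.neg_apply]
  field_simp
  ring

theorem act_T_perp (hF : Fintype.card F = q ^ 2) {x y : Fin 3 → F}
    (hx : hermForm 3 F q x x ≠ 0) (hyx : hermForm 3 F q y x = 0) : act (T hF x) y = -y := by
  rw [act_T hF hx, hyx]
  simp

theorem T_comm (hF : Fintype.card F = q ^ 2) {x y : Fin 3 → F}
    (hx : hermForm 3 F q x x ≠ 0) (hy : hermForm 3 F q y y ≠ 0) (hyx : hermForm 3 F q y x = 0) :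
    T hF x * T hF y = T hF y * T hF x := by
  have h1 := conj_T hF (T hF x) hy
  rw [act_T_perp hF hx hyx, ← neg_one_smul F y, T_smul hF (neg_ne_zero.2 one_ne_zero) hy] at h1
  rwa [mul_inv_eq_iff_eq_mul] at h1

/-- Central elements act as scalars of cube one. -/
theorem act_of_center (hF : Fintype.card F = q ^ 2) {z : SU 3 F q}
    (hz : z ∈ Subgroup.center (SU 3 F q)) : ∃ c : F, c ^ 3 = 1 ∧ ∀ y, act z y = c • y := by
  obtain ⟨c, hc, -, rfl⟩ := (mem_center_SU_iff hF le_rfl z).1 hz
  refine ⟨c, hc, fun y => ?_⟩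
  ext i
  rw [act, coe_suScalar, Matrix.mulVec_diagonal]
  rfl

section Main

variable {G : Type*} [Group G] [Finite G]

theorem T_notMem_center (hF : Fintype.card F = q ^ 2) (h2 : (2 : F) ≠ 0) {x y : Fin 3 → F}
    (hx : hermForm 3 F q x x ≠ 0) (hy : hermForm 3 F q y y ≠ 0) (hyx : hermForm 3 F q y x = 0) :
    T hF x ∉ Subgroup.center (SU 3 F q) := by
  intro hz
  obtain ⟨c, -, hc⟩ := act_of_center hF hz
  have h1 := hc x
  have h3 := hc y
  rw [act_T_self hF hx] at h1
  rw [act_T_perp hF hx hyx] at h3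
  have h4 := congrArg (fun v => hermForm 3 F q v x) h1
  have h5 := congrArg (fun v => hermForm 3 F q v y) h3
  simp only [herm_smul_left hF] at h4 h5
  rw [← neg_one_smul F y, herm_smul_left hF] at h5
  have h6 : c = 1 := mul_right_cancel₀ hx (by rw [one_mul]; exact h4.symm)
  have h7 : c = -1 := mul_right_cancel₀ hy h5.symm
  apply h2
  linear_combination h7 - h6

theorem T_mul_notMem_center (hF : Fintype.card F = q ^ 2) (h2 : (2 : F) ≠ 0) {x y : Fin 3 → F}
    (hx : hermForm 3 F q x x ≠ 0) (hy : hermForm 3 F q y y ≠ 0) (hyx : hermForm 3 F q y x = 0) :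
    T hF x * T hF y ∉ Subgroup.center (SU 3 F q) := by
  intro hz
  obtain ⟨c, hc3, hc⟩ := act_of_center hF hz
  have h3 := hc y
  rw [act_mul, act_T_self hF hy, act_T_perp hF hx hyx] at h3
  have h5 := congrArg (fun v => hermForm 3 F q v y) h3
  simp only [herm_smul_left hF] at h5
  rw [← neg_one_smul F y, herm_smul_left hF] at h5
  have h7 : c = -1 := mul_right_cancel₀ hy h5.symm
  rw [h7] at hc3
  apply h2
  linear_combination -hc3

/-- Let `π : SU₃(q) → G` be onto with kernel the centre, `q` odd, `G` simple. Then `G` has no proper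
2-generated core. -/
theorem not_hasProper_of_hom (hF : Fintype.card F = q ^ 2) (hq : Odd q) [IsSimpleGroup G]
    (π : SU 3 F q →* G) (hπ : Function.Surjective π)
    (hker : ∀ x, π x = 1 → x ∈ Subgroup.center (SU 3 F q)) : ¬ HasProperTwoGeneratedCore G := by
  intro hG
  have h2 : (2 : F) ≠ 0 := by
    intro hh
    have hodd : Odd (Fintype.card F) := by rw [hF]; exact hq.pow
    have h3 := (FiniteField.even_card_iff_char_two (F := F)).1 (by
      have h4 := ringChar.spec F 2
      have h5 : ringChar F ∣ 2 := h4.1 (by exact_mod_cast hh)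
      have h6 : ringChar F ≠ 1 := CharP.ringChar_ne_one
      exact (Nat.dvd_prime Nat.prime_two).1 h5 |>.resolve_left h6)
    rw [Nat.odd_iff] at hodd
    omega
  have hs : ∀ i j : Fin 3, hermForm 3 F q (Pi.single i 1) (Pi.single j 1) =
      if i = j then (1 : F) else 0 := by
    intro i j
    rw [herm_eq hF]
    fin_cases i <;> fin_cases j <;> simp [Pi.single_apply]
  have hs1 : ∀ i : Fin 3, hermForm 3 F q (Pi.single i 1) (Pi.single i 1) ≠ 0 := fun i => by
    rw [hs, if_pos rfl]; exact one_ne_zero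
  -- basic facts on images
  have hne : ∀ {x y : Fin 3 → F}, hermForm 3 F q x x ≠ 0 → hermForm 3 F q y y ≠ 0 →
      hermForm 3 F q y x = 0 → π (T hF x) ≠ 1 := fun hx hy hyx h =>
    T_notMem_center hF h2 hx hy hyx (hker _ h)
  have hinv : ∀ {x : Fin 3 → F}, hermForm 3 F q x x ≠ 0 → π (T hF x) * π (T hF x) = 1 := by
    intro x hx
    rw [← map_mul, T_mul_self hF hx, map_one]
  have hne2 : ∀ {x y : Fin 3 → F}, hermForm 3 F q x x ≠ 0 → hermForm 3 F q y y ≠ 0 →
      hermForm 3 F q y x = 0 → π (T hF x) ≠ π (T hF y) := fun {x y} hx hy hyx h => by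
    refine T_mul_notMem_center hF h2 hx hy hyx (hker _ ?_)
    rw [map_mul, h, hinv hy]
  have hcomm : ∀ {x y : Fin 3 → F}, hermForm 3 F q x x ≠ 0 → hermForm 3 F q y y ≠ 0 →
      hermForm 3 F q y x = 0 → π (T hF x) * π (T hF y) = π (T hF y) * π (T hF x) := by
    intro x y hx hy hyx
    rw [← map_mul, T_comm hF hx hy hyx, map_mul]
  have h10 : hermForm 3 F q (Pi.single 1 1) (Pi.single 0 1) = 0 := by rw [hs]; rfl
  -- a closed subgroup containing the diagonal four-group
  obtain ⟨H, hH, hVH⟩ := Conj.exists_closed_ge hG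
    (fourSub_isPGroup (hinv (hs1 0)) (hinv (hs1 1)) (hcomm (hs1 0) (hs1 1) h10))
  have hH0 : π (T hF (Pi.single 0 1)) ∈ H := hVH (left_mem_fourSub _ _ _)
  have hH1 : π (T hF (Pi.single 1 1)) ∈ H := hVH (right_mem_fourSub _ _ _)
  have hH2 : π (T hF (Pi.single 2 1)) ∈ H := by
    have h3 : T hF (Pi.single 2 1) = T hF (Pi.single 0 1) * T hF (Pi.single 1 1) := by
      apply act_ext
      intro y
      rw [act_mul, act_T hF (hs1 2), act_T hF (hs1 1), act_T hF (hs1 0)]
      ext i
      fin_cases i <;> simp [herm_eq hF, Pi.single_apply] <;> ring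
    rw [h3, map_mul]
    exact mul_mem hH0 hH1
  -- all involutions lie in `H`
  have hall : ∀ x : Fin 3 → F, hermForm 3 F q x x ≠ 0 → π (T hF x) ∈ H := by
    intro x hx
    have key := HermConn.all hF h2 (P := fun x => hermForm 3 F q x x ≠ 0 → π (T hF x) ∈ H)
      ?_ ?_ hq (fun _ => hH0) (fun _ => hH1) (fun _ => hH2) hx
    · exact key hx
    · intro c x hc hPx hcx
      have hc' : frob hF c ≠ 0 := by
        intro hh
        exact hc (by rw [← frob_frob hF c, hh, map_zero])
      have hx' : hermForm 3 F q x x ≠ 0 := by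
        rw [herm_smul_left hF, herm_smul_right hF] at hcx
        exact right_ne_zero_of_mul (right_ne_zero_of_mul hcx)
      rw [T_smul hF hc hx']
      exact hPx hx'
    · intro a b γ ha hab h0 h0' hγ hPa hPb hu
      have hb : hermForm 3 F q b b ≠ 0 := by rw [hab]; exact ha
      have hn : hermForm 3 F q (a + γ • b) (a + γ • b) = 2 * hermForm 3 F q a a := by
        rw [herm_add_left hF, herm_add_right hF, herm_add_right hF, herm_smul_left hF,
          herm_smul_right hF, herm_smul_left hF, herm_smul_right hF, h0, h0', hab]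
        linear_combination (hermForm 3 F q a a) * hγ
      have hγ0 : γ ≠ 0 := left_ne_zero_of_mul (by rw [hγ]; exact one_ne_zero)
      have hγ1 : frob hF γ ≠ 0 := right_ne_zero_of_mul (by rw [hγ]; exact one_ne_zero)
      have e1 : act (T hF (a + γ • b)) a = γ • b := by
        rw [act_T hF hu, hn, herm_add_right hF, herm_smul_right hF, h0]
        ext i
        simp only [Pi.add_apply, Pi.smul_apply, smul_eq_mul, Pi.neg_apply]
        field_simp
        ring
      have e2 : act (T hF (a + γ • b)) b = frob hF γ • a := by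
        rw [act_T hF hu, hn, herm_add_right hF, herm_smul_right hF, h0', hab]
        ext i
        simp only [Pi.add_apply, Pi.smul_apply, smul_eq_mul, Pi.neg_apply]
        field_simp
        linear_combination (b i) * (hermForm 3 F q a a) * hγ
      refine Conj.mem_of_swap hH (hPa ha) (hPb hb) (hne ha hb h0') (hne hb ha h0)
        (hne2 ha hb h0') (hinv ha) (hinv hb) (hcomm ha hb h0') ?_ ?_
      · rw [← map_mul, ← map_inv, ← map_mul, conj_T hF _ ha, e1, T_smul hF hγ0 hb]
      · rw [← map_mul, ← map_inv, ← map_mul, conj_T hF _ hb, e2, T_smul hF hγ1 ha]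
  -- the normal closure
  have hnormal : (Subgroup.closure (Set.range fun x : {x : Fin 3 → F // hermForm 3 F q x x ≠ 0} =>
      π (T hF x.1))).Normal := by
    refine ⟨fun n hn g => ?_⟩
    obtain ⟨g, rfl⟩ := hπ g
    induction hn using Subgroup.closure_induction with
    | mem x hx =>
      obtain ⟨⟨x, hx⟩, rfl⟩ := hx
      refine Subgroup.subset_closure ⟨⟨act g x, by rw [herm_act]; exact hx⟩, ?_⟩
      simp only
      rw [← conj_T hF g hx, map_mul, map_mul, map_inv]
    | one => rw [mul_one, mul_inv_cancel]; exact one_mem _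
    | mul x y _ _ hx hy =>
      have : π g * (x * y) * (π g)⁻¹ = (π g * x * (π g)⁻¹) * (π g * y * (π g)⁻¹) := by group
      rw [this]
      exact mul_mem hx hy
    | inv x _ hx =>
      have : π g * x⁻¹ * (π g)⁻¹ = (π g * x * (π g)⁻¹)⁻¹ := by group
      rw [this]
      exact inv_mem hx
  have hle : (Subgroup.closure (Set.range fun x : {x : Fin 3 → F // hermForm 3 F q x x ≠ 0} =>
      π (T hF x.1))) ≤ H := by
    rw [Subgroup.closure_le]
    rintro _ ⟨⟨x, hx⟩, rfl⟩
    exact hall x hx
  rcases hnormal.eq_bot_or_eq_top with h | h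
  · refine hne (hs1 0) (hs1 1) h10 ?_
    rw [← Subgroup.mem_bot, ← h]
    exact Subgroup.subset_closure ⟨⟨_, hs1 0⟩, rfl⟩
  · exact hH.1 (top_le_iff.1 (h ▸ hle))

/-- `PSU₃(q)`, `q` odd, has no proper 2-generated core. -/
theorem not_hasProper (hF : Fintype.card F = q ^ 2) (hq : Odd q) [IsSimpleGroup G]
    (e : G ≃* PSU 3 F q) : ¬ HasProperTwoGeneratedCore G := by
  refine not_hasProper_of_hom hF hq
    (e.symm.toMonoidHom.comp (QuotientGroup.mk' (Subgroup.center (SU 3 F q)))) ?_ ?_
  · exact e.symm.surjective.comp (QuotientGroup.mk'_surjective _)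
  · intro x hx
    have h1 : e.symm (QuotientGroup.mk' (Subgroup.center (SU 3 F q)) x) = 1 := hx
    rw [← map_one e.symm] at h1
    exact (QuotientGroup.eq_one_iff x).1 (e.symm.injective h1)

end Main

end Cfsg.Agent.TwoGenCore.U3
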