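import Cfsg.Agent.TwoGenCore.PSLThree
import Cfsg.Agent.TwoGenCore.AltSeven
import Cfsg.Agent.TwoGenCore.IsoMEleven
import Cfsg.Agent.TwoGenCore.U3
import Cfsg.Prelude.Def_ClassificationK
import Cfsg.Prelude.Def_Sz
import Cfsg.Prelude.Def_Spor_Mathieu
import Cfsg.Prelude.Def_Spor_J1

/-!
# Simple groups of 2-rank two with a proper 2-generated core

The groups in the conclusion of the classification of the simple groups of 2-rank at most two
(statement S0482) which have a proper 2-generated core are in the conclusion of statement S1728.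
-/

set_option autoImplicit false

namespace Cfsg.Agent.TwoGenCore.RankTwo

open Cfsg

/-- Rank two part of the theorem on proper 2-generated cores, given the list of the simple groups of
2-rank at most two and the fact that the unitary groups of odd characteristic have no proper
2-generated core. -/
theorem of_list {G : Type*} [Group G] [Finite G] [IsSimpleGroup G]
    (hc : Cfsg.HasProperTwoGeneratedCore G)
    (hU : ∀ (F : Type) (_ : Field F) (_ : Fintype F) (q : ℕ), Fintype.card F = q ^ 2 → Odd q →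
      Nonempty (G ≃* Cfsg.PSU 3 F q) → False)
    (h : (∃ (F : Type) (_ : Field F) (_ : Fintype F), Odd (Fintype.card F) ∧ 5 ≤ Fintype.card F ∧
        Nonempty (G ≃* Matrix.ProjectiveSpecialLinearGroup (Fin 2) F)) ∨
      (∃ (F : Type) (_ : Field F) (_ : Fintype F), Odd (Fintype.card F) ∧
        Nonempty (G ≃* Matrix.ProjectiveSpecialLinearGroup (Fin 3) F)) ∨
      (∃ (F : Type) (_ : Field F) (_ : Fintype F) (q : ℕ), Fintype.card F = q ^ 2 ∧ Odd q ∧
        Nonempty (G ≃* Cfsg.PSU 3 F q)) ∨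
      (∃ (F : Type) (_ : Field F) (_ : Fintype F), Fintype.card F = 16 ∧
        Nonempty (G ≃* Cfsg.PSU 3 F 4)) ∨
      Nonempty (G ≃* alternatingGroup (Fin 7)) ∨
      Cfsg.IsM11 G) :
    (∃ (F : Type) (_ : Field F) (_ : Fintype F), 3 ≤ Fintype.card F ∧
        Nonempty (G ≃* Matrix.ProjectiveSpecialLinearGroup (Fin 2) F)) ∨
      Cfsg.Lie.IsoSuzuki G ∨
      (∃ (F : Type) (_ : Field F) (_ : Fintype F) (n : ℕ), 1 ≤ n ∧
        Fintype.card F = (2 ^ n) ^ 2 ∧ Nonempty (G ≃* Cfsg.PSU 3 F (2 ^ n))) ∨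
      Cfsg.Spor.IsoM11 G ∨ Cfsg.Spor.IsoJ1 G := by
  rcases h with ⟨F, i1, i2, -, h5, e⟩ | ⟨F, i1, i2, ho, ⟨e⟩⟩ | ⟨F, i1, i2, q, hF, ho, e⟩ |
    ⟨F, i1, i2, hF, e⟩ | ⟨⟨e⟩⟩ | h
  · exact Or.inl ⟨F, i1, i2, by omega, e⟩
  · exact absurd hc (PSLThree.not_hasProperTwoGeneratedCore ho e)
  · exact (hU F i1 i2 q hF ho e).elim
  · exact Or.inr (Or.inr (Or.inl ⟨F, i1, i2, 2, by norm_num, by rw [hF]; norm_num,
      by simpa using e⟩))
  · exact absurd hc (AltSeven.not_hasProperTwoGeneratedCore e)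
  · exact Or.inr (Or.inr (Or.inr (Or.inl (IsoMEleven.isoM11 h))))

/-- **Rank two part of the theorem on proper 2-generated cores**, given the list of the simple
groups of 2-rank at most two. -/
theorem main {G : Type*} [Group G] [Finite G] [IsSimpleGroup G]
    (hc : Cfsg.HasProperTwoGeneratedCore G)
    (h : (∃ (F : Type) (_ : Field F) (_ : Fintype F), Odd (Fintype.card F) ∧ 5 ≤ Fintype.card F ∧
        Nonempty (G ≃* Matrix.ProjectiveSpecialLinearGroup (Fin 2) F)) ∨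
      (∃ (F : Type) (_ : Field F) (_ : Fintype F), Odd (Fintype.card F) ∧
        Nonempty (G ≃* Matrix.ProjectiveSpecialLinearGroup (Fin 3) F)) ∨
      (∃ (F : Type) (_ : Field F) (_ : Fintype F) (q : ℕ), Fintype.card F = q ^ 2 ∧ Odd q ∧
        Nonempty (G ≃* Cfsg.PSU 3 F q)) ∨
      (∃ (F : Type) (_ : Field F) (_ : Fintype F), Fintype.card F = 16 ∧
        Nonempty (G ≃* Cfsg.PSU 3 F 4)) ∨
      Nonempty (G ≃* alternatingGroup (Fin 7)) ∨
      Cfsg.IsM11 G) :
    (∃ (F : Type) (_ : Field F) (_ : Fintype F), 3 ≤ Fintype.card F ∧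
        Nonempty (G ≃* Matrix.ProjectiveSpecialLinearGroup (Fin 2) F)) ∨
      Cfsg.Lie.IsoSuzuki G ∨
      (∃ (F : Type) (_ : Field F) (_ : Fintype F) (n : ℕ), 1 ≤ n ∧
        Fintype.card F = (2 ^ n) ^ 2 ∧ Nonempty (G ≃* Cfsg.PSU 3 F (2 ^ n))) ∨
      Cfsg.Spor.IsoM11 G ∨ Cfsg.Spor.IsoJ1 G :=
  of_list hc (fun _ _ _ _ hF hq ⟨e⟩ => U3.not_hasProper hF hq e hc) h

end Cfsg.Agent.TwoGenCore.RankTwo
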