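import Cfsg.Agent.TwoGenCore.W2Lem
import Cfsg.Agent.S0215
import Cfsg.Agent.Lib.KleinGen
import Cfsg.Agent.Lib.NormalHall
import Cfsg.Agent.Lib.LocalCore

/-!
# S1728, 5B: the case where `C(w)/⟨w⟩` has an isolated involution

Let `w² = t` with `¬ NonIso t w`.

* `eq_or_of_isol` : two involutions `≠ t` of a 2-subgroup of `C(w)` are equal modulo `t`;
* `exists_core` : Z* in `C(w)/⟨w⟩` gives a normal odd order subgroup `O` of `C(w)`, normalized by
  `N(⟨w⟩)`, transitive on the fixed points of `w`;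
* `no_klein` : no two independent commuting involutions `≠ t` of `N(⟨w⟩)` exist if `w` is bad;
* `exists_comm_t` : an involution commuting with `w` and one inverting `w` with commutator `t`;
* `fix_subset` : then `f i` fixes all fixed points of `w`.
-/

set_option autoImplicit false

namespace Cfsg.Agent.TwoGenCore.W2Core

open Cfsg Cfsg.Agent.TwoGenCore.W2Base Cfsg.Agent.TwoGenCore.W2Lem Cfsg.Agent.Lib
open scoped Pointwise

section Z

/-- The Z*-theorem in `C / ⟨w⟩` for a central 2-element `w`. -/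
theorem zstar_mod {C : Type*} [Group C] [Finite C] (w : C) (hw : ∀ c, c * w = w * c) (n : ℕ)
    (hwn : w ^ (2 ^ n) = 1) (f : C) (hf : f * f = 1) (hfw : f ∉ Subgroup.zpowers w)
    (hiso : ∀ T : Subgroup C, IsPGroup 2 T → f ∈ T → ∀ g, g * f * g⁻¹ ∈ T →
      g * f * g⁻¹ * f⁻¹ ∈ Subgroup.zpowers w) :
    ∀ c : C, ∃ z ∈ Subgroup.zpowers w, ∃ o ∈ pPrimeCore 2 C, c * f * c⁻¹ * f⁻¹ = z * o := by
  have hZc : Subgroup.zpowers w ≤ Subgroup.center C := by
    rw [Subgroup.zpowers_le, Subgroup.mem_center_iff]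
    intro g; exact hw g
  have hZn : (Subgroup.zpowers w).Normal := by
    refine ⟨fun z hz g => ?_⟩
    have := Subgroup.mem_center_iff.mp (hZc hz) g
    rw [this, mul_inv_cancel_right]; exact hz
  have hZ2 : IsPGroup 2 (Subgroup.zpowers w) := isPGroup_zpowers n hwn
  let q : C →* C ⧸ Subgroup.zpowers w := QuotientGroup.mk' (Subgroup.zpowers w)
  have hker : q.ker = Subgroup.zpowers w := QuotientGroup.ker_mk' _
  have hqf : orderOf (q f) = 2 := by
    refine orderOf_eq_prime ?_ ?_
    · rw [pow_two, ← map_mul, hf, map_one]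
    · intro h
      apply hfw
      rw [← hker]; exact h
  have hfp : IsPGroup 2 (Subgroup.zpowers (q f)) := by
    refine isPGroup_zpowers 1 ?_
    rw [pow_one, ← hqf, pow_orderOf_eq_one]
  obtain ⟨P, hP⟩ := hfp.exists_le_sylow
  have hfP : q f ∈ P := hP (Subgroup.mem_zpowers _)
  obtain ⟨N, hNn, hNo, hN⟩ := Cfsg.Agent.S0215.result P (q f) hqf hfP (by
    intro g' hg'
    obtain ⟨g, rfl⟩ := QuotientGroup.mk'_surjective _ g'
    have h1 : IsPGroup 2 ((P : Subgroup (C ⧸ Subgroup.zpowers w)).comap q) :=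
      P.isPGroup'.comap_of_ker_isPGroup q (by rw [hker]; exact hZ2)
    have h2 := hiso _ h1 hfP g (by
      rw [Subgroup.mem_comap, map_mul, map_mul, map_inv]; exact hg')
    rw [← hker, MonoidHom.mem_ker, map_mul, map_mul, map_mul, map_inv, map_inv,
      mul_inv_eq_one] at h2
    exact h2)
  -- the preimage of `N`
  let M : Subgroup C := N.comap q
  have hMn : M.Normal := hNn.comap q
  have hZM : Subgroup.zpowers w ≤ M := by
    rw [← hker]; exact Subgroup.ker_le_comap q N
  let Z' : Subgroup M := (Subgroup.zpowers w).subgroupOf M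
  have hZ'n : Z'.Normal := Subgroup.normal_subgroupOf
  have hZ'i : Odd Z'.index := by
    have h1 : Z'.index = Nat.card N := by
      have h2 : (Subgroup.zpowers w).relIndex M = Nat.card N := by
        have h3 : (⊥ : Subgroup (C ⧸ Subgroup.zpowers w)).comap q = Subgroup.zpowers w := by
          rw [MonoidHom.comap_bot]; exact hker
        have h4 := Subgroup.relIndex_comap (H := (⊥ : Subgroup (C ⧸ Subgroup.zpowers w))) q M
        rw [h3] at h4
        rw [h4, Subgroup.relIndex_bot_left, Subgroup.map_comap_eq_self_of_surjective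
          (QuotientGroup.mk'_surjective _)]
      exact h2
    rw [h1]; exact hNo
  have hZ'c : ∃ k, Nat.card Z' = 2 ^ k := by
    have h1 : IsPGroup 2 Z' := hZ2.of_injective ((Subgroup.subgroupOfEquivOfLe hZM).toMonoidHom)
      (Subgroup.subgroupOfEquivOfLe hZM).injective
    exact IsPGroup.iff_card.mp h1
  have hcop : Nat.Coprime (Nat.card Z') Z'.index := by
    obtain ⟨k, hk⟩ := hZ'c
    rw [hk]
    exact Nat.Coprime.pow_left _ ((Nat.coprime_two_left).mpr hZ'i)
  obtain ⟨H, hH⟩ := Subgroup.exists_right_complement'_of_coprime hcop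
  have hHsup : ∀ m : M, ∃ z ∈ Z', ∃ h ∈ H, z * h = m := by
    intro m
    obtain ⟨⟨z, h⟩, hzh⟩ := hH.2 m
    exact ⟨z, z.2, h, h.2, hzh⟩
  have hHn : H.Normal := by
    refine ⟨fun h hh m => ?_⟩
    obtain ⟨z, hz, k, hk, rfl⟩ := hHsup m
    have hzc : ∀ x : M, x * z = z * x := by
      intro x
      have := Subgroup.mem_center_iff.mp (hZc (Subgroup.mem_subgroupOf.mp hz)) (x : C)
      exact Subtype.ext this
    have h1 : z * k * h * (z * k)⁻¹ = k * h * k⁻¹ := by
      calc z * k * h * (z * k)⁻¹ = z * (k * h * k⁻¹) * z⁻¹ := by group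
        _ = (k * h * k⁻¹) * z * z⁻¹ := by rw [hzc]
        _ = k * h * k⁻¹ := by group
    rw [h1]
    exact H.mul_mem (H.mul_mem hk hh) (H.inv_mem hk)
  have hHcard : Nat.card H = Z'.index := hH.symm.index_eq_card.symm
  have hHodd : Odd (Nat.card H) := by rw [hHcard]; exact hZ'i
  have hHi : H.index = Nat.card Z' := Subgroup.IsComplement'.index_eq_card hH
  have hHcop : (Nat.card H).Coprime H.index := by
    rw [hHi, hHcard]; exact hcop.symm
  have hHC : (H.map M.subtype).Normal := NormalHall.normal_map_subtype_of_coprime M H hHcop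
  have hHle : H.map M.subtype ≤ pPrimeCore 2 C := by
    refine Cores.le_pPrimeCore hHC ?_
    rw [Subgroup.card_map_of_injective M.subtype_injective]
    exact (Nat.coprime_two_right).mpr hHodd
  intro c
  have h1 := hN (q c)
  have h2 : c * f * c⁻¹ * f⁻¹ ∈ M := by
    rw [Subgroup.mem_comap]
    have h3 : q (c * f * c⁻¹ * f⁻¹) = (q f * q c * (q f)⁻¹ * (q c)⁻¹)⁻¹ := by
      simp only [map_mul, map_inv]; group
    rw [h3]
    exact N.inv_mem h1
  obtain ⟨z, hz, h, hh, hzh⟩ := hHsup ⟨_, h2⟩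
  refine ⟨z, Subgroup.mem_subgroupOf.mp hz, h, hHle ⟨h, hh, rfl⟩, ?_⟩
  exact (congrArg Subtype.val hzh).symm

end Z

variable {Y : Type*} [Group Y] {D : Type*} [MulAction Y D] {t : Y}

/-- Two involutions `≠ t` of a 2-subgroup of `C(w)` are equal modulo `t`. -/
theorem eq_or_of_isol (hB : Base D t) {w : Y} (hww : w * w = t) (hn : ¬ NonIso t w)
    {T : Subgroup Y} (hT : IsPGroup 2 T) (hTw : ∀ s ∈ T, s * w = w * s) {f f' : Y} (hf : Inv t f)
    (hf' : Inv t f') (hfT : f ∈ T) (hf'T : f' ∈ T) : f' = f ∨ f' = f * t := by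
  by_contra hcon
  rw [not_or] at hcon
  obtain ⟨ne1, ne2⟩ := hcon
  have hfi := hf.inv_eq
  have hf'i := hf'.inv_eq
  have h0 : ¬ (f * f' = 1 ∨ f * f' = t) := by
    rintro (h | h)
    · apply ne1
      rw [← hfi, eq_inv_iff_mul_eq_one]
      have : f' * f = (f * f')⁻¹ := by rw [mul_inv_rev, hfi, hf'i]
      rw [this, h, inv_one]
    · apply ne2
      calc f' = (f * f) * f' := by rw [hf.1, one_mul]
        _ = f * (f * f') := by group
        _ = f * t := by rw [h]
  obtain ⟨n, hn'⟩ := exists_pow_eq_one hT (T.mul_mem hfT hf'T)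
  obtain ⟨k, hk1, hk2⟩ := exists_pow (fun x => x = 1 ∨ x = t) n (f * f') (Or.inl hn') h0
  set s := (f * f') ^ k with hs
  have hsT : s ∈ T := T.pow_mem (T.mul_mem hfT hf'T) k
  have hfr : f * (f * f') * f⁻¹ = (f * f')⁻¹ := by
    rw [mul_inv_rev, hfi, hf'i, ← mul_assoc, hf.1, one_mul]
  have hfs : f * s * f⁻¹ = s⁻¹ := by
    rw [hs, ← conj_pow, hfr, inv_pow]
  have hsr : s * (f * f') = (f * f') * s := by
    rw [hs, ← pow_succ, ← pow_succ']
  have hfw := hTw f hfT
  have hf'w := hTw f' hf'T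
  have hsw := hTw s hsT
  have hcomm : f * f' * f⁻¹ * f'⁻¹ = (f * f') * (f * f') := by rw [hfi, hf'i]; group
  rcases hk2 with hss | hss
  · have hsi : s⁻¹ = s := by rw [inv_eq_iff_mul_eq_one]; exact hss
    by_cases h1 : s = f ∨ s = f * t
    · -- `f` commutes with `f f'`
      have h2 : f * (f * f') = (f * f') * f := by
        rcases h1 with h1 | h1
        · rw [h1] at hsr; exact hsr
        · rw [h1] at hsr
          have h3 : f * t * (f * f') = f * (f * f') * t := by
            rw [mul_assoc, ← hB.central, ← mul_assoc]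
          have h4 : f * f' * (f * t) = (f * f') * f * t := by group
          rw [h3, h4] at hsr
          exact mul_right_cancel hsr
      have h3 : (f * f')⁻¹ = f * f' := by
        rw [← hfr, h2, mul_inv_cancel_right]
      apply hn
      refine ⟨f, f', hf, hf', hfw, hf'w, ?_, ne1, ne2⟩
      rw [hcomm]
      have : f * f' * (f * f') = 1 := by rw [← inv_eq_iff_mul_eq_one]; exact h3
      rw [this]
      exact Subgroup.one_mem _
    · rw [not_or] at h1
      apply hn
      refine ⟨f, s, hf, ⟨hss, fun h => hk1 (Or.inl h), fun h => hk1 (Or.inr h)⟩, hfw, hsw, ?_,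
        h1.1, h1.2⟩
      rw [hfs, hsi, hss]
      exact Subgroup.one_mem _
  · -- `s w` is an involution
    have h1 : s * w * (s * w) = 1 := by
      calc s * w * (s * w) = s * (w * s) * w := by group
        _ = (s * s) * (w * w) := by rw [← hsw]; group
        _ = 1 := by rw [hss, hww, hB.sq]
    have hcom : f * (s * w) * f⁻¹ * (s * w)⁻¹ = t := by
      calc f * (s * w) * f⁻¹ * (s * w)⁻¹ = f * s * (w * f⁻¹) * w⁻¹ * s⁻¹ := by group
        _ = f * s * (f⁻¹ * w) * w⁻¹ * s⁻¹ := by
            rw [((show Commute f w from hfw).inv_left).eq]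
        _ = (f * s * f⁻¹) * s⁻¹ := by group
        _ = (s * s)⁻¹ := by rw [hfs]; group
        _ = t := by rw [hss, t_inv hB]
    have hne : ∀ y : Y, f * y * f⁻¹ = y → s * w ≠ y := by
      rintro y hy rfl
      rw [hy, mul_inv_cancel] at hcom
      exact hB.ne hcom.symm
    apply hn
    refine ⟨f, s * w, hf, ⟨h1, hne 1 (by group), hne t (by rw [hB.central f]; group)⟩, hfw, ?_, ?_,
      hne f (by group), hne (f * t) (by rw [← mul_assoc, mul_assoc (f * f), ← hB.central]; group)⟩
    · rw [hsw, mul_assoc, hsw]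
    · rw [hcom]; exact mem_zpowers_of_sq hww

/-- An element normalizing `⟨w⟩` maps `w` to `w` or `w t`. -/
theorem conj_eq (hB : Base D t) {w n : Y} (hww : w * w = t)
    (h : n * w * n⁻¹ ∈ Subgroup.zpowers w) : n * w * n⁻¹ = w ∨ n * w * n⁻¹ = w * t := by
  have h2 : (n * w * n⁻¹) * (n * w * n⁻¹) = t := by
    calc (n * w * n⁻¹) * (n * w * n⁻¹) = n * (w * w) * n⁻¹ := by group
      _ = t := by rw [hww, hB.central]; group
  rcases (mem_zpowers_iff_of_sq hB hww).mp h with h1 | h1 | h1 | h1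
  · rw [h1, one_mul] at h2; exact absurd h2.symm hB.ne
  · rw [h1, hB.sq] at h2; exact absurd h2.symm hB.ne
  · exact Or.inl h1
  · exact Or.inr h1

theorem conj_inv_eq (hB : Base D t) {w n : Y} (h : n * w * n⁻¹ = w ∨ n * w * n⁻¹ = w * t) :
    n⁻¹ * w * n = w ∨ n⁻¹ * w * n = w * t := by
  rcases h with h | h
  · left
    calc n⁻¹ * w * n = n⁻¹ * (n * w * n⁻¹) * n := by rw [h]
      _ = w := by group
  · right
    have h1 : w = n⁻¹ * w * n * t := by
      calc w = n⁻¹ * (n * w * n⁻¹) * n := by group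
        _ = n⁻¹ * w * (t * n) := by rw [h]; group
        _ = n⁻¹ * w * n * t := by rw [← hB.central]; group
    calc n⁻¹ * w * n = (n⁻¹ * w * n * t) * t := by rw [mul_assoc _ t t, hB.sq, mul_one]
      _ = w * t := by rw [← h1]

theorem comm_conj (hB : Base D t) {w n x : Y} (h : n * w * n⁻¹ = w ∨ n * w * n⁻¹ = w * t)
    (hx : x * w = w * x) : (n * x * n⁻¹) * w = w * (n * x * n⁻¹) := by
  have h1 : (n * x * n⁻¹) * (n * w * n⁻¹) = (n * w * n⁻¹) * (n * x * n⁻¹) := by
    calc (n * x * n⁻¹) * (n * w * n⁻¹) = n * (x * w) * n⁻¹ := by group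
      _ = (n * w * n⁻¹) * (n * x * n⁻¹) := by rw [hx]; group
  rcases h with h | h
  · rwa [h] at h1
  · rw [h] at h1
    have h2 : w * t * (n * x * n⁻¹) = w * (n * x * n⁻¹) * t := by
      rw [mul_assoc, ← hB.central, ← mul_assoc]
    rw [h2, ← mul_assoc] at h1
    exact mul_right_cancel h1

theorem le_normalizer_of {C K : Subgroup Y} (h : ∀ c ∈ C, ∀ k ∈ K, c * k * c⁻¹ ∈ K) :
    C ≤ Subgroup.normalizer (K : Set Y) := by
  intro c hc
  rw [Subgroup.mem_normalizer_iff]
  intro x
  refine ⟨fun hx => h c hc x hx, fun hx => ?_⟩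
  have := h c⁻¹ (C.inv_mem hc) _ hx
  have h2 : c⁻¹ * (c * x * c⁻¹) * c⁻¹⁻¹ = x := by group
  rwa [h2] at this

/-- Z* in `C(w)/⟨w⟩`. -/
theorem exists_core [Finite Y] (hB : Base D t) {w : Y} (hww : w * w = t) (hn : ¬ NonIso t w)
    {f : Y} (hf : Inv t f) (hfw : f * w = w * f) :
    ∃ O : Subgroup Y, Odd (Nat.card O) ∧ (∀ o ∈ O, o * w = w * o) ∧
      (∀ n : Y, n * w * n⁻¹ ∈ Subgroup.zpowers w → ∀ o ∈ O, n * o * n⁻¹ ∈ O) ∧
      ∀ c : Y, c * w = w * c → ∃ o ∈ O, ∃ g : Y, c = o * g ∧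
        (g * f * g⁻¹ = f ∨ g * f * g⁻¹ = f * t) := by
  let C : Subgroup Y := Subgroup.centralizer ({w} : Set Y)
  have hmemC : ∀ x : Y, x ∈ C ↔ x * w = w * x := fun x => Subgroup.mem_centralizer_singleton_iff
  let O : Subgroup Y := (pPrimeCore 2 C).map C.subtype
  have hOC : O ≤ C := Subgroup.map_subtype_le _
  have hOo : Odd (Nat.card O) :=
    Nat.coprime_two_right.mp (LocalCore.card_map_pPrimeCore_coprime 2 C)
  have hCO : ∀ c ∈ C, ∀ o ∈ O, c * o * c⁻¹ ∈ O := by
    intro c hc o ho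
    exact (Subgroup.mem_normalizer_iff.mp (LocalCore.le_normalizer_map_pPrimeCore 2 C hc) o).mp ho
  refine ⟨O, hOo, fun o ho => (hmemC o).mp (hOC ho), ?_, ?_⟩
  · intro n hn' o ho
    have hnw := conj_eq hB hww hn'
    let K : Subgroup Y := O.map (MulAut.conj n).toMonoidHom
    have hKC : K ≤ C := by
      rintro _ ⟨o, ho, rfl⟩
      rw [hmemC]
      exact comm_conj hB hnw ((hmemC o).mp (hOC ho))
    have hKn : C ≤ Subgroup.normalizer (K : Set Y) := by
      apply le_normalizer_of
      rintro c hc _ ⟨o, ho, rfl⟩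
      have h1 : n⁻¹ * c * n ∈ C := by
        rw [hmemC]
        have := comm_conj hB (n := n⁻¹) (by rw [inv_inv]; exact conj_inv_eq hB hnw)
          ((hmemC c).mp hc)
        rwa [inv_inv] at this
      refine ⟨(n⁻¹ * c * n) * o * (n⁻¹ * c * n)⁻¹, hCO _ h1 o ho, ?_⟩
      simp only [MulEquiv.coe_toMonoidHom, MulAut.conj_apply]
      group
    have hKo : (Nat.card K).Coprime 2 := by
      rw [Subgroup.card_map_of_injective (MulAut.conj n).injective]
      exact Nat.coprime_two_right.mpr hOo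
    exact LocalCore.le_map_pPrimeCore hKC hKo hKn ⟨o, ho, rfl⟩
  · have hw4 : w ^ (2 ^ 2) = 1 := by simpa using pow_four hB hww
    have htC : ∀ g : Y, g * t = t * g := hB.central
    have hwC : w ∈ C := (hmemC w).mpr rfl
    have hfC : f ∈ C := (hmemC f).mpr hfw
    have hmz : ∀ x : C, (x : Y) ∈ Subgroup.zpowers w ↔ x ∈ Subgroup.zpowers (⟨w, hwC⟩ : C) := by
      intro x
      constructor
      · rintro ⟨k, hk⟩
        exact ⟨k, Subtype.ext (by simpa using hk)⟩
      · rintro ⟨k, rfl⟩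
        exact ⟨k, by simp⟩
    have hfz : f ∉ Subgroup.zpowers w := by
      rw [mem_zpowers_iff_of_sq hB hww]
      rintro (h | h | h | h)
      · exact hf.2.1 h
      · exact hf.2.2 h
      · apply hB.ne; rw [← hww, ← h]; exact hf.1
      · apply hB.ne
        have h1 := hf.1
        rw [h] at h1
        calc t = w * w := hww.symm
          _ = (w * t) * (w * t) := by
              rw [mul_assoc w t, ← mul_assoc t w t, ← htC w, mul_assoc w t t, hB.sq, mul_one]
          _ = 1 := h1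
    have key := zstar_mod (⟨w, hwC⟩ : C) (fun c => Subtype.ext ((hmemC c).mp c.2)) 2
      (Subtype.ext hw4) ⟨f, hfC⟩ (Subtype.ext hf.1)
      (fun h => hfz ((hmz _).mpr h)) (by
        intro T hT hfT g hgT
        have hT' : IsPGroup 2 (T.map C.subtype) := hT.map _
        have h1 := eq_or_of_isol hB hww hn hT' (by
          rintro _ ⟨s, -, rfl⟩
          exact (hmemC _).mp s.2) hf (hf.conj hB.central (g : Y)) ⟨_, hfT, rfl⟩ ⟨_, hgT, rfl⟩
        rw [← hmz]
        have h2 : (g : Y) * f * (g : Y)⁻¹ * f⁻¹ = 1 ∨ (g : Y) * f * (g : Y)⁻¹ * f⁻¹ = t := by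
          rcases h1 with h1 | h1
          · left; rw [h1, mul_inv_cancel]
          · right; rw [h1, htC, mul_inv_cancel_right]
        change (g : Y) * f * (g : Y)⁻¹ * f⁻¹ ∈ _
        rcases h2 with h2 | h2
        · rw [h2]; exact Subgroup.one_mem _
        · rw [h2]; exact mem_zpowers_of_sq hww)
    intro c hc
    obtain ⟨⟨z, hzC⟩, hz, ⟨o, hoC⟩, ho, hzo⟩ := key ⟨c, (hmemC c).mpr hc⟩
    have hzo' : c * f * c⁻¹ * f⁻¹ = z * o := congrArg Subtype.val hzo
    have hoO : o ∈ O := ⟨⟨o, hoC⟩, ho, rfl⟩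
    have hz' : z ∈ Subgroup.zpowers w := (hmz ⟨z, hzC⟩).mpr hz
    have hzcomm : ∀ x ∈ C, z * x = x * z := by
      intro x hx
      obtain ⟨k, rfl⟩ := hz'
      exact ((show Commute x w from (hmemC x).mp hx).zpow_right k).eq.symm
    set x := c * f * c⁻¹ with hx
    have hxi : Inv t x := hf.conj hB.central c
    have hx2 : x = z * o * f := by rw [← hzo']; group
    have hzz : z * z ∈ O := by
      have h1 : (z * z) * (o * (f * o * f⁻¹)) = 1 := by
        calc (z * z) * (o * (f * o * f⁻¹)) = z * (z * o * f) * o * f⁻¹ := by group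
          _ = (z * o * f) * z * o * f⁻¹ := by
              rw [hzcomm (z * o * f) (C.mul_mem (C.mul_mem hzC hoC) hfC)]
          _ = (z * o * f) * (z * o * f) := by rw [hf.inv_eq]; group
          _ = 1 := by rw [← hx2]; exact hxi.1
      rw [mul_eq_one_iff_eq_inv] at h1
      rw [h1]
      exact O.inv_mem (O.mul_mem hoO (hCO f hfC o hoO))
    have htO : t ∉ O := by
      intro h
      have h1 : orderOf t = 2 := orderOf_eq_prime (by rw [pow_two]; exact hB.sq) hB.ne
      have h2 : orderOf (⟨t, h⟩ : O) = 2 := by rw [← Subgroup.orderOf_coe]; exact h1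
      have h3 : 2 ∣ Nat.card O := h2 ▸ orderOf_dvd_natCard _
      exact (Nat.not_even_iff_odd.mpr hOo) (even_iff_two_dvd.mpr h3)
    have hz1 : z = 1 ∨ z = t := by
      rcases (mem_zpowers_iff_of_sq hB hww).mp hz' with h | h | h | h
      · exact Or.inl h
      · exact Or.inr h
      · exfalso; apply htO; rw [h, hww] at hzz; exact hzz
      · exfalso; apply htO
        have : z * z = t := by
          rw [h, mul_assoc w t, ← mul_assoc t w t, ← htC w, mul_assoc w t t, hB.sq, mul_one, hww]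
        rwa [this] at hzz
    have hf' : Inv t (z * f) := by
      rcases hz1 with h | h
      · rw [h, one_mul]; exact hf
      · rw [h, ← htC]; exact hf.mul_t hB
    have hxo : x * (z * f) = o := by
      have h1 : x = o * (z * f) := by
        rw [hx2, hzcomm o hoC, mul_assoc]
      rw [h1, mul_assoc, hf'.1, mul_one]
    have hodd : Odd (orderOf (x * (z * f))) := by
      rw [hxo]
      have h2 : orderOf (⟨o, hoO⟩ : O) ∣ Nat.card O := orderOf_dvd_natCard _
      rw [← Subgroup.orderOf_coe] at h2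
      exact Odd.of_dvd_nat hOo h2
    obtain ⟨g, hg, hgx⟩ := conj_of_odd hxi.1 hf'.1 hodd
    rw [hxo] at hg
    have hgO : g ∈ O := (Subgroup.zpowers_le.mpr hoO) hg
    refine ⟨g, hgO, g⁻¹ * c, by group, ?_⟩
    have h3 : g⁻¹ * c * f * (g⁻¹ * c)⁻¹ = z * f := by
      calc g⁻¹ * c * f * (g⁻¹ * c)⁻¹ = g⁻¹ * (c * f * c⁻¹) * g := by group
        _ = g⁻¹ * (g * (z * f) * g⁻¹) * g := by rw [hgx]
        _ = z * f := by group
    rw [h3]
    rcases hz1 with h | h
    · left; rw [h, one_mul]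
    · right; rw [h, htC]

/-- The normal odd order subgroup of `C(w)` transitive on the fixed points of `w`. -/
theorem exists_core_trans [Finite Y] (hB : Base D t) {w : Y} (hww : w * w = t)
    (hn : ¬ NonIso t w) {f : Y} (hf : Inv t f) (hfw : f * w = w * f) :
    ∃ O : Subgroup Y, Odd (Nat.card O) ∧ (∀ o ∈ O, o * w = w * o) ∧
      (∀ n : Y, n * w * n⁻¹ ∈ Subgroup.zpowers w → ∀ o ∈ O, n * o * n⁻¹ ∈ O) ∧
      ∀ a b : D, w • a = a → w • b = b → ∃ o ∈ O, o • a = b := by
  obtain ⟨O, h1, h2, h3, h4⟩ := exists_core hB hww hn hf hfw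
  refine ⟨O, h1, h2, h3, ?_⟩
  obtain ⟨c, hc⟩ := exists_fix_inv hB hf
  have hwc : w • c = c := by
    apply fix_unique hB hf _ hc
    rw [← mul_smul, hfw, mul_smul, hc]
  have key : ∀ b : D, w • b = b → ∃ o ∈ O, o • c = b := by
    intro b hb
    obtain ⟨g, hg, hgb⟩ := trans_centralizer hB hww hwc hb
    obtain ⟨o, ho, g', rfl, hg'⟩ := h4 g hg
    refine ⟨o, ho, ?_⟩
    rw [mul_smul, fix_of_conj hB hf hg' hc] at hgb
    exact hgb
  intro a b ha hb
  obtain ⟨o, ho, hoa⟩ := key a ha
  obtain ⟨o', ho', hob⟩ := key b hb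
  refine ⟨o' * o⁻¹, O.mul_mem ho' (O.inv_mem ho), ?_⟩
  rw [← hoa, mul_smul, inv_smul_smul, hob]

/-! ### the normalizer of `⟨w⟩` -/

theorem mem_norm_iff (hB : Base D t) {w n : Y} (hww : w * w = t) :
    n ∈ Subgroup.normalizer (Subgroup.zpowers w : Set Y) ↔
      n * w * n⁻¹ = w ∨ n * w * n⁻¹ = w * t := by
  constructor
  · intro h
    exact conj_eq hB hww ((Subgroup.mem_normalizer_iff.mp h w).mp (Subgroup.mem_zpowers w))
  · intro h
    have key : ∀ m : Y, (m * w * m⁻¹ = w ∨ m * w * m⁻¹ = w * t) →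
        ∀ x ∈ Subgroup.zpowers w, m * x * m⁻¹ ∈ Subgroup.zpowers w := by
      rintro m hm _ ⟨k, rfl⟩
      have h1 : m * w ^ k * m⁻¹ = (m * w * m⁻¹) ^ k := (conj_zpow).symm
      change m * w ^ k * m⁻¹ ∈ _
      rw [h1]
      apply Subgroup.zpow_mem
      rcases hm with hm | hm <;> rw [hm]
      · exact Subgroup.mem_zpowers _
      · exact Subgroup.mul_mem _ (Subgroup.mem_zpowers _) (mem_zpowers_of_sq hww)
    rw [Subgroup.mem_normalizer_iff]
    intro x
    refine ⟨fun hx => key n h x hx, fun hx => ?_⟩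
    have h1 := key n⁻¹ (by rw [inv_inv]; exact conj_inv_eq hB h) _ hx
    have h2 : n⁻¹ * (n * x * n⁻¹) * n⁻¹⁻¹ = x := by group
    rwa [h2] at h1

theorem mem_norm_of_comm (hB : Base D t) {w n : Y} (hww : w * w = t) (h : n * w = w * n) :
    n ∈ Subgroup.normalizer (Subgroup.zpowers w : Set Y) := by
  rw [mem_norm_iff hB hww]; left; rw [h, mul_inv_cancel_right]

theorem mem_norm_of_inv (hB : Base D t) {w n : Y} (hww : w * w = t) (h : n * w * n⁻¹ = w⁻¹) :
    n ∈ Subgroup.normalizer (Subgroup.zpowers w : Set Y) := by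
  rw [mem_norm_iff hB hww]; right; rw [h, inv_of_sq hB hww]

theorem isPGroup_sup (hB : Base D t) {w : Y} (hww : w * w = t) {T : Subgroup Y}
    (hT : IsPGroup 2 T) (hTn : T ≤ Subgroup.normalizer (Subgroup.zpowers w : Set Y)) :
    IsPGroup 2 (T ⊔ Subgroup.zpowers w : Subgroup Y) :=
  hT.to_sup_of_normal_right' (isPGroup_zpowers 2 (by simpa using pow_four hB hww)) hTn

/-- (i): if `w` is bad and `¬ NonIso t w`, then `N(⟨w⟩)` contains no two independent commuting
involutions `≠ t`. -/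
theorem no_klein [Finite Y] (hB : Base D t) {w : Y} (hbad : Bad D t w) (hn : ¬ NonIso t w)
    {f : Y} (hf : Inv t f) (hfw : f * w = w * f) {e₁ e₂ : Y} (h1 : Inv t e₁) (h2 : Inv t e₂)
    (hc : e₁ * e₂ = e₂ * e₁) (hne : e₂ ≠ e₁) (hnet : e₂ ≠ e₁ * t)
    (n1 : e₁ ∈ Subgroup.normalizer (Subgroup.zpowers w : Set Y))
    (n2 : e₂ ∈ Subgroup.normalizer (Subgroup.zpowers w : Set Y)) : False := by
  obtain ⟨hww, b₁, b₂, hb, hb1, hb2⟩ := hbad
  obtain ⟨O, hOo, hOw, hOn, hOt⟩ := exists_core_trans hB hww hn hf hfw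
  have hp : IsPGroup 2 (Subgroup.zpowers e₁) := isPGroup_zpowers 1 (by
    rw [pow_one, pow_two]; exact h1.1)
  obtain ⟨a, ha⟩ := exists_fix (D := D) hB (isPGroup_sup hB hww hp (by
    rw [Subgroup.zpowers_le]; exact n1))
  have hae1 : e₁ • a = a := ha _ (Subgroup.mem_sup_left (Subgroup.mem_zpowers _))
  have haw : w • a = a := ha _ (Subgroup.mem_sup_right (Subgroup.mem_zpowers _))
  have hae2 : e₂ • a = a := fix_of_conj hB h1 (Or.inl (by rw [← hc, mul_inv_cancel_right])) hae1
  have h12 : Inv t (e₁ * e₂) := by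
    refine ⟨?_, ?_, ?_⟩
    · calc e₁ * e₂ * (e₁ * e₂) = e₁ * (e₂ * e₁) * e₂ := by group
        _ = (e₁ * e₁) * (e₂ * e₂) := by rw [← hc]; group
        _ = 1 := by rw [h1.1, h2.1, one_mul]
    · intro h; apply hne
      calc e₂ = e₁⁻¹ * (e₁ * e₂) := by group
        _ = e₁ := by rw [h, mul_one, h1.inv_eq]
    · intro h; apply hnet
      calc e₂ = e₁⁻¹ * (e₁ * e₂) := by group
        _ = e₁ * t := by rw [h, h1.inv_eq]
  have hfixc : ∀ e : Y, Inv t e → e • a = a →
      O ⊓ Subgroup.centralizer {e} ≤ MulAction.stabilizer Y a := by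
    rintro e he hea o ⟨-, ho'⟩
    have ho : o * e = e * o := Subgroup.mem_centralizer_singleton_iff.mp ho'
    exact MulAction.mem_stabilizer_iff.mpr
      (fix_of_conj hB he (Or.inl (by rw [ho, mul_inv_cancel_right])) hea)
  have hle : O ≤ MulAction.stabilizer Y a := by
    refine KleinGen.le_of_klein O _ hOo e₁ e₂ h1.1 h2.1 hc (hOn e₁ ?_) (hOn e₂ ?_)
      (hfixc e₁ h1 hae1) (hfixc e₂ h2 hae2) (hfixc _ h12 (by rw [mul_smul, hae2, hae1]))
    · exact (Subgroup.mem_normalizer_iff.mp n1 w).mp (Subgroup.mem_zpowers w)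
    · exact (Subgroup.mem_normalizer_iff.mp n2 w).mp (Subgroup.mem_zpowers w)
  have hall : ∀ b : D, w • b = b → b = a := by
    intro b hb
    obtain ⟨o, ho, hob⟩ := hOt a b haw hb
    rw [← hob]; exact MulAction.mem_stabilizer_iff.mp (hle ho)
  exact hb (by rw [hall b₁ hb1, hall b₂ hb2])

/-- `f` commutes with `w`, `i` inverts `w`, both are involutions `≠ t` and `[i,f] = t`. -/
structure Pair (t w f i : Y) : Prop where
  hf : Inv t f
  hi : Inv t i
  fw : f * w = w * f
  iw : i * w * i⁻¹ = w⁻¹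
  if' : i * f * i⁻¹ = f * t

/-- (ii): existence of pairs. -/
theorem exists_pair [Finite Y] (hB : Base D t) {w : Y} (hbad : Bad D t w) (hn : ¬ NonIso t w)
    {f i : Y} (hf : Inv t f) (hfw : f * w = w * f) (hi : Inv t i) (hiw : i * w * i⁻¹ = w⁻¹) :
    ∃ n : Y, (n * w * n⁻¹ = w ∨ n * w * n⁻¹ = w * t) ∧ Pair t w (n * f * n⁻¹) i := by
  have hww := hbad.1
  obtain ⟨T, hT1, hT2, hT3, hT4⟩ := exists_syl
    (Subgroup.normalizer (Subgroup.zpowers w : Set Y)) (Subgroup.zpowers i)
    (by rw [Subgroup.zpowers_le]; exact mem_norm_of_inv hB hww hiw)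
    (isPGroup_zpowers 1 (by rw [pow_one, pow_two]; exact hi.1))
  obtain ⟨n, hn1, hn2⟩ := hT4 (Subgroup.zpowers f)
    (by rw [Subgroup.zpowers_le]; exact mem_norm_of_comm hB hww hfw)
    (isPGroup_zpowers 1 (by rw [pow_one, pow_two]; exact hf.1))
  have hnw := (mem_norm_iff hB hww).mp hn1
  have hf' : Inv t (n * f * n⁻¹) := hf.conj hB.central n
  have hfT : n * f * n⁻¹ ∈ T := hn2 f (Subgroup.mem_zpowers f)
  have hiT : i ∈ T := hT1 (Subgroup.mem_zpowers i)
  have hfw' : (n * f * n⁻¹) * w = w * (n * f * n⁻¹) := comm_conj hB hnw hfw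
  refine ⟨n, hnw, hf', hi, hfw', hiw, ?_⟩
  set g := n * f * n⁻¹ with hg
  have hiw' : i * w * i⁻¹ = w ∨ i * w * i⁻¹ = w * t := by
    right; rw [hiw, inv_of_sq hB hww]
  have hcase := eq_or_of_isol hB hww hn (T := T ⊓ Subgroup.centralizer {w})
    (hT3.to_le inf_le_left) (fun s hs => Subgroup.mem_centralizer_singleton_iff.mp hs.2)
    hf' (hf'.conj hB.central i) ⟨hfT, Subgroup.mem_centralizer_singleton_iff.mpr hfw'⟩
    ⟨T.mul_mem (T.mul_mem hiT hfT) (T.inv_mem hiT),
      Subgroup.mem_centralizer_singleton_iff.mpr (comm_conj hB hiw' hfw')⟩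
  rcases hcase with h | h
  · exfalso
    have hwne : w⁻¹ ≠ w := by
      intro h0
      rw [inv_eq_iff_mul_eq_one, hww] at h0
      exact hB.ne h0
    have hne : ∀ y : Y, y * w = w * y → i ≠ y := by
      rintro y hy rfl
      apply hwne
      rw [← hiw, hy, mul_inv_cancel_right]
    refine no_klein hB hbad hn hf hfw hf' hi ?_ (hne _ hfw') (hne _ ?_)
      (mem_norm_of_comm hB hww hfw') (mem_norm_of_inv hB hww hiw)
    · rw [mul_inv_eq_iff_eq_mul] at h; exact h.symm
    · rw [mul_assoc, ← hB.central w, ← mul_assoc, hfw', mul_assoc]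
  · exact h

theorem Pair.sq (hB : Base D t) {w f i : Y} (h : Pair t w f i) : f * i * (f * i) = t := by
  have h1 : i * f = f * i * t := by
    have := h.if'
    rw [mul_inv_eq_iff_eq_mul] at this
    rw [this, mul_assoc, ← hB.central, mul_assoc]
  calc f * i * (f * i) = f * (i * f) * i := by group
    _ = (f * f) * i * (t * i) := by rw [h1]; group
    _ = t := by rw [h.hf.1, ← hB.central, one_mul, ← mul_assoc, h.hi.1, one_mul]

theorem Pair.comm (hB : Base D t) {w f i : Y} (h : Pair t w f i) : i * f = f * i * t := by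
  have := h.if'
  rw [mul_inv_eq_iff_eq_mul] at this
  rw [this, mul_assoc, ← hB.central, mul_assoc]

theorem Pair.wi (hB : Base D t) {w f i : Y} (hww : w * w = t) (h : Pair t w f i) :
    i * w = w * i * t := by
  have := h.iw
  rw [mul_inv_eq_iff_eq_mul, inv_of_sq hB hww] at this
  rw [this, mul_assoc, ← hB.central, mul_assoc]

/-- (ii): `f i` fixes all fixed points of `w`. -/
theorem Pair.fix_subset [Finite Y] (hB : Base D t) {w f i : Y} (hbad : Bad D t w)
    (hn : ¬ NonIso t w) (h : Pair t w f i) : ∀ a : D, w • a = a → (f * i) • a = a := by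
  have hww := hbad.1
  have hxx := h.sq hB
  have hif := h.comm hB
  obtain ⟨O, hOo, hOw, hOn, hOt⟩ := exists_core_trans hB hww hn h.hf h.fw
  obtain ⟨a₀, ha₀⟩ := exists_fix_inv hB h.hi
  have hfa : f • a₀ = a₀ := by
    refine fix_of_conj hB h.hi (Or.inr ?_) ha₀
    rw [mul_inv_eq_iff_eq_mul]
    calc f * i = (f * i * t) * t := by rw [mul_assoc _ t t, hB.sq, mul_one]
      _ = i * (f * t) := by rw [← hif]; group
      _ = i * t * f := by rw [hB.central]; group
  have hwa : w • a₀ = a₀ := fix_of_conj hB h.hf (Or.inl (by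
    rw [← h.fw, mul_inv_cancel_right])) hfa
  intro a ha
  obtain ⟨o, ho, hoa⟩ := hOt a₀ a hwa ha
  have hfn : f * w * f⁻¹ ∈ Subgroup.zpowers w := by
    rw [h.fw, mul_inv_cancel_right]; exact Subgroup.mem_zpowers _
  have hin : i * w * i⁻¹ ∈ Subgroup.zpowers w := by
    rw [h.iw]; exact Subgroup.inv_mem _ (Subgroup.mem_zpowers _)
  have hOx : ∀ o ∈ O, (f * i) * o * (f * i)⁻¹ ∈ O := by
    intro o ho
    have h1 := hOn f hfn _ (hOn i hin o ho)
    have h2 : f * (i * o * i⁻¹) * f⁻¹ = (f * i) * o * (f * i)⁻¹ := by group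
    rwa [h2] at h1
  obtain ⟨c, hc, e, he, l, hl, hc1, he1, hl1, hdec⟩ := KleinGen.exists_decomp O hOo
    (MulAut.conj (f * i)).toMonoidHom (MulAut.conj f).toMonoidHom (by
      intro g
      simp only [MulEquiv.coe_toMonoidHom, MulAut.conj_apply]
      calc f * i * (f * i * g * (f * i)⁻¹) * (f * i)⁻¹
          = (f * i * (f * i)) * g * (f * i * (f * i))⁻¹ := by group
        _ = g := by rw [hxx, ← hB.central, mul_inv_cancel_right]) (by
      intro g
      simp only [MulEquiv.coe_toMonoidHom, MulAut.conj_apply]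
      calc f * (f * g * f⁻¹) * f⁻¹ = (f * f) * g * (f * f)⁻¹ := by group
        _ = g := by rw [h.hf.1]; group) (by
      intro g
      simp only [MulEquiv.coe_toMonoidHom, MulAut.conj_apply]
      have h1 : f * i * f = f * (f * i) * t := by rw [mul_assoc, hif]; group
      calc f * i * (f * g * f⁻¹) * (f * i)⁻¹ = (f * i * f) * g * (f * i * f)⁻¹ := by group
        _ = (f * (f * i)) * (t * g * t⁻¹) * (f * (f * i))⁻¹ := by rw [h1]; group
        _ = f * (f * i * g * (f * i)⁻¹) * f⁻¹ := by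
            rw [← hB.central, mul_inv_cancel_right]; group) hOx (hOn f hfn) ho
  simp only [MulEquiv.coe_toMonoidHom, MulAut.conj_apply] at hc1 he1 hl1
  have hea : e • a₀ = a₀ := by
    refine fix_of_conj hB h.hf (Or.inl ?_) hfa
    rw [mul_inv_eq_iff_eq_mul] at he1 ⊢
    exact he1.symm
  have hla : l • a₀ = a₀ := by
    refine fix_of_conj hB h.hi (Or.inl ?_) ha₀
    have h3 : f * i * f = i * t := by
      calc f * i * f = f * (i * f) := by group
        _ = (f * f) * i * t := by rw [hif]; group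
        _ = i * t := by rw [h.hf.1, one_mul]
    have h2 : i * l * i⁻¹ = l := by
      calc i * l * i⁻¹ = i * (l * t * t⁻¹) * i⁻¹ := by rw [mul_inv_cancel_right]
        _ = (i * t) * l * (i * t)⁻¹ := by rw [hB.central l]; group
        _ = (f * i * f) * l * (f * i * f)⁻¹ := by rw [h3]
        _ = f * i * (f * l * f⁻¹) * (f * i)⁻¹ := by group
        _ = l := hl1
    rw [mul_inv_eq_iff_eq_mul] at h2 ⊢
    exact h2.symm
  have hac : a = c • a₀ := by
    rw [← hoa, hdec, mul_smul, mul_smul, mul_smul, hea, hla, hea]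
  have hcc : f * i * c = c * (f * i) := mul_inv_eq_iff_eq_mul.mp hc1
  rw [hac, ← mul_smul, hcc, mul_smul, mul_smul f i a₀, ha₀, hfa]

/-- The pair `(f i, i w, f)` obtained from `(w, f, i)`. -/
theorem Pair.swap (hB : Base D t) {w f i : Y} (hww : w * w = t) (h : Pair t w f i) :
    Pair t (f * i) (i * w) f := by
  have hif := h.comm hB
  have hiw := h.wi hB hww
  have htc := hB.central
  have h1 : i * w * (i * w) = 1 := by
    have h2 : i * w * i = w⁻¹ := by rw [← h.iw, h.hi.inv_eq]
    calc i * w * (i * w) = (i * w * i) * w := by group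
      _ = 1 := by rw [h2, inv_mul_cancel]
  have hwi : w = i * (i * w) := by rw [← mul_assoc, h.hi.1, one_mul]
  refine ⟨⟨h1, ?_, ?_⟩, h.hf, ?_, ?_, ?_⟩
  · intro h0
    rw [h0, mul_one] at hwi
    apply hB.ne
    rw [← hww, hwi, h.hi.1]
  · intro h0
    rw [h0] at hwi
    apply hB.ne
    calc t = w * w := hww.symm
      _ = (i * t) * (i * t) := by rw [hwi]
      _ = (i * i) * (t * t) := by rw [← mul_assoc, mul_assoc i t i, ← htc i]; group
      _ = 1 := by rw [h.hi.1, hB.sq, one_mul]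
  · -- `(i w)(f i) = (f i)(i w)`
    calc i * w * (f * i) = i * (w * f) * i := by group
      _ = (i * f) * (w * i) := by rw [← h.fw]; group
      _ = f * i * (t * w) * i := by rw [hif]; group
      _ = f * (i * w) * t * i := by rw [← htc w]; group
      _ = f * w * i * (t * t) * i := by rw [hiw]; group
      _ = f * w * (i * i) := by rw [hB.sq]; group
      _ = f * (i * i) * w := by rw [h.hi.1]; group
      _ = f * i * (i * w) := by group
  · rw [inv_of_sq hB (h.sq hB)]
    rw [mul_inv_eq_iff_eq_mul]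
    calc f * (f * i) = f * (f * i * t) * t := by
          rw [mul_assoc f (f * i * t) t, mul_assoc _ t t, hB.sq, mul_one]
      _ = f * i * f * t := by rw [← hif]; group
      _ = f * i * t * f := by rw [mul_assoc _ f t, htc f, ← mul_assoc]
  · rw [mul_inv_eq_iff_eq_mul]
    calc f * (i * w) = (f * i * t) * t * w := by rw [mul_assoc _ t t, hB.sq, mul_one, mul_assoc]
      _ = i * (f * t) * w := by rw [← hif]; group
      _ = i * t * (f * w) := by rw [htc f]; group
      _ = i * (t * w) * f := by rw [h.fw]; group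
      _ = i * w * t * f := by rw [← htc w]; group

theorem Pair.badInv [Finite Y] (hB : Base D t) {w f i : Y} (hbad : Bad D t w)
    (hn : ¬ NonIso t w) (h : Pair t w f i) : BadInv D t (f * i) := by
  have h1 := h.fix_subset hB hbad hn
  obtain ⟨hww, a, b, hab, ha, hb⟩ := hbad
  exact ⟨⟨h.sq hB, a, b, hab, h1 a ha, h1 b hb⟩, f, h.hf, (h.swap hB hww).iw⟩

/-- `Fix(f i) = Fix(w)` for a pair `(f, i)`, if `¬ NonIso t w'` for all `w'`. -/
theorem Pair.fix_iff [Finite Y] (hB : Base D t) (hall : ∀ w : Y, BadInv D t w → ¬ NonIso t w)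
    {w f i : Y} (hbad : BadInv D t w) (h : Pair t w f i) (a : D) :
    (f * i) • a = a ↔ w • a = a := by
  constructor
  · intro ha
    have hb := h.badInv hB hbad.1 (hall w hbad)
    have h1 := (h.swap hB hbad.1.1).fix_subset hB hb.1 (hall _ hb) a ha
    have h2 : i * w * f = f * i * w * t := by
      calc i * w * f = i * (f * w) := by rw [h.fw]; group
        _ = f * i * (t * w) := by rw [← mul_assoc, h.comm hB]; group
        _ = f * i * w * t := by rw [← hB.central]; group
    rw [h2, smul_mul_t hB, mul_smul] at h1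
    rw [← ha] at h1
    have h3 : (f * i) • (f * i) • a = a := by rw [ha, ha]
    have h4 : (f * i) • (w • (f * i) • a) = (f * i) • a := h1
    have h5 := smul_left_cancel _ h4
    rwa [ha] at h5
  · exact h.fix_subset hB hbad.1 (hall w hbad) a

/-- `(w, f, w i)` is a pair, too. -/
theorem Pair.mul_w (hB : Base D t) {w f i : Y} (hww : w * w = t) (h : Pair t w f i) :
    Pair t w f (w * i) := by
  have hiw := h.wi hB hww
  have htc := hB.central
  have h0 : w * i * (w * i) = 1 := by
    calc w * i * (w * i) = w * (i * w) * i := by group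
      _ = (w * w) * i * (t * i) := by rw [hiw]; group
      _ = (w * w) * (i * i) * t := by rw [← htc i]; group
      _ = 1 := by rw [hww, h.hi.1, mul_one, hB.sq]
  have hwi : w = (w * i) * i := by rw [mul_assoc, h.hi.1, mul_one]
  refine ⟨h.hf, ⟨h0, ?_, ?_⟩, h.fw, ?_, ?_⟩
  · intro h1
    rw [h1, one_mul] at hwi
    apply hB.ne
    rw [← hww, hwi, h.hi.1]
  · intro h1
    rw [h1] at hwi
    apply hB.ne
    calc t = w * w := hww.symm
      _ = (t * i) * (t * i) := by rw [hwi]
      _ = (t * t) * (i * i) := by rw [← htc i, mul_assoc i t, ← mul_assoc t i t, ← htc i]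
                                  rw [mul_assoc i t t, hB.sq, mul_one, one_mul]
      _ = 1 := by rw [h.hi.1, hB.sq, one_mul]
  · calc w * i * w * (w * i)⁻¹ = w * (i * w * i⁻¹) * w⁻¹ := by group
      _ = w⁻¹ := by rw [h.iw]; group
  · calc w * i * f * (w * i)⁻¹ = w * (i * f * i⁻¹) * w⁻¹ := by group
      _ = (w * f) * t * w⁻¹ := by rw [h.if']; group
      _ = f * (w * t) * w⁻¹ := by rw [← h.fw]; group
      _ = f * t := by rw [htc w]; group

end Cfsg.Agent.TwoGenCore.W2Core
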